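import Cfsg.Agent.Lib.PGroup.ExtraspecialClassify
import Cfsg.Agent.Lib.PGroup.CharPLocal
import Cfsg.Agent.Lib.Coprime.BenderPair
import Cfsg.Prelude.Def_Local

/-!
# The quadratic space of a self-centralizing extraspecial normal two-subgroup

For a finite group with an extraspecial generalized Fitting subgroup at two, the quotient of that subgroup by its
centre is a nondegenerate quadratic space on which the outer quotient acts faithfully.
-/

set_option autoImplicit false

namespace CfsgLib.Spor.LargeFischer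

open Subgroup
open scoped commutatorElement

universe u

/-- A quadratic space for `Q` with the action of the ambient group. -/
structure QuadSpace {C : Type u} [Group C] (Q : Subgroup C) (V : Type u) [AddCommGroup V] where
  /-- The projection. -/
  p : Q → V
  /-- The action. -/
  φ : C →* AddMonoid.End V
  /-- The quadratic form. -/
  S : V → ZMod 2
  /-- The polar form. -/
  B : V → V → ZMod 2
  add : ∀ a b, p (a * b) = p a + p b
  surj : Function.Surjective p
  ker : ∀ a : Q, p a = 0 ↔ a ∈ center Q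
  compat : ∀ (c : C) (a b : Q), (b : C) = c * a * c⁻¹ → φ c (p a) = p b
  kerφ : ∀ c, φ c = 1 ↔ c ∈ Q
  sq : ∀ a : Q, S (p a) = 0 ↔ a * a = 1
  S_add : ∀ x y, S (x + y) = S x + S y + B x y
  S_inv : ∀ c x, S (φ c x) = S x
  B_add : ∀ x y w, B (x + y) w = B x w + B y w
  B_symm : ∀ x y, B x y = B y x
  B_nondeg : ∀ x, (∀ y, B x y = 0) → x = 0
  two : ∀ x : V, x + x = 0
  B_comm : ∀ a b : Q, B (p a) (p b) = 0 ↔ a * b = b * a
  card : 2 * Nat.card V = Nat.card Q

variable {C : Type u} [Group C] [Finite C]

theorem exists_quadSpace (Q : Subgroup C) [hQn : Q.Normal] (hF : Cfsg.generalizedFittingSubgroup C = Q)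
    (hQ : Cfsg.IsExtraspecial 2 Q) :
    ∃ (V : Type u) (_ : AddCommGroup V), Nonempty (QuadSpace Q V) := by
  classical
  haveI : Fact (Nat.Prime 2) := ⟨Nat.prime_two⟩
  obtain ⟨hsc, e, he, he1⟩ := CfsgLib.PGroup.smallCenter_of_extraspecial hQ
  have hcen : ∀ x ∈ center Q, x = 1 ∨ x = e := by
    intro x hx
    by_contra hcon
    push Not at hcon
    have hs : ({1, e, x} : Finset Q).card = 3 :=
      Finset.card_eq_three.2 ⟨1, e, x, fun h => he1 h.symm, fun h => hcon.1 h.symm, fun h => hcon.2 h.symm, rfl⟩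
    have h3 := Finset.card_le_card (s := ({1, e, x} : Finset Q))
      (t := (center Q : Set Q).toFinite.toFinset) (by
        intro y hy
        rw [Set.Finite.mem_toFinset]
        simp only [Finset.mem_insert, Finset.mem_singleton] at hy
        rcases hy with rfl | rfl | rfl
        exacts [one_mem _, he, hx])
    rw [hs, ← Set.ncard_eq_toFinset_card _ (center Q : Set Q).toFinite,
      ← Nat.card_coe_set_eq, show Nat.card ↥(center Q : Set Q) = 2 from hsc.card_center] at h3
    omega
  let χ : Q → ZMod 2 := fun x => if x = 1 then 0 else 1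
  have hee : e * e = 1 := by rw [← pow_two, ← hsc.orderOf_eq he he1, pow_orderOf_eq_one]
  have hχ : ∀ x ∈ center Q, ∀ y ∈ center Q, χ (x * y) = χ x + χ y := by
    intro x hx y hy
    rcases hcen x hx with rfl | rfl <;> rcases hcen y hy with rfl | rfl <;> simp [χ, hee, he1] <;> rfl
  have hχ0 : ∀ x, χ x = 0 ↔ x = 1 := fun x => by
    by_cases h : x = 1 <;> simp [χ, h]
  have hcc : ∀ a b : Q, a * b = ⁅a, b⁆ * (b * a) := fun a b => by rw [commutatorElement_def]; group
  have hcomm_mul : ∀ a b w : Q, χ ⁅a * b, w⁆ = χ ⁅a, w⁆ + χ ⁅b, w⁆ := fun a b w => by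
    rw [show ⁅a * b, w⁆ = a * ⁅b, w⁆ * a⁻¹ * ⁅a, w⁆ by simp only [commutatorElement_def]; group,
      mem_center_iff.1 (hsc.comm_mem b w) a, mul_inv_cancel_right, hχ _ (hsc.comm_mem _ _) _ (hsc.comm_mem _ _),
      add_comm]
  have hsqmul : ∀ a b : Q, χ (a * b * (a * b)) = χ (a * a) + χ (b * b) + χ ⁅b, a⁆ := fun a b => by
    have h1 : a * b * (a * b) = ⁅b, a⁆ * (a * a * (b * b)) := by
      calc a * b * (a * b) = a * (b * a) * b := by group
        _ = a * (⁅b, a⁆ * (a * b)) * b := by rw [hcc b a]
        _ = ⁅b, a⁆ * a * (a * b) * b := by rw [← mul_assoc, mem_center_iff.1 (hsc.comm_mem b a) a]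
        _ = _ := by group
    have hp : ∀ g : Q, g * g ∈ center Q := fun g => by rw [← pow_two]; exact hsc.pow_mem g
    rw [h1, hχ _ (hsc.comm_mem _ _) _ (mul_mem (hp a) (hp b)), hχ _ (hp a) _ (hp b), add_comm]
  letI : CommGroup (Q ⧸ center Q) :=
    { (inferInstance : Group (Q ⧸ center Q)) with
      mul_comm := fun x y => by
        obtain ⟨a, rfl⟩ := QuotientGroup.mk_surjective x
        obtain ⟨b, rfl⟩ := QuotientGroup.mk_surjective y
        rw [← QuotientGroup.mk_mul, ← QuotientGroup.mk_mul, hcc a b, QuotientGroup.mk_mul,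
          (QuotientGroup.eq_one_iff _).2 (hsc.comm_mem a b), one_mul] }
  let p : Q → Additive (Q ⧸ center Q) := fun a => Additive.ofMul (QuotientGroup.mk a)
  have hadd : ∀ a b, p (a * b) = p a + p b := fun a b => rfl
  have hsurj : Function.Surjective p := fun x => by
    obtain ⟨a, ha⟩ := QuotientGroup.mk_surjective (Additive.toMul x)
    exact ⟨a, congrArg Additive.ofMul ha⟩
  have hker : ∀ a : Q, p a = 0 ↔ a ∈ center Q := fun a => QuotientGroup.eq_one_iff a
  have heq : ∀ a b : Q, p a = p b → ∃ c ∈ center Q, a = b * c := fun a b h =>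
    ⟨b⁻¹ * a, QuotientGroup.eq.1 (h.symm), (mul_inv_cancel_left b a).symm⟩
  let sec : Additive (Q ⧸ center Q) → Q := Function.surjInv hsurj
  have hsec : ∀ x, p (sec x) = x := Function.surjInv_eq hsurj
  let S : Additive (Q ⧸ center Q) → ZMod 2 := fun x => χ (sec x * sec x)
  let B : Additive (Q ⧸ center Q) → Additive (Q ⧸ center Q) → ZMod 2 := fun x y => χ ⁅sec y, sec x⁆
  have hce : ∀ c ∈ center Q, c * c = 1 := fun c hc => by
    rcases hcen c hc with rfl | rfl
    exacts [one_mul 1, hee]
  have hS : ∀ a, S (p a) = χ (a * a) := fun a => by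
    obtain ⟨c, hc, e'⟩ := heq _ a (hsec (p a))
    show χ (sec (p a) * sec (p a)) = _
    rw [e', mul_assoc, ← mul_assoc c a c, ← mem_center_iff.1 hc a, mul_assoc a c c, hce c hc, mul_one]
  have hB : ∀ a b, B (p a) (p b) = χ ⁅b, a⁆ := fun a b => by
    obtain ⟨c, hc, ea⟩ := heq _ a (hsec (p a))
    obtain ⟨d, hd, eb⟩ := heq _ b (hsec (p b))
    show χ ⁅sec (p b), sec (p a)⁆ = _
    rw [ea, eb]
    congr 1
    simp only [commutatorElement_def, _root_.mul_inv_rev]
    calc b * d * (a * c) * (d⁻¹ * b⁻¹) * (c⁻¹ * a⁻¹) = b * (d * (a * c)) * d⁻¹ * b⁻¹ * c⁻¹ * a⁻¹ := by group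
      _ = b * (a * c * d) * d⁻¹ * b⁻¹ * c⁻¹ * a⁻¹ := by rw [(mem_center_iff.1 hd (a * c)).symm]
      _ = b * a * (c * b⁻¹) * c⁻¹ * a⁻¹ := by group
      _ = b * a * (b⁻¹ * c) * c⁻¹ * a⁻¹ := by rw [mem_center_iff.1 hc b⁻¹]
      _ = _ := by group
  -- the action
  let act : C → (Q →* Q) := fun c => (MulAut.conjNormal c : MulAut Q).toMonoidHom
  have hact : ∀ c : C, ∀ z ∈ center Q, act c z ∈ center Q := fun c z hz => mem_center_iff.2 fun g => by
    obtain ⟨g', rfl⟩ := (MulAut.conjNormal c : MulAut Q).surjective g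
    show (MulAut.conjNormal c : MulAut Q) g' * (MulAut.conjNormal c : MulAut Q) z = _
    rw [← map_mul, mem_center_iff.1 hz g', map_mul]
    rfl
  let ac : C → (Q ⧸ center Q →* Q ⧸ center Q) := fun c =>
    QuotientGroup.map _ _ (act c) fun z hz => hact c z hz
  let φ : C →* AddMonoid.End (Additive (Q ⧸ center Q)) :=
    { toFun := fun c => MonoidHom.toAdditive (ac c)
      map_one' := by
        refine AddMonoidHom.ext fun x => ?_
        obtain ⟨a, rfl⟩ := hsurj x
        show p (act 1 a) = p a
        exact congrArg p (by simp [act])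
      map_mul' := fun c d => by
        refine AddMonoidHom.ext fun x => ?_
        obtain ⟨a, rfl⟩ := hsurj x
        show p (act (c * d) a) = p (act c (act d a))
        exact congrArg p (by simp [act]) }
  have hφ : ∀ c a, φ c (p a) = p (act c a) := fun c a => rfl
  refine ⟨Additive (Q ⧸ center Q), inferInstance, ⟨⟨p, φ, S, B, hadd, hsurj, hker, fun c a b hb => ?_, fun c => ?_,
    fun a => ?_, ?_, fun c x => ?_, ?_, ?_, fun x h => ?_, fun x => ?_, fun a b => ?_, ?_⟩⟩⟩
  · rw [hφ]
    exact congrArg p (Subtype.ext (show c * a * c⁻¹ = _ from hb.symm))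
  · constructor
    · intro hc
      -- the kernel is a normal two-group
      let K : Subgroup C := φ.ker
      have hK2 : IsPGroup 2 K := by
        refine IsPGroup.iff_orderOf.2 fun x => ?_
        obtain ⟨k, m, hm, hkm⟩ := Nat.exists_eq_two_pow_mul_odd (n := orderOf x) (orderOf_pos x).ne'
        refine ⟨k, ?_⟩
        suffices hm1 : m = 1 by rw [hkm, hm1, mul_one]
        set y : C := (x : C) ^ 2 ^ k with hy
        have hyord : orderOf y = m := by
          rw [hy, orderOf_pow' _ (Nat.two_pow_pos k).ne', ← Subgroup.orderOf_coe] at *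
          rw [hkm, Nat.gcd_mul_right_left]
          exact Nat.mul_div_cancel_left m (Nat.two_pow_pos k)
        have hyK : φ y = 1 := by rw [hy, map_pow, show φ (x : C) = 1 from x.2, one_pow]
        have hfix : ∀ a : Q, y * a * y⁻¹ = a := by
          intro a
          have h1 : p (act y a) = p a := by rw [← hφ, hyK]; rfl
          obtain ⟨z, hz, hza⟩ := heq _ _ h1
          have hzfix : ∀ n : ℕ, (y ^ n * a * (y ^ n)⁻¹ : C) = ((a * z ^ n : Q) : C) := by
            intro n
            induction n with
            | zero => simp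
            | succ n ih =>
              have h2 : act y z = z := by
                rcases hcen z hz with rfl | hz'
                · exact map_one _
                · rcases hcen _ (hact y z hz) with h3 | h3
                  · exact absurd ((MulAut.conjNormal y : MulAut Q).injective (h3.trans (map_one _).symm))
                      (fun h => he1 (hz'.symm.trans h))
                  · exact h3.trans hz'.symm
              rw [pow_succ', _root_.mul_inv_rev, show y * y ^ n * a * ((y ^ n)⁻¹ * y⁻¹) =
                y * (y ^ n * a * (y ^ n)⁻¹) * y⁻¹ by group, ih]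
              show ((act y (a * z ^ n) : Q) : C) = _
              rw [map_mul, map_pow, hza, h2, mul_assoc, ← pow_succ']
          have h4 := hzfix m
          rw [show y ^ m = 1 by rw [← hyord, pow_orderOf_eq_one], one_mul, inv_one, mul_one] at h4
          have hzm : z ^ m = 1 := by simpa using Subtype.ext h4
          have hz1 : z = 1 := by
            obtain ⟨j, rfl⟩ := hm
            rwa [pow_add, pow_mul, pow_two, hce z hz, one_pow, pow_one, one_mul] at hzm
          have h5 := congrArg Subtype.val hza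
          rw [hz1, mul_one] at h5
          exact h5
        have hyQ : y ∈ Q := by
          rw [← hF]
          exact CfsgLib.Coprime.centralizer_generalizedFitting_le (mem_centralizer_iff.2 fun q hq => by
            rw [hF] at hq
            have := hfix ⟨q, hq⟩
            exact (mul_inv_eq_iff_eq_mul.1 this).symm)
        have hd : orderOf y ∣ Nat.card Q := Subgroup.orderOf_dvd_natCard Q hyQ
        obtain ⟨n, hn⟩ := hQ.1.1.exists_card_eq
        rw [hyord, hn] at hd
        exact Nat.eq_one_of_dvd_coprimes (Nat.Coprime.pow_right n (Nat.coprime_two_right.2 hm)) dvd_rfl hd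
      haveI : K.Normal := MonoidHom.normal_ker φ
      have hle : K ≤ Q := hF ▸ (CfsgLib.Coprime.le_pCore hK2).trans
        ((CfsgLib.Coprime.pCore_le_fitting 2).trans CfsgLib.Coprime.fitting_le_generalizedFitting)
      exact hle (MonoidHom.mem_ker.2 hc)
    · intro hc
      refine AddMonoidHom.ext fun x => ?_
      obtain ⟨a, rfl⟩ := hsurj x
      show p (act c a) = p a
      refine congrArg Additive.ofMul (QuotientGroup.eq.2 ?_)
      have h1 : (act c a : Q) = ⟨c, hc⟩ * a * ⟨c, hc⟩⁻¹ := Subtype.ext rfl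
      rw [h1, show (⟨c, hc⟩ * a * ⟨c, hc⟩⁻¹)⁻¹ * a = ⁅(⟨c, hc⟩ : Q), a⁻¹⁆ by
        simp only [commutatorElement_def]; group]
      exact hsc.comm_mem _ _
  · rw [hS, hχ0]
  · intro x y
    obtain ⟨a, rfl⟩ := hsurj x
    obtain ⟨b, rfl⟩ := hsurj y
    rw [← hadd, hS, hS, hS, hB, hsqmul]
  · obtain ⟨a, rfl⟩ := hsurj x
    rw [hφ, hS, hS, ← map_mul]
    show χ ((MulAut.conjNormal c : MulAut Q) (a * a)) = _
    simp only [χ, MulEquiv.map_eq_one_iff]
  · intro x y w
    obtain ⟨a, rfl⟩ := hsurj x
    obtain ⟨b, rfl⟩ := hsurj y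
    obtain ⟨d, rfl⟩ := hsurj w
    rw [← hadd, hB, hB, hB]
    have hswap : ∀ u v : Q, χ ⁅u, v⁆ = χ ⁅v, u⁆ := fun u v => by
      rw [← commutatorElement_inv v u]
      rcases hcen _ (hsc.comm_mem v u) with h | h <;> rw [h]
      · rw [inv_one]
      · rw [inv_eq_of_mul_eq_one_right hee]
    rw [hswap d, hswap d, hswap d, hcomm_mul]
  · intro x y
    obtain ⟨a, rfl⟩ := hsurj x
    obtain ⟨b, rfl⟩ := hsurj y
    rw [hB, hB, ← commutatorElement_inv a b]
    rcases hcen _ (hsc.comm_mem a b) with h | h <;> rw [h]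
    · rw [inv_one]
    · rw [inv_eq_of_mul_eq_one_right hee]
  · obtain ⟨a, rfl⟩ := hsurj x
    rw [hker, mem_center_iff]
    intro b
    have := h (p b)
    rw [hB, hχ0, commutatorElement_eq_one_iff_mul_comm] at this
    exact this
  · obtain ⟨a, rfl⟩ := hsurj x
    rw [← hadd, hker, ← pow_two]
    exact hsc.pow_mem a
  · rw [hB, hχ0, commutatorElement_eq_one_iff_mul_comm]
    exact eq_comm
  · rw [show Nat.card (Additive (Q ⧸ center Q)) = Nat.card (Q ⧸ center Q) from Nat.card_congr Additive.toMul,
      ← hsc.card_center, mul_comm, ← Subgroup.card_eq_card_quotient_mul_card_subgroup]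

end CfsgLib.Spor.LargeFischer
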