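import Mathlib.Init

/-!
Words for the images of the two generators under the field and the monomial automorphism.
-/

set_option autoImplicit false

namespace CfsgLib.Spor.LargeFischer.Auto

/-- The four images as words, up to scalars. -/
def words : List (List Nat × Nat) := [([3, 0, 0, 1, 1, 2, 3, 0, 1, 0, 1, 0, 1, 1], 2), ([0, 3, 2, 1, 0, 1, 2, 3, 0, 1, 0, 3, 2, 3, 3], 2), ([2, 3, 3, 2, 3, 2, 2, 3, 3, 2, 2, 1], 3), ([0, 0, 1, 1, 2, 3, 2, 3, 0, 3, 0, 3, 0, 0, 1, 0], 3)]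

/-- Their trajectories. -/
def trajs : List (List (List Nat)) := [[[950, 2053, 1362, 2931, 766, 2601, 1, 3988, 3878, 2283, 30, 494, 2562, 3988, 1], [2515, 848, 1118, 2895, 2302, 2761, 768, 3974, 3174, 3405, 1920, 1326, 3585, 3862, 4], [2267, 944, 350, 405, 3863, 2792, 2048, 2673, 3910, 1682, 45, 3225, 180, 1259, 16], [3692, 1033, 1372, 2879, 2802, 745, 64, 918, 3940, 3452, 1344, 2675, 120, 918, 64], [2507, 656, 2695, 3221, 1448, 2785, 8, 1323, 443, 1558, 1728, 2631, 3330, 1483, 256], [2331, 1030, 3897, 3476, 2766, 2281, 48, 3222, 2769, 1003, 63, 3992, 84, 1507, 1024]],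
  [[3944, 2346, 1796, 3402, 3762, 3666, 3096, 648, 3725, 3294, 2889, 512, 2637, 775, 2796, 1], [3881, 490, 3848, 3041, 3726, 2505, 321, 2082, 2020, 4046, 2169, 32, 2173, 1232, 885, 4], [2263, 1925, 2828, 2853, 2153, 3166, 1080, 456, 669, 4060, 2936, 192, 637, 1184, 3189, 16], [873, 3199, 211, 3448, 2345, 505, 897, 2067, 1254, 2617, 889, 1, 3988, 1136, 2787, 64], [2759, 3708, 226, 671, 3772, 3614, 1044, 1059, 2018, 1379, 2929, 8, 1323, 271, 1418, 256], [2771, 1937, 241, 1183, 361, 2552, 834, 396, 3613, 990, 2873, 2048, 2673, 523, 1306, 1024]],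
  [[3480, 683, 3212, 1092, 3416, 2063, 1100, 1577, 3436, 2959, 3878, 3988, 1], [749, 1699, 3140, 786, 2295, 496, 289, 3527, 3406, 1562, 870, 3862, 4], [3227, 1675, 274, 1224, 1582, 2054, 3140, 1633, 3025, 3317, 3938, 1259, 16], [2930, 1579, 2180, 1164, 3409, 688, 307, 2238, 2265, 1624, 3940, 918, 64], [3467, 1195, 802, 531, 3401, 880, 3212, 1640, 366, 501, 1211, 1483, 256], [3355, 1704, 787, 273, 345, 2057, 817, 617, 2841, 2979, 2765, 1507, 1024]],
  [[2615, 1794, 99, 3041, 3726, 3263, 686, 2520, 3079, 4088, 3028, 2139, 603, 1254, 2617, 889, 1], [2675, 120, 225, 3044, 1815, 2890, 1698, 621, 1039, 4081, 363, 1734, 1837, 3729, 4050, 1763, 4], [3225, 180, 3588, 1679, 2003, 1745, 1708, 3681, 416, 2215, 1677, 1590, 2502, 3740, 2697, 1255, 16], [631, 3843, 162, 1183, 361, 2858, 3401, 3661, 992, 4041, 2262, 3500, 2546, 998, 1380, 3484, 64], [3977, 1539, 1284, 997, 2004, 725, 3161, 3181, 464, 679, 1713, 429, 2548, 2379, 2233, 1735,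 256], [3992, 84, 2820, 1567, 1239, 3516, 3353, 1846, 3085, 2599, 3371, 2899, 2294, 2363, 697, 1575, 1024]]]

end CfsgLib.Spor.LargeFischer.Auto
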