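import Cfsg.Agent.Lib.Spor.LargeFischer.Maps
import Cfsg.Agent.Lib.Spor.LargeFischer.OrbitData
import Cfsg.Agent.Lib.Spor.LargeFischer.EltData

/-!
# The two orbits of the triple cover on singular vectors
-/

set_option autoImplicit false
set_option maxRecDepth 100000

namespace CfsgLib.Spor.LargeFischer

open Matrix CfsgLib.Spor.U43Six CfsgLib.Spor.Fi22.U6

/-- The base vector of the small orbit. -/
def uA : V6 := dec (Orb.aPts.getD 0 0)

/-- The base vector of the large orbit. -/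
def vB : V6 := dec 85

/-- The normalised vector. -/
def nrm (x : V6) : V6 := lead x ^ 2 • x

/-- The small orbit. -/
def InA (x : V6) : Prop := x ≠ 0 ∧ enc (nrm x) ∈ Orb.aPts

instance (x : V6) : Decidable (InA x) := inferInstanceAs (Decidable (_ ∧ _))

/-- The large orbit. -/
def InB (x : V6) : Prop := x ≠ 0 ∧ hf x x = 0 ∧ ¬ InA x

theorem ofN_toN : ∀ a : Four, ofN (toN a) = a := by decide

theorem toN_lt : ∀ a : Four, toN a < 4 := by decide

theorem digit_ok : ∀ n < 4096, ∀ i : Fin 6, (n >>> (2 * i.1)) &&& 3 = n / 4 ^ i.1 % 4 := fun n _ i => by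
  rw [show (3 : ℕ) = 2 ^ 2 - 1 from rfl, Nat.and_two_pow_sub_one_eq_mod, Nat.shiftRight_eq_div_pow, pow_mul]
  norm_num

theorem enc_lt (x : V6) : enc x < 4096 := by
  have h := fun i => toN_lt (x i)
  have := h 0; have := h 1; have := h 2; have := h 3; have := h 4; have := h 5
  simp only [enc]; omega

theorem dec_enc (x : V6) : dec (enc x) = x := by
  have h := fun i => toN_lt (x i)
  have := h 0; have := h 1; have := h 2; have := h 3; have := h 4; have := h 5
  funext i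
  rw [dec, digit_ok _ (enc_lt x)]
  refine Eq.trans (congrArg ofN ?_) (ofN_toN _)
  match i with
  | 0 | 1 | 2 | 3 | 4 | 5 => simp only [enc]; norm_num; omega

theorem cube : ∀ c : Four, c ≠ 0 → c ^ 2 * c = 1 := by decide

theorem exists_lead : ∀ n < 4096, dec n = 0 ∨ lead (dec n) ≠ 0 := by decide +kernel

theorem lead_ne {x : V6} (hx : x ≠ 0) : lead x ≠ 0 := by
  rcases exists_lead _ (enc_lt x) with h | h <;> rw [dec_enc] at h
  · exact absurd h hx
  · exact h

theorem nrm_smul {c : Four} (hc : c ≠ 0) (x : V6) : nrm (c • x) = nrm x := by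
  rw [nrm, nrm, lead_smul c hc, smul_smul, mul_pow]
  congr 1
  rw [mul_right_comm, cube c hc, one_mul]

theorem smul_nrm {x : V6} (hx : x ≠ 0) : x = lead x • nrm x := by
  rw [nrm, smul_smul, mul_comm, cube _ (lead_ne hx), one_smul]

theorem smul_ne {c : Four} (hc : c ≠ 0) {x : V6} (hx : x ≠ 0) : c • x ≠ 0 := by
  intro h
  rcases smul_eq_zero.1 h with h | h
  exacts [hc h, hx h]

theorem pts_lists : (∀ i : Fin 126, Data.pts.getD i.1 0 ∈ Orb.aPts) ∧ (∀ n ∈ Orb.aPts, n ∈ Data.pts) ∧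
    Orb.aPts.length = 126 ∧ Orb.bPts.length = 567 := by decide +kernel

theorem inA_pv {c : Four} (hc : c ≠ 0) (i : Fin 126) : InA (c • pv i) := by
  have h1 : pv i ≠ 0 := fun h => by
    have := (pts_ok.1 i).1
    rw [h] at this
    exact absurd this (by decide)
  refine ⟨smul_ne hc h1, ?_⟩
  rw [nrm_smul hc, nrm, (pts_ok.1 i).1, one_pow, one_smul, (pts_ok.1 i).2]
  exact pts_lists.1 i

theorem inA_iff {x : V6} : InA x ↔ ∃ c : Four, c ≠ 0 ∧ ∃ i, x = c • pv i := by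
  refine ⟨fun ⟨hx, h⟩ => ?_, fun ⟨c, hc, i, hi⟩ => hi ▸ inA_pv hc i⟩
  have h2 := pts_lists.2.1 _ h
  obtain ⟨i, hi, e⟩ := List.getElem_of_mem h2
  refine ⟨lead x, lead_ne hx, ⟨i, pts_ok.2.1 ▸ hi⟩, ?_⟩
  rw [pv, List.getD_eq_getElem _ _ hi, e, dec_enc]
  exact smul_nrm hx

theorem inA_lin {g : G6} (hg : g ∈ K1) {x : V6} (hx : InA x) : InA (lin g x) := by
  obtain ⟨c, hc, i, rfl⟩ := inA_iff.1 hx
  obtain ⟨j, d, hd, e⟩ := maps_exists hg i
  rw [lin_apply, mulVec_smul, e, smul_smul]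
  exact inA_pv (mul_ne_zero hc hd) j

theorem inA_lin_iff {g : G6} (hg : g ∈ K1) {x : V6} : InA (lin g x) ↔ InA x := by
  refine ⟨fun h => ?_, inA_lin hg⟩
  have h2 := inA_lin (inv_mem hg) h
  rwa [← Equiv.Perm.mul_apply, ← map_mul, inv_mul_cancel, map_one] at h2

/-- A spanning tree of an orbit. -/
def treeOK (L : List ℕ) (P : List (ℕ × ℕ × ℕ)) (i : ℕ) : Prop :=
  i = 0 ∨ ((P.getD i (0, 0, 0)).1 < i ∧ (P.getD i (0, 0, 0)).2.1 < 4 ∧ ofN (P.getD i (0, 0, 0)).2.2 ≠ 0 ∧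
    tmat Data.abRows (P.getD i (0, 0, 0)).2.1 *ᵥ dec (L.getD (P.getD i (0, 0, 0)).1 0) =
      ofN (P.getD i (0, 0, 0)).2.2 • dec (L.getD i 0))

instance (L : List ℕ) (P : List (ℕ × ℕ × ℕ)) (i : ℕ) : Decidable (treeOK L P i) :=
  inferInstanceAs (Decidable (_ ∨ _))

theorem a_tree : ∀ i < 126, treeOK Orb.aPts Orb.aPar i := by decide +kernel

theorem b_tree : ∀ i < 567, treeOK Orb.bPts Orb.bPar i := by decide +kernel

theorem exists_scalar {c : Four} (hc : c ≠ 0) : ∃ g ∈ K1, ∀ x, lin g x = c • x := by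
  have h : (scalarM c).det = 1 ∧ (scalarM c)ᵀ * (scalarM c).map (fun x => x ^ 2) = 1 := by
    refine ⟨by rw [scalarM, det_smul, det_one, mul_one, Fintype.card_fin, scalar_det c hc], ?_⟩
    revert c; decide +kernel
  exact ⟨mkG _ h, scalars_le ⟨c, rfl⟩, fun x => by rw [lin_apply, mat_mkG, scalarM, smul_mulVec, one_mulVec]⟩

theorem reach {L : List ℕ} {P : List (ℕ × ℕ × ℕ)} {n : ℕ} (h : ∀ i < n, treeOK L P i) :
    ∀ i < n, ∀ c : Four, c ≠ 0 → ∃ g ∈ K1, lin g (dec (L.getD 0 0)) = c • dec (L.getD i 0) := by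
  intro i
  induction i using Nat.strong_induction_on with
  | _ i ih =>
    intro hi c hc
    rcases h i hi with rfl | ⟨hp, hk, hd, e⟩
    · obtain ⟨g, hg, hx⟩ := exists_scalar hc
      exact ⟨g, hg, hx _⟩
    · generalize hd' : ofN (P.getD i (0, 0, 0)).2.2 = d at hd e
      obtain ⟨g, hg, hx⟩ := ih _ hp (hp.trans hi) (c * d⁻¹) (mul_ne_zero hc (inv_ne_zero hd))
      refine ⟨gab ⟨_, hk⟩ * g, mul_mem (gab_mem _) hg, ?_⟩
      rw [map_mul, Equiv.Perm.mul_apply, hx, lin_apply, gab, mat_mkG, mulVec_smul, e, smul_smul]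
      congr 1
      exact inv_mul_cancel_right₀ hd c

theorem classify : ∀ n < 4096, hf (dec n) (dec n) = 0 → dec n = 0 ∨ enc (nrm (dec n)) ∈ Orb.aPts ∨
    enc (nrm (dec n)) ∈ Orb.bPts := by decide +kernel

theorem b_singular : ∀ i < 567, hf (dec (Orb.bPts.getD i 0)) (dec (Orb.bPts.getD i 0)) = 0 ∧
    lead (dec (Orb.bPts.getD i 0)) = 1 ∧ enc (dec (Orb.bPts.getD i 0)) = Orb.bPts.getD i 0 ∧
    Orb.bPts.getD i 0 ∉ Orb.aPts := by decide +kernel

theorem a_singular : ∀ i : Fin 126, hf (pv i) (pv i) = 0 := by decide +kernel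

theorem hf_smul_self {c : Four} (hc : c ≠ 0) (x : V6) : hf (c • x) (c • x) = hf x x := by
  simp only [hf, Cfsg.hermForm, Pi.smul_apply, smul_eq_mul, mul_pow]
  refine Finset.sum_congr rfl fun i _ => ?_
  rw [mul_mul_mul_comm, mul_comm c (c ^ 2), cube c hc, one_mul]

theorem inA_singular {x : V6} (hx : InA x) : hf x x = 0 := by
  obtain ⟨c, hc, i, rfl⟩ := inA_iff.1 hx
  rw [hf_smul_self hc, a_singular]

theorem trans_A {x : V6} (hx : InA x) : ∃ g ∈ K1, lin g uA = x := by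
  obtain ⟨hx0, h⟩ := hx
  obtain ⟨i, hi, e⟩ := List.getElem_of_mem h
  obtain ⟨g, hg, hgx⟩ := reach a_tree i (pts_lists.2.2.1 ▸ hi) _ (lead_ne hx0)
  refine ⟨g, hg, hgx.trans ?_⟩
  rw [List.getD_eq_getElem _ _ hi, e, dec_enc]
  exact (smul_nrm hx0).symm

theorem trans_B {x : V6} (hx : InB x) : ∃ g ∈ K1, lin g vB = x := by
  obtain ⟨hx0, hs, hA⟩ := hx
  rcases classify _ (enc_lt x) (by rw [dec_enc]; exact hs) with h | h | h <;> rw [dec_enc] at h
  · exact absurd h hx0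
  · exact absurd ⟨hx0, h⟩ hA
  obtain ⟨i, hi, e⟩ := List.getElem_of_mem h
  obtain ⟨g, hg, hgx⟩ := reach b_tree i (pts_lists.2.2.2 ▸ hi) _ (lead_ne hx0)
  refine ⟨g, hg, Eq.trans ?_ (hgx.trans ?_)⟩
  · rw [show (Orb.bPts.getD 0 0) = 85 from rfl]
    rfl
  · rw [List.getD_eq_getElem _ _ hi, e, dec_enc]
    exact (smul_nrm hx0).symm

theorem base_facts : InA uA ∧ hf uA uA = 0 ∧ vB ≠ 0 ∧ hf vB vB = 0 ∧ ¬ InA vB := by decide +kernel

theorem inB_vB : InB vB := ⟨base_facts.2.2.1, base_facts.2.2.2.1, base_facts.2.2.2.2⟩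

/-- Semilinear permutations preserving orthogonality and the small orbit. -/
structure Good (f : Equiv.Perm V6) : Prop where
  add : ∀ x y, f (x + y) = f x + f y
  scal : ∀ (c : Four) (x : V6), ∃ c' : Four, (c ≠ 0 → c' ≠ 0) ∧ f (c • x) = c' • f x
  orth : ∀ x y, hf (f x) (f y) = 0 ↔ hf x y = 0
  pts : ∀ x, InA (f x) ↔ InA x

theorem Good.zero {f : Equiv.Perm V6} (h : Good f) : f 0 = 0 := by
  have h0 := h.add 0 0
  rw [add_zero] at h0
  exact add_right_cancel (h0.symm.trans (zero_add _).symm)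

theorem Good.mul {f g : Equiv.Perm V6} (hf' : Good f) (hg : Good g) : Good (f * g) := by
  refine ⟨fun x y => ?_, fun c x => ?_, fun x y => ?_, fun x => ?_⟩
  · simp only [Equiv.Perm.mul_apply, hg.add, hf'.add]
  · obtain ⟨d, hd, e⟩ := hg.scal c x
    obtain ⟨d', hd', e'⟩ := hf'.scal d (g x)
    exact ⟨d', fun h => hd' (hd h), by rw [Equiv.Perm.mul_apply, e, e', Equiv.Perm.mul_apply]⟩
  · simp only [Equiv.Perm.mul_apply, hf'.orth, hg.orth]
  · simp only [Equiv.Perm.mul_apply, hf'.pts, hg.pts]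

theorem hf_lin (g : G6) (x y : V6) : hf (lin g x) (lin g y) = hf x y := g.2 x y

theorem good_lin {g : G6} (hg : g ∈ K1) : Good (lin g) :=
  ⟨fun x y => mulVec_add _ x y, fun c x => ⟨c, id, mulVec_smul _ c x⟩, fun x y => by rw [hf_lin],
    fun _ => inA_lin_iff hg⟩

theorem good_KP {k : Equiv.Perm V6} (hk : k ∈ KP) : Good k := by
  obtain ⟨g, hg, rfl⟩ := hk
  exact good_lin hg

theorem outer_pts : ∀ i : Fin 126, InA (lin U43Six.sw (pv i)) ∧ InA (frob (pv i)) := by decide +kernel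

theorem good_frob : Good frob := by
  have hscal : ∀ (c : Four) (x : V6), frob (c • x) = c ^ 2 • frob x := fun c x => funext fun r => mul_pow _ _ 2
  have hA : ∀ x, InA x → InA (frob x) := fun x hx => by
    obtain ⟨c, hc, i, rfl⟩ := inA_iff.1 hx
    obtain ⟨c', hc', j, e⟩ := inA_iff.1 (outer_pts i).2
    rw [hscal, e, smul_smul]
    exact inA_pv (mul_ne_zero (pow_ne_zero _ hc) hc') j
  refine ⟨fun x y => funext fun r => sq_add _ _, fun c x => ⟨c ^ 2, fun h => pow_ne_zero _ h, hscal c x⟩,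
    fun x y => ?_, fun x => ⟨fun h => ?_, hA x⟩⟩
  · rw [hf_frob, pow_eq_zero_iff two_ne_zero]
  · have h2 := hA _ h
    rwa [← Equiv.Perm.mul_apply, frob_sq, Equiv.Perm.one_apply] at h2

theorem good_sw : Good (lin U43Six.sw) := by
  have hA : ∀ x, InA x → InA (lin U43Six.sw x) := fun x hx => by
    obtain ⟨c, hc, i, rfl⟩ := inA_iff.1 hx
    obtain ⟨c', hc', j, e⟩ := inA_iff.1 (outer_pts i).1
    rw [lin_apply, mulVec_smul, ← lin_apply, e, smul_smul]
    exact inA_pv (mul_ne_zero hc hc') j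
  refine ⟨fun x y => mulVec_add _ x y, fun c x => ⟨c, id, mulVec_smul _ c x⟩, fun x y => by rw [hf_lin],
    fun x => ⟨fun h => ?_, hA x⟩⟩
  have h2 := hA _ h
  rwa [← Equiv.Perm.mul_apply, ← map_mul, show U43Six.sw * U43Six.sw = 1 from by
    nth_rewrite 1 [← sw_inv]; rw [inv_mul_cancel], map_one, Equiv.Perm.one_apply] at h2

theorem good_outer (o : Outer) : Good o.perm := by
  cases o
  · exact good_sw
  · exact good_frob
  · exact good_frob.mul good_sw

theorem Good.inB {f : Equiv.Perm V6} (h : Good f) {x : V6} : InB (f x) ↔ InB x := by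
  refine and_congr ?_ (and_congr (h.orth x x) (not_congr (h.pts x)))
  exact not_congr ⟨fun e => f.injective (e.trans h.zero.symm), fun e => by rw [e, h.zero]⟩

end CfsgLib.Spor.LargeFischer
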