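import Cfsg.Agent.Lib.Spor.LargeFischer.Coord
import Cfsg.Agent.Lib.Spor.LargeFischer.Orbits
import Cfsg.Agent.Lib.Spor.LargeExtraQuotient
import Cfsg.Agent.Lib.Spor.LargeExtraConjCentre
import Cfsg.Agent.Lib.Spor.LargeExtraDuo
import Cfsg.Agent.Lib.Spor.AffineExtraspecial
import Cfsg.Agent.Lib.PGroup.ExtraspecialIndexP
import Cfsg.Prelude.Def_MonsterType

/-!
# Groups of large Fischer type: the extraspecial subgroup in coordinates
-/

set_option autoImplicit false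

namespace CfsgLib.Spor.LargeFischer

open Subgroup CfsgLib.Spor.U43Six CfsgLib.Spor.Fi22.U6

variable {G : Type*} [Group G] [Finite G]

/-- Coordinates on `Q` and the action of the centralizer. -/
structure Data (z : G) (Q : Subgroup G) (vec : G → V6) (φ : ↥(centralizer ({z} : Set G)) →* Equiv.Perm V6)
    (o : Outer) : Prop where
  core : LargeQ.Core Q z
  card : Nat.card Q = 2 ^ 13
  add : ∀ a ∈ Q, ∀ b ∈ Q, vec (a * b) = vec a + vec b
  surj : ∀ x, ∃ q ∈ Q, vec q = x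
  ker : ∀ q ∈ Q, (vec q = 0 ↔ q = 1 ∨ q = z)
  sq : ∀ q ∈ Q, (hf (vec q) (vec q) = 0 ↔ q * q = 1)
  comm : ∀ a ∈ Q, ∀ b ∈ Q, (trF (hf (vec a) (vec b)) = 0 ↔ a * b = b * a)
  conj : ∀ (c : ↥(centralizer ({z} : Set G))), ∀ q ∈ Q, vec ((c : G) * q * (c : G)⁻¹) = φ c (vec q)
  kerφ : ∀ c : ↥(centralizer ({z} : Set G)), φ c = 1 ↔ (c : G) ∈ Q
  range_le : ∀ c, φ c ∈ KP ∨ ∃ k ∈ KP, φ c = k * o.perm
  K1_le : ∀ k ∈ KP, ∃ c, φ c = k
  outer_mem : ∃ c, φ c = o.perm
  not_mem : o.perm ∉ KP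

theorem exists_data {z : G} {Q : Subgroup (centralizer ({z} : Set G))} [Q.Normal]
    (hF : Cfsg.IsOfLargeFischerTypeAt z Q) :
    ∃ (vec : G → V6) (φ : ↥(centralizer ({z} : Set G)) →* Equiv.Perm V6) (o : Outer),
      Data z (Q.map (centralizer ({z} : Set G)).subtype) vec φ o ∧ (∀ c, φ c = 1 ↔ c ∈ Q) ∧
      ∃ g : G, g * z * g⁻¹ ∈ Q.map (centralizer ({z} : Set G)).subtype ∧ g * z * g⁻¹ ≠ z := by
  classical
  haveI : Fact (Nat.Prime 2) := ⟨Nat.prime_two⟩
  obtain ⟨⟨hz, hgf, hQ, hcard, g, ⟨hq, hm⟩, hne⟩, N, M, hN, hM, hQN, hNM, hcN, ⟨F, _, _, hF9, ⟨e⟩⟩, hM2⟩ := hF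
  obtain ⟨P⟩ := exists_pre Q N M hgf hQ hcard hQN hNM hcN hF9 e hM2
  have hcore : LargeQ.Core (Q.map (centralizer ({z} : Set G)).subtype) z := by
    refine LargeQ.core_of_fitting z hz _ (by rw [hgf]) ?_
    exact CfsgLib.Spor.Affine.isExtraspecial_congr (Q.equivMapOfInjective (centralizer ({z} : Set G)).subtype
      (centralizer ({z} : Set G)).subtype_injective) hQ
  have inj : ∀ {p q : Q}, ((p : centralizer ({z} : Set G)) : G) = ((q : centralizer ({z} : Set G)) : G) → p = q :=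
    fun h => Subtype.ext (Subtype.ext h)
  let vec : G → V6 := fun x => if h : ∃ a : Q, ((a : centralizer ({z} : Set G)) : G) = x then P.p (Classical.choose h)
    else 0
  have hvec : ∀ a : Q, vec ((a : centralizer ({z} : Set G)) : G) = P.p a := fun a => by
    simp only [vec]
    rw [dif_pos ⟨a, rfl⟩]
    exact congrArg P.p (inj (Classical.choose_spec (⟨a, rfl⟩ :
      ∃ b : Q, ((b : centralizer ({z} : Set G)) : G) = ((a : centralizer ({z} : Set G)) : G))))
  have back : ∀ {x}, x ∈ Q.map (centralizer ({z} : Set G)).subtype →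
      ∃ a : Q, ((a : centralizer ({z} : Set G)) : G) = x := fun ⟨a, ha, e'⟩ => ⟨⟨a, ha⟩, e'⟩
  refine ⟨vec, P.φ, P.outer, ⟨hcore, ?_, ?_, fun x => ?_, ?_, ?_, ?_, ?_, fun c => ?_, P.range_le, P.K1_le,
    P.outer_mem, ?_⟩, P.kerφ, g, mem_map_of_mem _ hm, hne⟩
  · rw [← Nat.card_congr (Q.equivMapOfInjective (centralizer ({z} : Set G)).subtype
      (centralizer ({z} : Set G)).subtype_injective).toEquiv, hcard]
  · intro a ha b hb
    obtain ⟨a, rfl⟩ := back ha
    obtain ⟨b, rfl⟩ := back hb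
    rw [hvec, hvec, ← P.add, ← hvec]
    rfl
  · obtain ⟨a, rfl⟩ := P.surj x
    exact ⟨_, mem_map_of_mem _ a.2, hvec a⟩
  · intro q hq
    obtain ⟨a, rfl⟩ := back hq
    rw [hvec, P.ker, ← hcore.center_iff]
    constructor
    · intro ha
      refine ⟨⟨_, mem_map_of_mem _ a.2⟩, mem_center_iff.2 fun b => ?_, rfl⟩
      obtain ⟨b, b', hb, rfl⟩ := b
      exact Subtype.ext (congrArg (fun r : Q => ((r : centralizer ({z} : Set G)) : G))
        (mem_center_iff.1 ha ⟨b', hb⟩))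
    · rintro ⟨w, hw, e'⟩
      refine mem_center_iff.2 fun b => inj ?_
      have h := congrArg Subtype.val (mem_center_iff.1 hw ⟨_, mem_map_of_mem _ b.2⟩)
      simp only [Subgroup.coe_mul, coe_subtype] at h e' ⊢
      rwa [e'] at h
  · intro q hq
    obtain ⟨a, rfl⟩ := back hq
    rw [hvec, P.sq]
    exact ⟨fun h => congrArg (fun r : Q => ((r : centralizer ({z} : Set G)) : G)) h, fun h => inj h⟩
  · intro a ha b hb
    obtain ⟨a, rfl⟩ := back ha
    obtain ⟨b, rfl⟩ := back hb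
    rw [hvec, hvec, P.comm]
    exact ⟨fun h => congrArg (fun r : Q => ((r : centralizer ({z} : Set G)) : G)) h, fun h => inj h⟩
  · intro c q hq
    obtain ⟨a, rfl⟩ := back hq
    rw [show (c : G) * ((a : centralizer ({z} : Set G)) : G) * (c : G)⁻¹ =
      (((⟨c * a * c⁻¹, (inferInstance : Q.Normal).conj_mem _ a.2 c⟩ : Q) : centralizer ({z} : Set G)) : G) from rfl,
      hvec, hvec]
    exact (P.compat c a _ rfl).symm
  · rw [P.kerφ]
    exact ⟨fun h => mem_map_of_mem _ h, fun ⟨d, hd, hdc⟩ => by rwa [show d = c from Subtype.ext hdc] at hd⟩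
  · intro ho
    refine absurd hM2 ?_
    have htop : M = ⊤ := eq_top_iff.2 fun c _ => (P.mem_M c).2 (by
      rcases P.range_le c with h | ⟨k, hk, h⟩
      · exact h
      · exact h ▸ mul_mem hk ho)
    rw [htop, index_top]
    omega

namespace Data

variable {z : G} {Q : Subgroup G} {vec : G → V6} {φ : ↥(centralizer ({z} : Set G)) →* Equiv.Perm V6} {o : Outer}
  (D : Data z Q vec φ o)
include D

theorem zz : z * z = 1 := by rw [← pow_two, ← D.core.ord, pow_orderOf_eq_one]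

theorem z_ne : z ≠ 1 := fun h => by have := D.core.ord; rw [h, orderOf_one] at this; omega

theorem half : LargeQ.Half Q z where
  mem := D.core.mem
  ne := D.z_ne
  sq := D.zz
  cz q hq := mem_centralizer_singleton_iff.1 (D.core.le hq)
  comm := D.core.comm_eq
  sqQ := D.core.sq_eq
  norm := D.core.norm
  cent c hc := (D.core.center_iff c).1 (D.core.cent ▸ mem_centralizer_iff.2 hc)
  two := IsPGroup.of_card (n := 13) D.card

theorem good (c : ↥(centralizer ({z} : Set G))) : Good (φ c) := by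
  rcases D.range_le c with h | ⟨k, hk, h⟩
  · exact good_KP h
  · exact h ▸ (good_KP hk).mul (good_outer o)

theorem vec_one : vec 1 = 0 := (D.ker 1 (one_mem Q)).2 (Or.inl rfl)

theorem vec_z : vec z = 0 := (D.ker z D.core.mem).2 (Or.inr rfl)

theorem same_class {a b : G} (ha : a ∈ Q) (hb : b ∈ Q) (h : vec a = vec b) : b = a ∨ b = a * z := by
  have hi : vec (a⁻¹ * b) = 0 := by
    have h1 := D.add a ha _ (Subgroup.mul_mem Q (Subgroup.inv_mem Q ha) hb)
    rw [mul_inv_cancel_left, h] at h1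
    exact left_eq_add.1 h1
  rcases (D.ker _ (Subgroup.mul_mem Q (Subgroup.inv_mem Q ha) hb)).1 hi with e | e
  · exact Or.inl (inv_mul_eq_one.1 e).symm
  · exact Or.inr (eq_mul_of_inv_mul_eq e)

/-- A non-central element of `Q` is moved to its product with `z` inside `Q`. -/
theorem move {q : G} (hq : q ∈ Q) (h1 : q ≠ 1) (h2 : q ≠ z) : ∃ y ∈ Q, y * q * y⁻¹ = q * z := by
  by_contra hcon
  push Not at hcon
  refine (D.half.cent q fun r hr => ?_).elim h1 h2
  rcases D.half.comm r hr q hq with h | h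
  · exact mul_inv_eq_iff_eq_mul.1 (mul_inv_eq_one.1 h)
  · exact absurd ((mul_inv_eq_iff_eq_mul.1 h).trans (D.half.cz q hq).symm) (hcon r hr)

/-- Elements of `Q` over conjugate vectors are conjugate. -/
theorem transport {s t : G} (hs : s ∈ Q) (ht : t ∈ Q) (h1 : t ≠ 1) (h2 : t ≠ z)
    (c : ↥(centralizer ({z} : Set G))) (hc : φ c (vec s) = vec t) :
    ∃ d : ↥(centralizer ({z} : Set G)), φ d = φ c ∧ (d : G) * s * (d : G)⁻¹ = t := by
  have hcz := mem_centralizer_singleton_iff.1 c.2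
  rcases D.same_class (D.core.norm c hcz s hs) ht (by rw [D.conj c s hs, hc]) with e | e
  · exact ⟨c, rfl, e.symm⟩
  · obtain ⟨y, hy, hyt⟩ := D.move ht h1 h2
    refine ⟨⟨y, D.core.le hy⟩ * c, by rw [map_mul, (D.kerφ _).2 hy, one_mul], ?_⟩
    have e' : (c : G) * s * (c : G)⁻¹ = t * z := by rw [e, mul_assoc ((c : G) * s * (c : G)⁻¹), D.zz, mul_one]
    show y * (c : G) * s * (y * (c : G))⁻¹ = t
    rw [show y * (c : G) * s * (y * (c : G))⁻¹ = y * ((c : G) * s * (c : G)⁻¹) * y⁻¹ by group, e',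
      show y * (t * z) * y⁻¹ = (y * t * y⁻¹) * (y * z * y⁻¹) by group, hyt, D.half.cz y hy, mul_inv_cancel_right,
      mul_assoc, D.zz, mul_one]

theorem noncentral {q : G} (hq : q ∈ Q) : vec q ≠ 0 ↔ q ≠ 1 ∧ q ≠ z := by
  rw [Ne, D.ker q hq, not_or]

/-- A noncentral involution lies over a vector of one of the two orbits. -/
theorem two_cases {q : G} (hq : q ∈ Q) (h1 : q ≠ 1) (h2 : q ≠ z) (hqq : q * q = 1) :
    InA (vec q) ∨ InB (vec q) := by
  by_cases h : InA (vec q)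
  · exact Or.inl h
  · exact Or.inr ⟨(D.noncentral hq).2 ⟨h1, h2⟩, (D.sq q hq).2 hqq, h⟩

theorem orbit_A {s t : G} (hs : s ∈ Q) (ht : t ∈ Q) (hsA : InA (vec s)) (htA : InA (vec t)) :
    ∃ h : ↥(centralizer ({z} : Set G)), (h : G) * s * (h : G)⁻¹ = t := by
  obtain ⟨a, ha, e⟩ := trans_A hsA
  obtain ⟨b, hb, e'⟩ := trans_A htA
  obtain ⟨c, hc⟩ := D.K1_le (lin (b * a⁻¹)) (lin_mem_KP.2 (mul_mem hb (inv_mem ha)))
  have hc' : φ c (vec s) = vec t := by
    rw [hc, ← e, ← Equiv.Perm.mul_apply, ← map_mul, inv_mul_cancel_right, e']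
  obtain ⟨d, -, hd⟩ := D.transport hs ht ((D.noncentral ht).1 htA.1).1 ((D.noncentral ht).1 htA.1).2 c hc'
  exact ⟨d, hd⟩

theorem orbit_B {s t : G} (hs : s ∈ Q) (ht : t ∈ Q) (hsB : InB (vec s)) (htB : InB (vec t)) :
    ∃ h : ↥(centralizer ({z} : Set G)), (h : G) * s * (h : G)⁻¹ = t := by
  obtain ⟨a, ha, e⟩ := trans_B hsB
  obtain ⟨b, hb, e'⟩ := trans_B htB
  obtain ⟨c, hc⟩ := D.K1_le (lin (b * a⁻¹)) (lin_mem_KP.2 (mul_mem hb (inv_mem ha)))
  have hc' : φ c (vec s) = vec t := by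
    rw [hc, ← e, ← Equiv.Perm.mul_apply, ← map_mul, inv_mul_cancel_right, e']
  obtain ⟨d, -, hd⟩ := D.transport hs ht ((D.noncentral ht).1 htB.1).1 ((D.noncentral ht).1 htB.1).2 c hc'
  exact ⟨d, hd⟩

/-- The two classes. -/
theorem two_orbits : ∃ s t : ↥(centralizer ({z} : Set G)), (s : G) ∈ Q ∧ (t : G) ∈ Q ∧ orderOf s = 2 ∧
    orderOf t = 2 ∧ (s : G) ≠ z ∧ (t : G) ≠ z ∧ (¬ ∃ h : ↥(centralizer ({z} : Set G)), h * s * h⁻¹ = t) ∧
    ∀ x : ↥(centralizer ({z} : Set G)), (x : G) ∈ Q → orderOf x = 2 → (x : G) ≠ z →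
      (∃ h : ↥(centralizer ({z} : Set G)), h * s * h⁻¹ = x) ∨ ∃ h, h * t * h⁻¹ = x := by
  haveI : Fact (Nat.Prime 2) := ⟨Nat.prime_two⟩
  obtain ⟨s, hs, hsv⟩ := D.surj uA
  obtain ⟨t, ht, htv⟩ := D.surj vB
  have hsA : InA (vec s) := hsv ▸ base_facts.1
  have htB : InB (vec t) := htv ▸ inB_vB
  have hord : ∀ (q : G) (hq : q ∈ Q), vec q ≠ 0 → hf (vec q) (vec q) = 0 →
      orderOf (⟨q, D.core.le hq⟩ : ↥(centralizer ({z} : Set G))) = 2 := fun q hq h0 hh =>
    orderOf_eq_prime (Subtype.ext (by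
      show q ^ 2 = 1
      rw [pow_two]; exact (D.sq q hq).1 hh)) fun h => ((D.noncentral hq).1 h0).1 (congrArg Subtype.val h)
  refine ⟨⟨s, D.core.le hs⟩, ⟨t, D.core.le ht⟩, hs, ht, hord s hs hsA.1 (inA_singular hsA),
    hord t ht htB.1 htB.2.1, ((D.noncentral hs).1 hsA.1).2, ((D.noncentral ht).1 htB.1).2, ?_, fun x hx h2 hxz => ?_⟩
  · rintro ⟨h, hh⟩
    have e := D.conj h s hs
    rw [show (h : G) * s * (h : G)⁻¹ = t from congrArg Subtype.val hh] at e
    exact htB.2.2 (e ▸ ((D.good h).pts _).2 hsA)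
  · have hx1 : (x : G) ≠ 1 := fun e => by
      rw [show x = 1 from Subtype.ext e, orderOf_one] at h2; omega
    have hxx : (x : G) * x = 1 := by
      have := congrArg Subtype.val (pow_orderOf_eq_one x)
      rwa [h2, pow_two] at this
    rcases D.two_cases hx hx1 hxz hxx with h | h
    · obtain ⟨c, hc⟩ := D.orbit_A hs hx hsA h
      exact Or.inl ⟨c, Subtype.ext hc⟩
    · obtain ⟨c, hc⟩ := D.orbit_B ht hx htB h
      exact Or.inr ⟨c, Subtype.ext hc⟩

theorem duo {g : G} (hgQ : g * z * g⁻¹ ∈ Q) (hne : g * z * g⁻¹ ≠ z) :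
    LargeQ.Duo Q (Q.map (MulAut.conj g).toMonoidHom) z (g * z * g⁻¹) :=
  ⟨D.half, D.half.conj g, hgQ, LargeQ.centre_mem_conj Q z D.core.ext D.core.center_iff D.core.ord D.core.cent
    D.core.norm (by rw [D.card]; norm_num) g hne hgQ, hne, g, rfl, rfl⟩

/-- The conjugate of `Q` inside the centralizer of `z`. -/
theorem card_E {g : G} (hgQ : g * z * g⁻¹ ∈ Q) (hne : g * z * g⁻¹ ≠ z) :
    2 ^ 12 ≤ Nat.card ↥(Q.map (MulAut.conj g).toMonoidHom ⊓ centralizer ({z} : Set G)) := by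
  classical
  have h := (D.duo hgQ hne).symm
  set Q' := Q.map (MulAut.conj g).toMonoidHom with hQ'
  set E := Q' ⊓ centralizer ({z} : Set G) with hE
  have hc : Nat.card ↥Q' = 2 ^ 13 := by
    rw [hQ', ← Nat.card_congr (Q.equivMapOfInjective _ (MulAut.conj g).injective).toEquiv, D.card]
  obtain ⟨y, hy, hyz⟩ := h.exists_move
  let f : ↥Q' → Fin 2 × ↥E := fun x =>
    if hx : (x : G) * z = z * x then (0, ⟨x, x.2, mem_centralizer_singleton_iff.2 hx⟩)
    else (1, ⟨y⁻¹ * x, Subgroup.mul_mem Q' (Subgroup.inv_mem Q' hy) x.2,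
      mem_centralizer_singleton_iff.2 ((h.mem_or_move hyz hy x.2).resolve_left hx)⟩)
  have hf : Function.Injective f := by
    intro a b hab
    simp only [f] at hab
    split_ifs at hab with h1 h2 h3
    · exact Subtype.ext (congrArg (fun p : Fin 2 × ↥E => (p.2 : G)) hab)
    · exact absurd (congrArg Prod.fst hab) (by simp)
    · exact absurd (congrArg Prod.fst hab) (by simp)
    · exact Subtype.ext (mul_left_cancel (congrArg (fun p : Fin 2 × ↥E => (p.2 : G)) hab))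
  have := Nat.card_le_card_of_injective f hf
  rw [Nat.card_prod, Nat.card_fin, hc] at this
  omega

theorem abelian_le (A : Subgroup G) (hA : A ≤ Q) (hab : ∀ a ∈ A, ∀ b ∈ A, a * b = b * a) :
    Nat.card A ≤ 2 ^ 7 := by
  haveI : Fact (Nat.Prime 2) := ⟨Nat.prime_two⟩
  have hS := (CfsgLib.PGroup.smallCenter_of_extraspecial D.core.ext).1
  have hc : IsMulCommutative (A.subgroupOf Q) :=
    ⟨⟨fun a b => Subtype.ext (Subtype.ext (hab _ a.2 _ b.2))⟩⟩
  have := hS.card_abelian_le _ hc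
  rw [Nat.card_congr (subgroupOfEquivOfLe hA).toEquiv, D.card] at this
  nlinarith

theorem card_inter_le {g : G} (hgQ : g * z * g⁻¹ ∈ Q) (hne : g * z * g⁻¹ ≠ z) :
    Nat.card ↥(Q ⊓ Q.map (MulAut.conj g).toMonoidHom) ≤ 2 ^ 7 :=
  D.abelian_le _ inf_le_left fun _ ha _ hb => (D.duo hgQ hne).inter_abelian ha.1 ha.2 hb.1 hb.2

end Data

/-- The image of the conjugate of `Q` on the vectors. -/
def imE {z : G} (Q : Subgroup G) (φ : ↥(centralizer ({z} : Set G)) →* Equiv.Perm V6) (g : G) :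
    Subgroup (Equiv.Perm V6) :=
  ((Q.map (MulAut.conj g).toMonoidHom).subgroupOf (centralizer ({z} : Set G))).map φ

namespace Data

variable {z : G} {Q : Subgroup G} {vec : G → V6} {φ : ↥(centralizer ({z} : Set G)) →* Equiv.Perm V6} {o : Outer}
  (D : Data z Q vec φ o)
include D

/-- Orders in the conjugate: image times intersection. -/
theorem card_imE (g : G) : Nat.card ↥(imE Q φ g) * Nat.card ↥(Q ⊓ Q.map (MulAut.conj g).toMonoidHom) =
    Nat.card ↥(Q.map (MulAut.conj g).toMonoidHom ⊓ centralizer ({z} : Set G)) := by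
  set Q' := Q.map (MulAut.conj g).toMonoidHom with hQ'
  set E := Q'.subgroupOf (centralizer ({z} : Set G))
  have h := Subgroup.card_eq_card_quotient_mul_card_subgroup (φ.comp E.subtype).ker
  rw [Nat.card_congr (QuotientGroup.quotientKerEquivRange (φ.comp E.subtype)).toEquiv, MonoidHom.range_comp, Subgroup.range_subtype] at h
  have h1 : Nat.card E = Nat.card ↥(Q' ⊓ centralizer ({z} : Set G)) := by
    rw [← Nat.card_congr (subgroupOfEquivOfLe (inf_le_right : Q' ⊓ centralizer ({z} : Set G) ≤ _)).toEquiv,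
      Subgroup.inf_subgroupOf_right]
  have h2 : Nat.card (φ.comp E.subtype).ker = Nat.card ↥(Q ⊓ Q') :=
    Nat.card_congr
      { toFun := fun x => ⟨((x : E) : ↥(centralizer ({z} : Set G))), (D.kerφ _).1 x.2, x.1.2⟩
        invFun := fun x => ⟨⟨⟨x.1, D.core.le x.2.1⟩, x.2.2⟩, (D.kerφ _).2 x.2.1⟩
        left_inv := fun x => rfl
        right_inv := fun x => rfl }
  rw [h1, h2] at h
  exact h.symm

theorem card_imE_ge {g : G} (hgQ : g * z * g⁻¹ ∈ Q) (hne : g * z * g⁻¹ ≠ z) : 32 ≤ Nat.card ↥(imE Q φ g) := by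
  have h1 := D.card_imE g
  have h2 := D.card_E hgQ hne
  have h3 := D.card_inter_le hgQ hne
  by_contra h
  push Not at h
  have := Nat.mul_le_mul (Nat.le_of_lt_succ h) h3
  omega

theorem imE_le_range (g : G) : imE Q φ g ≤ φ.range := map_le_range _ _

theorem imE_pGroup (g : G) : IsPGroup 2 ↥(imE Q φ g) :=
  ((D.half.conj g).two.comap_subtype).map φ

/-- The image fixes the vector of the conjugate. -/
theorem imE_fix {g : G} (hgQ : g * z * g⁻¹ ∈ Q) {f : Equiv.Perm V6} (hf : f ∈ imE Q φ g) :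
    f (vec (g * z * g⁻¹)) = vec (g * z * g⁻¹) := by
  obtain ⟨e, he, rfl⟩ := hf
  rw [← D.conj e _ hgQ, mul_inv_eq_iff_eq_mul.2 ((D.half.conj g).cz (e : G) he)]

/-- The stabilizer of the vector normalizes the image. -/
theorem imE_norm {g : G} (hgQ : g * z * g⁻¹ ∈ Q) (hne : g * z * g⁻¹ ≠ z) {f : Equiv.Perm V6}
    (hf : f ∈ φ.range) (hfx : f (vec (g * z * g⁻¹)) = vec (g * z * g⁻¹)) {a : Equiv.Perm V6}
    (ha : a ∈ imE Q φ g) : f * a * f⁻¹ ∈ imE Q φ g := by
  obtain ⟨c, rfl⟩ := hf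
  have hs1 : g * z * g⁻¹ ≠ 1 := fun e => D.z_ne (by simpa using e)
  obtain ⟨d, hd, hds⟩ := D.transport hgQ hgQ hs1 hne c hfx
  obtain ⟨e, he, rfl⟩ := ha
  refine ⟨d * e * d⁻¹, ?_, by rw [map_mul, map_mul, map_inv, hd]⟩
  exact (D.half.conj g).norm d (mul_inv_eq_iff_eq_mul.1 hds) e he

/-- Replacing the conjugating element. -/
theorem shift {g : G} (hgQ : g * z * g⁻¹ ∈ Q) (hne : g * z * g⁻¹ ≠ z) (c : ↥(centralizer ({z} : Set G))) :
    ((c : G) * g) * z * ((c : G) * g)⁻¹ ∈ Q ∧ ((c : G) * g) * z * ((c : G) * g)⁻¹ ≠ z ∧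
      vec (((c : G) * g) * z * ((c : G) * g)⁻¹) = φ c (vec (g * z * g⁻¹)) := by
  have hcz := mem_centralizer_singleton_iff.1 c.2
  rw [show ((c : G) * g) * z * ((c : G) * g)⁻¹ = (c : G) * (g * z * g⁻¹) * (c : G)⁻¹ by group]
  refine ⟨D.core.norm c hcz _ hgQ, fun e => hne ?_, D.conj c _ hgQ⟩
  calc g * z * g⁻¹ = (c : G)⁻¹ * ((c : G) * (g * z * g⁻¹) * (c : G)⁻¹) * c := by group
    _ = (c : G)⁻¹ * (z * c) := by rw [e, mul_assoc]
    _ = z := by rw [← hcz, inv_mul_cancel_left]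

end Data

end CfsgLib.Spor.LargeFischer
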