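import Cfsg.Agent.Lib.Spor.LargeFischer.Maps

/-!
# Unitary and semilinear maps normalizing the triple cover
-/

set_option autoImplicit false
set_option maxRecDepth 100000

namespace CfsgLib.Spor.LargeFischer

open Matrix Subgroup CfsgLib.Spor.U43Six CfsgLib.Spor.Fi22.U6

variable {F : Type*} [Field F] [Fintype F] (hF : Fintype.card F = 9)

include hF

/-- An element normalizing the triple cover lies in it or differs from it by the odd monomial element. -/
theorem normalizer_cases {h : G6} (heq : ∀ x ∈ K1, h * x * h⁻¹ ∈ K1) : h ∈ K1 ∨ sw * h ∈ K1 := by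
  haveI := Fact.mk Nat.prime_three
  haveI : Finite G6 := Nat.finite_of_card_ne_zero (by rw [card_G6]; norm_num)
  have hle : PG ≤ K1 := PG_le_MG.trans MG_le_K1
  let P : Sylow 3 K1 := Sylow.ofCard _ (card_sylow (card_K1 hF) hle)
  let A : Subgroup G6 := PG.map (MulAut.conj h).toMonoidHom
  have hA : A ≤ K1 := by
    rintro _ ⟨x, hx, rfl⟩
    exact heq x (hle hx)
  have hA3 : IsPGroup 3 (A.subgroupOf K1) := IsPGroup.of_card (n := 7) (by
    rw [Nat.card_congr (subgroupOfEquivOfLe hA).toEquiv,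
      ← Nat.card_congr (PG.equivMapOfInjective _ (MulAut.conj h).injective).toEquiv, card_PG])
  obtain ⟨Q, hQ⟩ := hA3.exists_le_sylow
  obtain ⟨k, hk⟩ := MulAction.exists_smul_eq K1 Q P
  set n : G6 := (k : G6) * h with hn
  have hkA : ∀ x ∈ PG, n * x * n⁻¹ ∈ PG := fun x hx => by
    have hmem : (⟨h * x * h⁻¹, hA ⟨x, hx, rfl⟩⟩ : K1) ∈ A.subgroupOf K1 := ⟨x, hx, rfl⟩
    have h1 : k * ⟨h * x * h⁻¹, hA ⟨x, hx, rfl⟩⟩ * k⁻¹ ∈ (↑(k • Q) : Subgroup K1) := by
      rw [Sylow.smul_def]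
      exact ⟨_, hQ hmem, rfl⟩
    rw [hk] at h1
    have h2 : (k : G6) * (h * x * h⁻¹) * (k : G6)⁻¹ ∈ PG := h1
    rwa [show n * x * n⁻¹ = (k : G6) * (h * x * h⁻¹) * (k : G6)⁻¹ by rw [hn]; group]
  have hD' : DG.map (MulAut.conj n).toMonoidHom = DG := by
    refine eq_DG ?_ ?_ ?_
    · rintro _ ⟨x, hx, rfl⟩
      exact hkA x (DG_le_PG hx)
    · rw [← Nat.card_congr (DG.equivMapOfInjective _ (MulAut.conj n).injective).toEquiv, card_DG]
    · rintro _ ⟨x, hx, rfl⟩ _ ⟨y, hy, rfl⟩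
      rw [← map_inv, ← map_inv, ← map_mul, ← map_mul, ← map_mul, DG_comm hx hy, mul_inv_cancel_right,
        mul_inv_cancel, map_one]
      exact one_mem _
  have hnN : n⁻¹ ∈ NG := mem_NG_of_normalizes fun x hx => by
    rw [inv_inv]
    have : n * x * n⁻¹ ∈ DG.map (MulAut.conj n).toMonoidHom := ⟨x, hx, rfl⟩
    rwa [hD'] at this
  obtain ⟨π, -, e, he⟩ := inv_mem hnN
  rw [inv_inv] at he
  by_cases hev : π ∈ alternatingGroup (Fin 6)
  · left
    have h1 : n ∈ K1 := MG_le_K1 ⟨π, hev, e, he⟩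
    have := mul_mem (inv_mem k.2) h1
    rwa [hn, inv_mul_cancel_left] at this
  · right
    have hm : sw * n ∈ MG := by
      refine ⟨Equiv.swap 0 1 * π, ?_, _, by rw [mat_mul, sw, mat_mo, he, mon_mul]⟩
      rw [Equiv.Perm.mem_alternatingGroup, map_mul, Equiv.Perm.sign_swap (by decide)]
      rw [Equiv.Perm.mem_alternatingGroup] at hev
      rcases Int.units_eq_one_or (Equiv.Perm.sign π) with h1 | h1
      · exact absurd h1 hev
      · rw [h1]; decide
    have h2 := mul_mem (inv_mem (sw_conj_mem k.2)) (MG_le_K1 hm)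
    rwa [hn, show (sw * (k : G6) * sw⁻¹)⁻¹ * (sw * ((k : G6) * h)) = sw * h by group] at h2

/-- A unitary matrix whose conjugation maps the triple cover into itself has determinant one and is one of
the two kinds. -/
theorem gu_normalizer {A : M6} (hA : Aᵀ * A.map (fun x => x ^ 2) = 1)
    (hnorm : ∀ x ∈ K1, ∃ y ∈ K1, A * mat6 x = mat6 y * A) :
    ∃ h : G6, mat6 h = A ∧ (h ∈ K1 ∨ sw * h ∈ K1) := by
  haveI : Finite G6 := Nat.finite_of_card_ne_zero (by rw [card_G6]; norm_num)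
  have hd0 : A.det ≠ 0 := fun h0 => by
    have := congrArg Matrix.det hA
    rw [det_mul, det_transpose, h0, zero_mul, det_one] at this
    exact zero_ne_one this
  obtain ⟨k, hk⟩ := exists_wp _ hd0
  have hdet : ∀ a, (dm a).det = wp a := fun a => by
    rw [dm, mon_det]
    refine congrArg wp ?_
    simp [dl]
  let h : G6 := mkG (dm (-k) * A) ⟨by rw [det_mul, hdet, ← hk, ← wp_add, neg_add_cancel]; rfl,
    unitary_mul (mon_unitary _ _) hA⟩
  have hdmA : dm k * mat6 h = A := by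
    rw [mat_mkG, ← mul_assoc, dm_mul, add_neg_cancel, dm_zero, one_mul]
  have hcj : ∀ x ∈ K1, th k (h * x * h⁻¹) ∈ K1 := fun x hx => by
    obtain ⟨y, hy, e⟩ := hnorm x hx
    have : th k (h * x * h⁻¹) = y := mat_inj (by
      rw [th_apply, mat_thFun, mat_mul, mat_mul, ← mul_assoc, ← mul_assoc, hdmA, e, mul_assoc (mat6 y), ← hdmA,
        mul_assoc (mat6 y), mul_assoc (dm k), ← mat_mul, mul_inv_cancel, mat_one, mul_one, dm_mul,
        add_neg_cancel, dm_zero, mul_one])
    exact this ▸ hy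
  have hle : K1.map (MulAut.conj h).toMonoidHom ≤ Kc (-k) := by
    rintro _ ⟨x, hx, rfl⟩
    rw [mem_Kc, neg_neg]
    exact hcj x hx
  have heq : K1.map (MulAut.conj h).toMonoidHom = Kc (-k) := Subgroup.eq_of_le_of_card_ge hle (by
    rw [← Nat.card_congr (K1.equivMapOfInjective _ (MulAut.conj h).injective).toEquiv, card_K1 hF, card_Kc hF])
  have hk0 : k = 0 := by
    by_contra hne
    refine not_conj hF (a := 0) (b := -k) (fun e => hne (neg_eq_zero.1 e.symm)) h ?_
    rw [show Kc 0 = K1 from SetLike.ext fun x => by rw [mem_Kc, neg_zero, th_zero]]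
    exact heq
  refine ⟨h, ?_, normalizer_cases hF fun x hx => ?_⟩
  · rw [← hdmA, hk0, dm_zero, one_mul]
  · have := hcj x hx
    rwa [hk0, th_zero] at this

end CfsgLib.Spor.LargeFischer
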