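import Cfsg.Agent.Lib.Spor.LargeFischer.Hermitian
import Cfsg.Agent.Lib.Spor.LargeFischer.Normalizer

/-!
# Coordinates for the centralizer of a group of large Fischer type

The quotient of the centralizer by its extraspecial subgroup is the triple cover extended by one of three outer
maps, acting on six-dimensional hermitian space over four elements.
-/

set_option autoImplicit false
set_option maxRecDepth 100000

namespace CfsgLib.Spor.LargeFischer

open Matrix Subgroup CfsgLib.Spor.U43Six CfsgLib.Spor.Fi22.U6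

universe u

theorem inv_app {α : Type*} (P : Equiv.Perm α) (x : α) : P⁻¹ (P x) = x := P.symm_apply_apply x

theorem polar_cancel : ∀ r s d : ZMod 2, d = r + s + d + r + s := by decide

theorem trF_ext : ∀ r s : Four, trF r = trF s → trF (Four.w * r) = trF (Four.w * s) → r = s := by decide

theorem trF_ext_sq : ∀ r s : Four, trF r = trF s → trF (Four.u * r) = trF (Four.w * s) → r ^ 2 = s := by decide

theorem bit_zero_iff : ∀ r : ZMod 2, bitF r = 0 ↔ r = 0 := by decide

/-- Coordinates on `Q` and the action of the ambient group. -/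
structure Pre {C : Type u} [Group C] (Q M : Subgroup C) where
  /-- The projection. -/
  p : Q → V6
  /-- The action. -/
  φ : C →* Equiv.Perm V6
  /-- The outer map. -/
  outer : Outer
  add : ∀ a b, p (a * b) = p a + p b
  surj : Function.Surjective p
  ker : ∀ a : Q, p a = 0 ↔ a ∈ center Q
  compat : ∀ (c : C) (a b : Q), (b : C) = c * a * c⁻¹ → φ c (p a) = p b
  φ_add : ∀ c x y, φ c (x + y) = φ c x + φ c y
  kerφ : ∀ c, φ c = 1 ↔ c ∈ Q
  sq : ∀ a : Q, hf (p a) (p a) = 0 ↔ a * a = 1
  comm : ∀ a b : Q, trF (hf (p a) (p b)) = 0 ↔ a * b = b * a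
  mem_M : ∀ c, c ∈ M ↔ φ c ∈ KP
  range_le : ∀ c, φ c ∈ KP ∨ ∃ k ∈ KP, φ c = k * outer.perm
  K1_le : ∀ k ∈ KP, ∃ c, φ c = k
  outer_mem : ∃ c, φ c = outer.perm

variable {C : Type u} [Group C] [Finite C]

theorem exists_pre (Q N M : Subgroup C) [Q.Normal] [N.Normal] [M.Normal]
    (hgf : Cfsg.generalizedFittingSubgroup C = Q) (hQ : Cfsg.IsExtraspecial 2 Q) (hcQ : Nat.card Q = 2 ^ 13)
    (hQN : Q ≤ N) (hNM : N ≤ M) (hcN : Nat.card N = 3 * Nat.card Q) {F : Type*} [Field F] [Fintype F]
    (hF : Fintype.card F = 9) (e : M ⧸ N.subgroupOf M ≃* Cfsg.PSU 4 F 3) (hM2 : M.index = 2) :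
    Nonempty (Pre Q M) := by
  classical
  haveI : Fact (Nat.Prime 2) := ⟨Nat.prime_two⟩
  haveI : Finite G6 := Nat.finite_of_card_ne_zero (by rw [card_G6]; norm_num)
  haveI := psu43_simple hF
  obtain ⟨V, hV, ⟨D⟩⟩ := exists_quadSpace Q hgf hQ
  obtain ⟨X, hXN, hXQ, hX3, hTT, hcM, hgen⟩ := fixed_point_free hQN hNM hcN hcQ hF e D
  obtain ⟨Ψ, hΨT, hΨS, hΨB⟩ := exists_coords D hcQ X hTT
  -- the action in coordinates
  let act : C → V6 ≃ V6 := fun c =>
    { toFun := fun x => Ψ.symm (D.φ c (Ψ x))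
      invFun := fun x => Ψ.symm (D.φ c⁻¹ (Ψ x))
      left_inv := fun x => by
        show Ψ.symm (D.φ c⁻¹ (Ψ (Ψ.symm (D.φ c (Ψ x))))) = x
        rw [AddEquiv.apply_symm_apply, ← Function.comp_apply (f := ⇑(D.φ c⁻¹)), ← AddMonoid.End.coe_mul, ← map_mul,
          inv_mul_cancel, map_one, AddMonoid.End.coe_one, id_eq, AddEquiv.symm_apply_apply]
      right_inv := fun x => by
        show Ψ.symm (D.φ c (Ψ (Ψ.symm (D.φ c⁻¹ (Ψ x))))) = x
        rw [AddEquiv.apply_symm_apply, ← Function.comp_apply (f := ⇑(D.φ c)), ← AddMonoid.End.coe_mul, ← map_mul,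
          mul_inv_cancel, map_one, AddMonoid.End.coe_one, id_eq, AddEquiv.symm_apply_apply] }
  let π : C →* Equiv.Perm V6 :=
    { toFun := act
      map_one' := Equiv.ext fun x => by
        show Ψ.symm (D.φ 1 (Ψ x)) = x
        rw [map_one, AddMonoid.End.coe_one, id_eq, AddEquiv.symm_apply_apply]
      map_mul' := fun c d => Equiv.ext fun x => by
        show Ψ.symm (D.φ (c * d) (Ψ x)) = Ψ.symm (D.φ c (Ψ (Ψ.symm (D.φ d (Ψ x)))))
        rw [AddEquiv.apply_symm_apply, map_mul]
        rfl }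
  have hπ : ∀ c x, π c x = Ψ.symm (D.φ c (Ψ x)) := fun c x => rfl
  have hadd : ∀ c x y, π c (x + y) = π c x + π c y := fun c x y => by simp only [hπ, map_add]
  have hkπ : ∀ c, π c = 1 ↔ c ∈ Q := fun c => by
    rw [← D.kerφ]
    refine ⟨fun h => AddMonoidHom.ext fun v => ?_, fun h => Equiv.ext fun x => ?_⟩
    · have h1 := DFunLike.congr_fun h (Ψ.symm v)
      rw [hπ, AddEquiv.apply_symm_apply, Equiv.Perm.one_apply] at h1
      exact Ψ.symm.injective h1
    · rw [hπ, h, AddMonoid.End.coe_one, id_eq, AddEquiv.symm_apply_apply, Equiv.Perm.one_apply]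
  have hπX : ∀ x, π X x = Four.w • x := fun x => by rw [hπ, hΨT, AddEquiv.symm_apply_apply]
  have hSpres : ∀ c x, hf (π c x) (π c x) = hf x x := fun c x => by
    rw [← hΨS, ← hΨS, hπ, AddEquiv.apply_symm_apply, D.S_inv]
  have hBpres : ∀ c x y, trF (hf (π c x) (π c y)) = trF (hf x y) := fun c x y => by
    rw [← hΨB, ← hΨB, hπ, hπ, AddEquiv.apply_symm_apply, AddEquiv.apply_symm_apply]
    have key : ∀ a b : V, D.B a b = D.S (a + b) + D.S a + D.S b := fun a b => by
      rw [D.S_add]
      exact polar_cancel _ _ _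
    rw [key, key, ← map_add, D.S_inv, D.S_inv, D.S_inv]
  -- scalars act by powers of the element of order three
  have hscal : ∀ (a : Four) (c : C) (x : V6), π c * π X = π X * π c →
      π c (a • x) = a • π c x := by
    intro a c x hc
    have hw : ∀ y, π c (Four.w • y) = Four.w • π c y := fun y => by
      have := DFunLike.congr_fun hc y
      rwa [Equiv.Perm.mul_apply, Equiv.Perm.mul_apply, hπX, hπX] at this
    cases a
    · show π c ((0 : Four) • x) = (0 : Four) • π c x
      rw [zero_smul, zero_smul]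
      have h0 := hadd c 0 0
      rw [add_zero] at h0
      exact add_right_cancel (h0.symm.trans (zero_add _).symm)
    · show π c ((1 : Four) • x) = (1 : Four) • π c x
      rw [one_smul, one_smul]
    · exact hw x
    · rw [show Four.u = (1 : Four) + Four.w from rfl, add_smul, add_smul, one_smul, one_smul, hadd, hw]
  -- a commuting element is unitary
  have hmat : ∀ c : C, π c * π X = π X * π c →
      ∃ A : M6, Aᵀ * A.map (fun x => x ^ 2) = 1 ∧ ∀ x, π c x = A *ᵥ x := by
    intro c hc
    let L : V6 →ₗ[Four] V6 :=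
      { toFun := π c, map_add' := hadd c, map_smul' := fun a x => hscal a c x hc }
    have hAL : ∀ x, π c x = LinearMap.toMatrix' L *ᵥ x := fun x => (LinearMap.toMatrix'_mulVec L x).symm
    refine ⟨LinearMap.toMatrix' L, ?_, hAL⟩
    set A := LinearMap.toMatrix' L
    have hh : ∀ x y, hf (A *ᵥ x) (A *ᵥ y) = hf x y := fun x y => by
      rw [← hAL, ← hAL]
      have e1 := hBpres c x y
      have e2 := hBpres c (Four.w • x) y
      rw [hscal Four.w c x hc, hf_smul_left, hf_smul_left] at e2
      exact trF_ext _ _ e1 e2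
    ext i j
    have h := hh (Pi.single i 1) (Pi.single j 1)
    simp only [mulVec_single_one, hf, Cfsg.hermForm] at h
    rw [Matrix.mul_apply]
    refine (Eq.trans ?_ h).trans ?_
    · rfl
    · rw [Finset.sum_eq_single i]
      · rcases eq_or_ne i j with rfl | hne
        · simp
        · simp [Matrix.one_apply, hne]
      · intro r _ hr
        simp [hr]
      · simp
  have hcM' : ∀ m ∈ M, π m * π X = π X * π m := fun m hm => by
    refine Equiv.ext fun x => ?_
    show π m (π X x) = π X (π m x)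
    simp only [hπ, AddEquiv.apply_symm_apply]
    exact congrArg Ψ.symm (DFunLike.congr_fun (hcM m hm) (Ψ x))
  choose Af hAu hAmul using fun m : M => hmat (m : C) (hcM' _ m.2)
  have hAext : ∀ {A B : M6}, (∀ x, A *ᵥ x = B *ᵥ x) → A = B := fun h => ext_iff_mulVec.2 h
  have hAf_mul : ∀ a b : M, Af (a * b) = Af a * Af b := fun a b => hAext fun x => by
    rw [← mulVec_mulVec, ← hAmul, ← hAmul, ← hAmul, Subgroup.coe_mul, map_mul]
    rfl
  have hAf_one : Af 1 = 1 := hAext fun x => by
    rw [← hAmul, Subgroup.coe_one, map_one, one_mulVec]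
    rfl
  let dh : M →* Four :=
    { toFun := fun m => (Af m).det
      map_one' := by rw [hAf_one, det_one]
      map_mul' := fun a b => by rw [hAf_mul, det_mul] }
  have hAN : ∀ n : M, (n : C) ∈ N → ∃ c : Four, Af n = scalarM c := fun n hn => by
    have hx : ∀ c : Four, (∀ x, π (n : C) x = c • x) → Af n = scalarM c := fun c h => hAext fun x => by
      rw [← hAmul, h, scalarM, smul_mulVec, one_mulVec]
    rcases hgen _ hn with h | h | h
    · exact ⟨1, hx _ fun x => by rw [hπ, h, one_smul]; simp⟩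
    · exact ⟨Four.w, hx _ fun x => by rw [hπ, h]; exact (hπ X x).symm.trans (hπX x)⟩
    · refine ⟨Four.u, hx _ fun x => ?_⟩
      rw [hπ, h]
      show Ψ.symm (D.φ X (D.φ X (Ψ x))) = _
      rw [hΨT, hΨT, AddEquiv.symm_apply_apply, smul_smul]
      rfl
  have hdet : ∀ m : M, (Af m).det = 1 := by
    let d' : M →* Fourˣ := dh.toHomUnits
    have hNk : N.subgroupOf M ≤ d'.ker := fun n hn => Units.ext (show (Af n).det = 1 by
      obtain ⟨c, hc⟩ := hAN n hn
      have hc0 : c ≠ 0 := by
        rintro rfl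
        have h2 := hAu n
        rw [hc, scalarM, zero_smul, transpose_zero, zero_mul] at h2
        exact zero_ne_one (congrFun (congrFun h2 0) 0)
      rw [hc, scalarM, det_smul, det_one, mul_one, Fintype.card_fin, scalar_det c hc0])
    let d'' : Cfsg.PSU 4 F 3 →* Fourˣ := (QuotientGroup.lift _ d' hNk).comp e.symm.toMonoidHom
    have htriv : d'' = 1 := by
      rcases IsSimpleGroup.eq_bot_or_eq_top_of_normal _ (MonoidHom.normal_ker d'') with h | h
      · haveI : Fintype Fourˣ := inferInstance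
        have h1 := Nat.card_le_card_of_injective d'' ((MonoidHom.ker_eq_bot_iff d'').1 h)
        rw [card_psu43 hF, Nat.card_eq_fintype_card (α := Fourˣ)] at h1
        have h2 : Fintype.card Fourˣ ≤ 4 := (Fintype.card_le_of_injective Units.val Units.val_injective).trans
          Four.card_four.le
        omega
      · exact MonoidHom.ext fun x => MonoidHom.mem_ker.1 (h ▸ Subgroup.mem_top x)
    intro m
    have h2 := DFunLike.congr_fun htriv (e (QuotientGroup.mk m))
    simp only [d'', MonoidHom.comp_apply, MulEquiv.coe_toMonoidHom, MulEquiv.symm_apply_apply,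
      QuotientGroup.lift_mk, MonoidHom.one_apply] at h2
    exact congrArg Units.val h2
  let μ : M →* G6 := MonoidHom.mk' (fun m => mkG (Af m) ⟨hdet m, hAu m⟩) fun a b => mat_inj (by
    rw [mat_mul, mat_mkG, mat_mkG, mat_mkG, hAf_mul])
  have hlinμ : ∀ m : M, lin (μ m) = π (m : C) := fun m => Equiv.ext fun x => (hAmul m x).symm
  have hkμ : μ.ker = Q.subgroupOf M := by
    ext m
    rw [MonoidHom.mem_ker, Subgroup.mem_subgroupOf, ← hkπ, ← hlinμ]
    exact ⟨fun h => by rw [h, map_one], fun h => lin_injective (h.trans (map_one lin).symm)⟩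
  -- the image is a triple cover
  let q : M →* Cfsg.PSU 4 F 3 := e.toMonoidHom.comp (QuotientGroup.mk' (N.subgroupOf M))
  have hq : Function.Surjective q := e.surjective.comp (QuotientGroup.mk'_surjective _)
  have hkq : q.ker = N.subgroupOf M := by
    ext x
    simp only [q, MonoidHom.mem_ker, MonoidHom.coe_comp, Function.comp_apply, MulEquiv.coe_toMonoidHom,
      MulEquiv.map_eq_one_iff, QuotientGroup.mk'_apply, QuotientGroup.eq_one_iff]
  have hle : μ.rangeRestrict.ker ≤ q.ker := by
    rw [MonoidHom.ker_rangeRestrict, hkμ, hkq]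
    exact Subgroup.comap_mono hQN
  let fL : μ.range →* Cfsg.PSU 4 F 3 :=
    μ.rangeRestrict.liftOfSurjective μ.rangeRestrict_surjective ⟨q, hle⟩
  have hfL : ∀ m, fL (μ.rangeRestrict m) = q m := fun m =>
    MonoidHom.liftOfRightInverse_comp_apply _ _ _ ⟨q, hle⟩ m
  have hfs : Function.Surjective fL := fun y => by
    obtain ⟨m, rfl⟩ := hq y
    exact ⟨_, hfL m⟩
  have hcL : Nat.card μ.range = 9797760 := by
    rw [← Nat.card_congr (QuotientGroup.quotientKerEquivRange μ).toEquiv, hkμ]
    have h1 := Subgroup.card_eq_card_quotient_mul_card_subgroup (Q.subgroupOf M)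
    have h2 := Subgroup.card_eq_card_quotient_mul_card_subgroup (N.subgroupOf M)
    rw [Nat.card_congr (subgroupOfEquivOfLe (hQN.trans hNM)).toEquiv, hcQ] at h1
    rw [Nat.card_congr (subgroupOfEquivOfLe hNM).toEquiv, Nat.card_congr e.toEquiv, card_psu43 hF, hcN, hcQ] at h2
    omega
  have hkfL : Nat.card fL.ker = 3 := by
    have h := Subgroup.card_eq_card_quotient_mul_card_subgroup fL.ker
    rw [Nat.card_congr (QuotientGroup.quotientKerEquivOfSurjective fL hfs).toEquiv, card_psu43 hF, hcL] at h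
    omega
  have hcenL : Subgroup.center μ.range = fL.ker := by
    refine le_antisymm (fun z hz => ?_) fun z hz => ?_
    · rw [MonoidHom.mem_ker, ← Subgroup.mem_bot, ← center_psu43 hF, Subgroup.mem_center_iff]
      intro y
      obtain ⟨x, rfl⟩ := hfs y
      rw [← map_mul, ← map_mul, Subgroup.mem_center_iff.1 hz x]
    · obtain ⟨m, rfl⟩ := μ.rangeRestrict_surjective z
      rw [MonoidHom.mem_ker, hfL, ← MonoidHom.mem_ker, hkq] at hz
      obtain ⟨c, hc⟩ := hAN m hz
      exact Subgroup.mem_center_iff.2 fun x => Subtype.ext (scalars_comm (show μ m ∈ scalars from ⟨c, hc⟩) x.1)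
  obtain ⟨g, a, hga⟩ := exists_conj (K := μ.range) hF (by rw [hcenL, hkfL])
    ⟨(QuotientGroup.quotientMulEquivOfEq hcenL).trans (QuotientGroup.quotientKerEquivOfSurjective fL hfs)⟩
  -- the change of frame
  let P : Equiv.Perm V6 :=
    { toFun := fun x => dm (-a) *ᵥ (mat6 g *ᵥ x)
      invFun := fun x => mat6 g⁻¹ *ᵥ (dm a *ᵥ x)
      left_inv := fun x => by
        show mat6 g⁻¹ *ᵥ (dm a *ᵥ (dm (-a) *ᵥ (mat6 g *ᵥ x))) = x
        rw [mulVec_mulVec _ (dm a), dm_mul, add_neg_cancel, dm_zero, one_mulVec, mulVec_mulVec, ← mat_mul,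
          inv_mul_cancel, mat_one, one_mulVec]
      right_inv := fun x => by
        show dm (-a) *ᵥ (mat6 g *ᵥ (mat6 g⁻¹ *ᵥ (dm a *ᵥ x))) = x
        rw [mulVec_mulVec _ (mat6 g), ← mat_mul, mul_inv_cancel, mat_one, one_mulVec, mulVec_mulVec, dm_neg_mul,
          one_mulVec] }
  have hP : ∀ x, P x = (dm (-a) * mat6 g) *ᵥ x := fun x => by rw [← mulVec_mulVec]; rfl
  have hPadd : ∀ x y, P (x + y) = P x + P y := fun x y => by rw [hP, hP, hP, mulVec_add]
  have hPsmul : ∀ (c : Four) x, P (c • x) = c • P x := fun c x => by rw [hP, hP, mulVec_smul]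
  have hPu : (dm (-a) * mat6 g)ᵀ * (dm (-a) * mat6 g).map (fun x => x ^ 2) = 1 :=
    unitary_mul (mon_unitary _ _) (unitary g)
  have hPhf : ∀ x y, hf (P x) (P y) = hf x y := fun x y => by
    rw [hP, hP]
    set A := dm (-a) * mat6 g
    have e' : (fun i => (A *ᵥ y) i ^ 2) = A.map (fun x => x ^ 2) *ᵥ fun i => y i ^ 2 := funext fun i => by
      simp only [mulVec, dotProduct, sq_sum, map_apply, mul_pow]
    show (A *ᵥ x) ⬝ᵥ (fun i => (A *ᵥ y) i ^ 2) = x ⬝ᵥ fun i => y i ^ 2
    rw [e', dotProduct_comm, dotProduct_mulVec, ← mulVec_transpose, mulVec_mulVec, hPu, one_mulVec, dotProduct_comm]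
  let φ : C →* Equiv.Perm V6 := (MulAut.conj P).toMonoidHom.comp π
  have hφ : ∀ c, φ c = P * π c * P⁻¹ := fun c => rfl
  have hφadd : ∀ c x y, φ c (x + y) = φ c x + φ c y := fun c x y => by
    obtain ⟨x, rfl⟩ := P.surjective x
    obtain ⟨y, rfl⟩ := P.surjective y
    rw [← hPadd]
    simp only [hφ, Equiv.Perm.mul_apply, inv_app]
    rw [hadd, hPadd]
  have hkφ : ∀ c, φ c = 1 ↔ c ∈ Q := fun c => by
    rw [← hkπ, hφ]
    refine ⟨fun h => ?_, fun h => by rw [h, mul_one, mul_inv_cancel]⟩
    rw [mul_inv_eq_one] at h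
    exact mul_left_cancel (h.trans (mul_one P).symm)
  have hφM : ∀ m : M, φ (m : C) = lin (th (-a) (g * μ m * g⁻¹)) := fun m => by
    rw [hφ, mul_inv_eq_iff_eq_mul, ← hlinμ]
    refine Equiv.ext fun x => ?_
    show P (mat6 (μ m) *ᵥ x) = mat6 (th (-a) (g * μ m * g⁻¹)) *ᵥ P x
    rw [hP, hP, mulVec_mulVec, mulVec_mulVec, th_apply, mat_thFun, neg_neg, mat_mul, mat_mul]
    refine congrArg (fun A : M6 => A *ᵥ x) ?_
    simp only [mul_assoc]
    rw [← mul_assoc (dm a) (dm (-a)), dm_mul a, add_neg_cancel, dm_zero, one_mul, ← mat_mul g⁻¹, inv_mul_cancel,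
      mat_one, mul_one]
  have hKP : ∀ k : G6, k ∈ K1 ↔ ∃ m : M, th (-a) (g * μ m * g⁻¹) = k := fun k => by
    constructor
    · intro hk
      have h1 : th a k ∈ Kc a := ⟨k, hk, rfl⟩
      rw [← hga] at h1
      obtain ⟨_, ⟨m, rfl⟩, hm⟩ := h1
      refine ⟨m, ?_⟩
      rw [show g * μ m * g⁻¹ = th a k from hm, th_th, neg_add_cancel, th_zero]
    · rintro ⟨m, rfl⟩
      refine mem_Kc.1 ?_
      rw [← hga]
      exact ⟨μ m, ⟨m, rfl⟩, rfl⟩
  have hK1 : ∀ k ∈ KP, ∃ c ∈ M, φ c = k := by
    rintro _ ⟨k, hk, rfl⟩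
    obtain ⟨m, hm⟩ := (hKP k).1 hk
    exact ⟨m, m.2, by rw [hφM, hm]⟩
  have hmemM : ∀ c, c ∈ M ↔ φ c ∈ KP := fun c => by
    refine ⟨fun hc => ?_, fun hc => ?_⟩
    · rw [show c = ((⟨c, hc⟩ : M) : C) from rfl, hφM]
      exact lin_mem_KP.2 ((hKP _).2 ⟨_, rfl⟩)
    · obtain ⟨d, hd, e'⟩ := hK1 _ hc
      have h2 : d⁻¹ * c ∈ Q := (hkφ _).1 (by rw [map_mul, map_inv, e', inv_mul_cancel])
      have := M.mul_mem hd (hQN.trans hNM h2)
      rwa [mul_inv_cancel_left] at this
  -- the outer map
  obtain ⟨c0, hc0⟩ : ∃ c : C, c ∉ M := by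
    by_contra hcon
    push Not at hcon
    rw [(Subgroup.eq_top_iff' M).2 hcon, Subgroup.index_top] at hM2
    omega
  have hout : ∃ (o : Outer) (k : Equiv.Perm V6), k ∈ KP ∧ φ c0 = k * o.perm := by
    have hXc : π c0 * π X = π X * π c0 ∨ π c0 * π X = π X * π X * π c0 := by
      have hn : c0 * X * c0⁻¹ ∈ N := (inferInstance : N.Normal).conj_mem X hXN c0
      have hlift : ∀ a b : C, D.φ a = D.φ b → π a = π b := fun a b h => Equiv.ext fun x => by rw [hπ, hπ, h]
      have e1 : π c0 * π X = π (c0 * X * c0⁻¹) * π c0 := by rw [← map_mul, ← map_mul, inv_mul_cancel_right]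
      rcases hgen _ hn with h | h | h
      · exfalso
        have h2 := (inferInstance : Q.Normal).conj_mem _ ((D.kerφ _).1 h) c0⁻¹
        rw [inv_inv, show c0⁻¹ * (c0 * X * c0⁻¹) * c0 = X by group] at h2
        exact hXQ h2
      · exact Or.inl (by rw [e1, hlift _ _ h])
      · refine Or.inr ?_
        rw [e1, hlift (c0 * X * c0⁻¹) (X * X) (by rw [h, map_mul]), map_mul]
    have hXlin : ∀ x, P (Four.w • x) = Four.w • P x := hPsmul Four.w
    have hnormK : ∀ k ∈ K1, ∃ y ∈ K1, φ c0 * lin k = lin y * φ c0 := fun k hk => by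
      obtain ⟨m, hm, e'⟩ := hK1 _ (lin_mem_KP.2 hk)
      obtain ⟨y, hy, e''⟩ := (hmemM _).1 ((inferInstance : M.Normal).conj_mem m hm c0)
      refine ⟨y, hy, ?_⟩
      rw [e'', ← e', ← map_mul, ← map_mul, inv_mul_cancel_right]
    have key : ∀ σ : Equiv.Perm V6, (∀ x y, σ (x + y) = σ x + σ y) →
        (∀ (c : Four) x, σ (c • x) = c • σ x) → (∀ x y, hf (σ x) (σ y) = hf x y) →
        (∀ k ∈ K1, ∃ y ∈ K1, σ * lin k = lin y * σ) → σ ∈ KP ∨ ∃ k ∈ KP, σ = lin U43Six.sw * k := by
      intro σ h1 h2 h3 h4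
      let L : V6 →ₗ[Four] V6 := { toFun := σ, map_add' := h1, map_smul' := h2 }
      set A := LinearMap.toMatrix' L with hAdef
      have hAx : ∀ x, σ x = A *ᵥ x := fun x => (LinearMap.toMatrix'_mulVec L x).symm
      have hAu : Aᵀ * A.map (fun x => x ^ 2) = 1 := by
        ext i j
        have h := h3 (Pi.single i 1) (Pi.single j 1)
        rw [hAx, hAx] at h
        simp only [mulVec_single_one, hf, Cfsg.hermForm] at h
        rw [Matrix.mul_apply]
        refine (Eq.trans ?_ h).trans ?_
        · rfl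
        · rw [Finset.sum_eq_single i]
          · rcases eq_or_ne i j with rfl | hne
            · simp
            · simp [Matrix.one_apply, hne]
          · intro r _ hr
            simp [hr]
          · simp
      obtain ⟨h, hh, hcase⟩ := gu_normalizer hF hAu fun x hx => by
        obtain ⟨y, hy, e'⟩ := h4 x hx
        refine ⟨y, hy, ext_iff_mulVec.2 fun v => ?_⟩
        rw [← mulVec_mulVec, ← mulVec_mulVec, ← hAx, ← hAx]
        exact DFunLike.congr_fun e' v
      have hσ : σ = lin h := Equiv.ext fun x => by rw [hAx, lin_apply, hh]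
      rcases hcase with h' | h'
      · exact Or.inl (hσ ▸ lin_mem_KP.2 h')
      · refine Or.inr ⟨_, lin_mem_KP.2 h', ?_⟩
        rw [hσ, ← map_mul, ← mul_assoc]
        nth_rewrite 1 [← sw_inv]
        rw [inv_mul_cancel, one_mul]
    have hswap : ∀ (o : Outer) (k : Equiv.Perm V6), k ∈ KP → ∃ k' ∈ KP, o.perm * k = k' * o.perm := by
      rintro o _ ⟨k, hk, rfl⟩
      obtain ⟨k', hk', e'⟩ := o.conj_mem hk
      exact ⟨_, lin_mem_KP.2 hk', e'⟩
    rcases hXc with hX' | hX'
    · -- linear
      have hlin : ∀ (c : Four) x, φ c0 (c • x) = c • φ c0 x := fun c x => by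
        obtain ⟨x, rfl⟩ := P.surjective x
        rw [← hPsmul]
        simp only [hφ, Equiv.Perm.mul_apply, inv_app]
        rw [hscal c c0 x hX', hPsmul]
      have hform : ∀ x y, hf (φ c0 x) (φ c0 y) = hf x y := fun x y => by
        obtain ⟨x, rfl⟩ := P.surjective x
        obtain ⟨y, rfl⟩ := P.surjective y
        simp only [hφ, Equiv.Perm.mul_apply, inv_app, hPhf]
        have e1 := hBpres c0 x y
        have e2 := hBpres c0 (Four.w • x) y
        rw [hscal Four.w c0 x hX', hf_smul_left, hf_smul_left] at e2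
        exact trF_ext _ _ e1 e2
      rcases key (φ c0) (hφadd c0) hlin hform hnormK with h | ⟨k, hk, h⟩
      · exact absurd ((hmemM c0).2 h) hc0
      · obtain ⟨k', hk', e'⟩ := hswap .sw k hk
        exact ⟨.sw, k', hk', h.trans e'⟩
    · -- semilinear
      have hw : ∀ x, π c0 (Four.w • x) = Four.u • π c0 x := fun x => by
        have := DFunLike.congr_fun hX' x
        rw [Equiv.Perm.mul_apply, Equiv.Perm.mul_apply, Equiv.Perm.mul_apply, hπX, hπX, hπX, smul_smul] at this
        exact this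
      have hs : ∀ (c : Four) x, π c0 (c • x) = c ^ 2 • π c0 x := fun c x => by
        cases c
        · show π c0 ((0 : Four) • x) = (0 : Four) ^ 2 • π c0 x
          rw [zero_pow two_ne_zero, zero_smul, zero_smul]
          have h0 := hadd c0 0 0
          rw [add_zero] at h0
          exact add_right_cancel (h0.symm.trans (zero_add _).symm)
        · show π c0 ((1 : Four) • x) = (1 : Four) ^ 2 • π c0 x
          rw [one_pow, one_smul, one_smul]
        · exact hw x
        · rw [show Four.u ^ 2 = Four.w from rfl, show Four.u = (1 : Four) + Four.w from rfl, add_smul, one_smul,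
            hadd, hw, show Four.u = (1 : Four) + Four.w from rfl, add_smul, one_smul, ← add_assoc,
            show π c0 x + π c0 x = 0 from funext fun i => CfsgLib.Spor.Fi22.U6.add_self _, zero_add]
      have hfrs : ∀ (c : Four) (x : V6), frob (c • x) = c ^ 2 • frob x := fun c x => funext fun r => mul_pow _ _ 2
      let σ : Equiv.Perm V6 := frob * φ c0
      have hσlin : ∀ (c : Four) x, σ (c • x) = c • σ x := fun c x => by
        obtain ⟨x, rfl⟩ := P.surjective x
        rw [← hPsmul]
        simp only [σ, hφ, Equiv.Perm.mul_apply, inv_app]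
        rw [hs, hPsmul, hfrs, sq_sq]
      have hσadd : ∀ x y, σ (x + y) = σ x + σ y := fun x y => by
        simp only [σ, Equiv.Perm.mul_apply, hφadd]
        exact funext fun r => sq_add _ _
      have hσform : ∀ x y, hf (σ x) (σ y) = hf x y := fun x y => by
        obtain ⟨x, rfl⟩ := P.surjective x
        obtain ⟨y, rfl⟩ := P.surjective y
        simp only [σ, hφ, Equiv.Perm.mul_apply, inv_app, hf_frob, hPhf]
        have e1 := hBpres c0 x y
        have e2 := hBpres c0 (Four.w • x) y
        rw [hw, hf_smul_left, hf_smul_left] at e2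
        exact trF_ext_sq _ _ e1 e2
      have hσnorm : ∀ k ∈ K1, ∃ y ∈ K1, σ * lin k = lin y * σ := fun k hk => by
        obtain ⟨y, hy, e'⟩ := hnormK k hk
        refine ⟨frEl y, frEl_mem hy, ?_⟩
        show frob * φ c0 * lin k = _
        rw [mul_assoc, e', ← mul_assoc, frob_lin, mul_assoc]
      rcases key σ hσadd hσlin hσform hσnorm with h | ⟨k, hk, h⟩
      · obtain ⟨k', hk', e'⟩ := hswap .fr σ h
        refine ⟨.fr, k', hk', ?_⟩
        rw [← e']
        show φ c0 = frob * (frob * φ c0)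
        rw [← mul_assoc, frob_sq, one_mul]
      · obtain ⟨k', hk', e'⟩ := hswap .frsw k hk
        refine ⟨.frsw, k', hk', ?_⟩
        rw [← e']
        show φ c0 = frob * lin U43Six.sw * k
        rw [mul_assoc, ← h]
        show φ c0 = frob * (frob * φ c0)
        rw [← mul_assoc, frob_sq, one_mul]
  obtain ⟨o, k0, hk0, hc0k⟩ := hout
  refine ⟨{
    p := fun a => P (Ψ.symm (D.p a))
    φ := φ
    outer := o
    add := fun a b => by simp only [D.add, map_add, hPadd]
    surj := fun x => by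
      obtain ⟨a, ha⟩ := D.surj (Ψ (P⁻¹ x))
      exact ⟨a, by simp [ha]⟩
    ker := fun a => by
      rw [← D.ker]
      constructor
      · intro h
        have h0 : P 0 = 0 := by rw [hP, mulVec_zero]
        exact Ψ.symm.injective (by rw [P.injective (h.trans h0.symm), map_zero])
      · intro h
        show P (Ψ.symm (D.p a)) = 0
        rw [h, map_zero, hP, mulVec_zero]
    compat := fun c a b hb => by
      simp only [hφ, Equiv.Perm.mul_apply, inv_app, hπ, AddEquiv.apply_symm_apply,
        D.compat c a b hb]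
    φ_add := hφadd
    kerφ := hkφ
    sq := fun a => by
      rw [hPhf, ← hΨS, AddEquiv.apply_symm_apply, ← D.sq]
      exact bit_zero_iff _
    comm := fun a b => by
      rw [hPhf, ← hΨB, AddEquiv.apply_symm_apply, AddEquiv.apply_symm_apply, D.B_comm]
    mem_M := hmemM
    range_le := fun c => ?_
    K1_le := fun k hk => by
      obtain ⟨c, -, hc⟩ := hK1 k hk
      exact ⟨c, hc⟩
    outer_mem := ?_ }⟩
  · by_cases hc : c ∈ M
    · exact Or.inl ((hmemM c).1 hc)
    · refine Or.inr ?_
      have h1 : c * c0⁻¹ ∈ M := (Subgroup.mul_mem_iff_of_index_two hM2).2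
        (iff_of_false hc (fun h => hc0 (by simpa using inv_mem h)))
      refine ⟨φ (c * c0⁻¹) * k0, mul_mem ((hmemM _).1 h1) hk0, ?_⟩
      rw [mul_assoc, ← hc0k, ← map_mul, inv_mul_cancel_right]
  · obtain ⟨d, hd, e'⟩ := hK1 k0⁻¹ (inv_mem hk0)
    exact ⟨d * c0, by rw [map_mul, e', hc0k, inv_mul_cancel_left]⟩

end CfsgLib.Spor.LargeFischer
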