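import Cfsg.Agent.Lib.Spor.LargeFischer.Maps
import Cfsg.Agent.Lib.Spor.U43Six.Classes
import Cfsg.Agent.Lib.Spor.U43Six.Center
import Mathlib.GroupTheory.IsPerfect

/-!
# The triple cover is perfect
-/

set_option autoImplicit false
set_option maxRecDepth 100000

namespace CfsgLib.Spor.LargeFischer

open Subgroup Matrix CfsgLib.Spor.U43Six CfsgLib.Spor.Fi22.U6

/-- A product of two three-cycles. -/
def piTwo : Equiv.Perm (Fin 6) :=
  Equiv.swap 1 2 * Equiv.swap 0 1 * (Equiv.swap 4 5 * Equiv.swap 3 4)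

/-- Exponents increasing along the cycles. -/
def eTwo : E6 := ![0, 1, 2, 0, 1, 2]

theorem two_facts : Equiv.Perm.sign piTwo = 1 ∧ ∑ c, eTwo c = 0 ∧
    (∃ a : Four, a ≠ 1 ∧ mon piTwo 0 * mon 1 eTwo = scalarM a * (mon 1 eTwo * mon piTwo 0)) := by
  decide +kernel

theorem scalar_commutator : ∃ a b : K1, ∃ c : Four, c ≠ 1 ∧
    mat6 (a * b * a⁻¹ * b⁻¹ : K1).1 = scalarM c := by
  obtain ⟨hs, he, c, hc, heq⟩ := two_facts
  let a : K1 := ⟨mo piTwo 0 (by simp), MG_le_K1 (mo_mem (Equiv.Perm.mem_alternatingGroup.2 hs) _ _)⟩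
  let b : K1 := ⟨mo 1 eTwo he, MG_le_K1 (mo_mem (one_mem _) _ _)⟩
  refine ⟨a, b, c, hc, ?_⟩
  have h1 : mat6 (a.1 * b.1) = scalarM c * mat6 (b.1 * a.1) := by
    rw [mat_mul, mat_mul]; exact heq
  calc mat6 (a * b * a⁻¹ * b⁻¹ : K1).1 = mat6 (a.1 * b.1) * mat6 (b.1 * a.1)⁻¹ := by
        rw [← mat_mul]
        exact congrArg mat6 (by simp [mul_assoc])
    _ = scalarM c := by rw [h1, mul_assoc, ← mat_mul, mul_inv_cancel, mat_one, mul_one]

theorem K1_perfect {F : Type} [Field F] [Fintype F] (hF : Fintype.card F = 9) : Group.IsPerfect K1 := by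
  refine ⟨?_⟩
  haveI : Fact (Nat.Prime 3) := ⟨Nat.prime_three⟩
  obtain ⟨e⟩ := quot_K1 hF
  have hsimple := psu43_simple hF
  let f : K1 →* Cfsg.PSU 4 F 3 := e.toMonoidHom.comp (QuotientGroup.mk' (center K1))
  have hf : Function.Surjective f := e.surjective.comp (QuotientGroup.mk'_surjective _)
  have hZ : center K1 ≤ commutator K1 := by
    obtain ⟨a, b, c, hc, hm⟩ := scalar_commutator
    set x := a * b * a⁻¹ * b⁻¹ with hx
    have hxc : x ∈ commutator K1 := commutator_mem_commutator (mem_top a) (mem_top b)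
    have hxz : x ∈ center K1 := by
      rw [center_le_scalars hF]; exact mem_subgroupOf.2 ⟨c, hm⟩
    have hx1 : x ≠ 1 := fun h => by
      rw [h, Subgroup.coe_one, mat_one] at hm
      refine hc ?_
      have h0 := congrFun (congrFun hm 0) 0
      simpa [scalarM] using h0.symm
    intro y hy
    have hz : zpowers (⟨x, hxz⟩ : center K1) = ⊤ :=
      zpowers_eq_top_of_prime_card (center_K1 hF) fun h => hx1 (congrArg Subtype.val h)
    obtain ⟨k, hk⟩ : (⟨y, hy⟩ : center K1) ∈ zpowers (⟨x, hxz⟩ : center K1) := hz ▸ mem_top _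
    exact (show x ^ k = y from congrArg Subtype.val hk) ▸ zpow_mem hxc k
  have hmap : (commutator K1).map f = ⊤ := by
    rw [_root_.commutator_def, map_commutator, ← MonoidHom.range_eq_map, f.range_eq_top.2 hf, ← _root_.commutator_def]
    haveI := hsimple
    refine ((inferInstance : (commutator (Cfsg.PSU 4 F 3)).Normal).eq_bot_or_eq_top).resolve_left fun h => ?_
    have htop : center (Cfsg.PSU 4 F 3) = ⊤ := eq_top_iff.2 fun x _ => mem_center_iff.2 fun y => by
      have := (Subgroup.eq_bot_iff_forall _).1 h _ (commutator_mem_commutator (mem_top y) (mem_top x))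
      exact commutatorElement_eq_one_iff_mul_comm.1 this
    have h2 := center_psu43 hF
    rw [htop] at h2
    have := congrArg (fun S : Subgroup (Cfsg.PSU 4 F 3) => Nat.card S) h2
    simp only [Subgroup.card_top, Subgroup.card_bot, card_psu43 hF] at this
    norm_num at this
  refine eq_top_iff.2 fun x _ => ?_
  obtain ⟨y, hy, hyx⟩ : f x ∈ (commutator K1).map f := hmap ▸ mem_top _
  have hk : y⁻¹ * x ∈ center K1 := by
    have : f (y⁻¹ * x) = 1 := by rw [map_mul, map_inv, hyx, inv_mul_cancel]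
    exact (QuotientGroup.eq_one_iff _).1 (e.map_eq_one_iff.1 this)
  have := mul_mem hy (hZ hk)
  rwa [mul_inv_cancel_left] at this

theorem KP_commutator {F : Type} [Field F] [Fintype F] (hF : Fintype.card F = 9) : ⁅KP, KP⁆ = KP := by
  rw [KP, ← map_commutator, Subgroup.isPerfect_iff.1 (K1_perfect hF)]

end CfsgLib.Spor.LargeFischer
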