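import Cfsg.Agent.Lib.Spor.LargeFischer.StabLinesData
import Cfsg.Agent.Lib.Classical.QuadOrder
import Cfsg.Prelude.Def_Classical

/-!
# Automorphisms of the collinearity graph of twenty seven singular vectors are isometries
-/

set_option autoImplicit false
set_option maxRecDepth 100000

namespace CfsgLib.Spor.LargeFischer.Ell

open Matrix

/-- The coordinates. -/
abbrev I6 : Type := (Fin 2 ⊕ Fin 2) ⊕ Fin 2

/-- The number of a coordinate. -/
def idx : I6 → Fin 6
  | .inl (.inl i) => ⟨i.1, by omega⟩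
  | .inl (.inr i) => ⟨2 + i.1, by omega⟩
  | .inr i => ⟨4 + i.1, by omega⟩

/-- The form. -/
abbrev qf : (I6 → ZMod 2) → ZMod 2 := Cfsg.quadFormMinus 2 (ZMod 2) 1 1

/-- The polar form. -/
def bf (x y : I6 → ZMod 2) : ZMod 2 :=
  (∑ i : Fin 2, (x (.inl (.inl i)) * y (.inl (.inr i)) + x (.inl (.inr i)) * y (.inl (.inl i)))) +
    (x (.inr 0) * y (.inr 1) + x (.inr 1) * y (.inr 0))

theorem qf_add (x y : I6 → ZMod 2) : qf (x + y) = qf x + qf y + bf x y := by
  simp only [qf, Cfsg.quadFormMinus, bf, Fin.sum_univ_two, Pi.add_apply]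
  have h2 : (2 : ZMod 2) = 0 := rfl
  linear_combination (x (Sum.inr 0) * y (Sum.inr 0) + x (Sum.inr 1) * y (Sum.inr 1)) * h2

theorem bf_add (x y w : I6 → ZMod 2) : bf (x + y) w = bf x w + bf y w := by
  simp only [bf, Fin.sum_univ_two, Pi.add_apply]
  ring

theorem bf_add' (x y w : I6 → ZMod 2) : bf x (y + w) = bf x y + bf x w := by
  simp only [bf, Fin.sum_univ_two, Pi.add_apply]
  ring

theorem bf_zero (w : I6 → ZMod 2) : bf 0 w = 0 := by simp [bf]

/-- The singular vector of a line. -/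
def sv (c : Fin 27) : I6 → ZMod 2 := fun r => if (SU27.vecs.getD c.1 0).testBit (idx r).1 then 1 else 0

/-- Two lines meet. -/
def Adj (c d : Fin 27) : Prop := SU27.lineMask.getD c.1 0 &&& SU27.lineMask.getD d.1 0 ≠ 0

instance (c d : Fin 27) : Decidable (Adj c d) := inferInstanceAs (Decidable (_ ≠ _))

/-- The basic vector of a coordinate. -/
def bc (r : I6) : Fin 27 := (idx r).castLE (by norm_num)

/-- The basis. -/
def bm : Matrix I6 I6 (ZMod 2) := fun r s => sv (bc s) r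

/-- Its inverse. -/
def bmInv : Matrix I6 I6 (ZMod 2) := fun r s => if (SU27.inv.getD (idx r).1 0).testBit (idx s).1 then 1 else 0

theorem basis_ok : bmInv * bm = 1 ∧ bm * bmInv = 1 ∧ (∀ k : Fin 27, k.1 < 6 → ∃ r, bc r = k) := by decide +kernel

theorem sv_ok : (∀ c, qf (sv c) = 0) ∧ (∀ c d, Adj c d ↔ bf (sv c) (sv d) = 0) ∧
    (∀ c d, sv c = sv d → c = d) := by decide +kernel

theorem sv_line : ∀ c d e : Fin 27, c ≠ d → Adj c d → e ≠ c → e ≠ d → Adj e c → Adj e d →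
    ∀ r, sv c r + sv d r = sv e r := by decide +kernel

/-- The earlier vectors. -/
def prevA (k : Fin 27) : Fin 27 := Fin.ofNat 27 (SU27.par.getD k.1 (0, 0)).1

/-- The earlier vectors. -/
def prevB (k : Fin 27) : Fin 27 := Fin.ofNat 27 (SU27.par.getD k.1 (0, 0)).2

theorem par_ok : ∀ k : Fin 27, 6 ≤ k.1 → (prevA k).1 < k.1 ∧ (prevB k).1 < k.1 ∧ prevA k ≠ prevB k ∧
    Adj (prevA k) (prevB k) ∧ k ≠ prevA k ∧ k ≠ prevB k ∧ Adj k (prevA k) ∧ Adj k (prevB k) := by
  decide +kernel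

/-- The automorphisms of the collinearity graph. -/
def Aut27 : Subgroup (Equiv.Perm (Fin 27)) where
  carrier := {π | ∀ c d, Adj (π c) (π d) ↔ Adj c d}
  one_mem' := fun _ _ => Iff.rfl
  mul_mem' := fun {π ρ} h h' c d => (h (ρ c) (ρ d)).trans (h' c d)
  inv_mem' := fun {π} h c d => by
    have := h (π⁻¹ c) (π⁻¹ d)
    rw [← Equiv.Perm.mul_apply, ← Equiv.Perm.mul_apply, mul_inv_cancel] at this
    exact this.symm

/-- The linear map of an automorphism. -/
def lm (π : Equiv.Perm (Fin 27)) : Matrix I6 I6 (ZMod 2) := (Matrix.of fun r s => sv (π (bc s)) r) * bmInv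

theorem lm_sv {π : Equiv.Perm (Fin 27)} (h : π ∈ Aut27) : ∀ k, lm π *ᵥ sv k = sv (π k) := by
  suffices key : ∀ n, ∀ k : Fin 27, k.1 = n → lm π *ᵥ sv k = sv (π k) from fun k => key k.1 k rfl
  intro n
  induction n using Nat.strong_induction_on with
  | _ n ih =>
    intro k hk
    by_cases h6 : k.1 < 6
    · obtain ⟨r, rfl⟩ := basis_ok.2.2 k h6
      have e : sv (bc r) = bm *ᵥ Pi.single r 1 := by rw [mulVec_single_one]; rfl
      rw [e, lm, mulVec_mulVec, mul_assoc, basis_ok.1, mul_one, mulVec_single_one]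
      rfl
    · obtain ⟨ha, hb, hab, hA, ka, kb, hka, hkb⟩ := par_ok k (by omega)
      have e : sv k = sv (prevA k) + sv (prevB k) :=
        funext fun r => (sv_line _ _ _ hab hA ka kb hka hkb r).symm
      have e' : sv (π k) = sv (π (prevA k)) + sv (π (prevB k)) := funext fun r =>
        (sv_line _ _ _ (π.injective.ne hab) ((h _ _).2 hA) (π.injective.ne ka) (π.injective.ne kb)
          ((h _ _).2 hka) ((h _ _).2 hkb) r).symm
      rw [e, mulVec_add, ih _ (hk ▸ ha) _ rfl, ih _ (hk ▸ hb) _ rfl, ← e']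

theorem eq_sum (x : I6 → ZMod 2) : x = ∑ r, (bmInv *ᵥ x) r • sv (bc r) := by
  conv_lhs => rw [← one_mulVec x, ← basis_ok.2.1, ← mulVec_mulVec]
  funext s
  simp only [mulVec, dotProduct, bm, Finset.sum_apply, Pi.smul_apply, smul_eq_mul]
  exact Finset.sum_congr rfl fun r _ => mul_comm _ _

theorem ext_sv {A B : Matrix I6 I6 (ZMod 2)} (h : ∀ k, A *ᵥ sv k = B *ᵥ sv k) : A = B := by
  refine ext_iff_mulVec.2 fun x => ?_
  rw [eq_sum x]
  simp only [mulVec_sum, mulVec_smul, h]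

theorem lm_mul {π ρ : Equiv.Perm (Fin 27)} (h : π ∈ Aut27) (h' : ρ ∈ Aut27) : lm (π * ρ) = lm π * lm ρ :=
  ext_sv fun k => by rw [← mulVec_mulVec, lm_sv h', lm_sv h, lm_sv (mul_mem h h')]; rfl

theorem lm_one : lm 1 = 1 := ext_sv fun k => by rw [lm_sv (one_mem _), one_mulVec]; rfl

theorem lm_isometry {π : Equiv.Perm (Fin 27)} (h : π ∈ Aut27) (x : I6 → ZMod 2) :
    qf (lm π *ᵥ x) = qf x := by
  have hbb : ∀ c d, bf (sv (π c)) (sv (π d)) = bf (sv c) (sv d) := fun c d => by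
    have h1 := ((sv_ok.2.1 (π c) (π d)).symm.trans (h c d)).trans (sv_ok.2.1 c d)
    exact (by decide : ∀ a b : ZMod 2, (a = 0 ↔ b = 0) → a = b) _ _ h1
  let P : (I6 → ZMod 2) → Prop := fun y =>
    qf (lm π *ᵥ y) = qf y ∧ ∀ c, bf (lm π *ᵥ y) (sv (π c)) = bf y (sv c)
  have hP : P (∑ r, (bmInv *ᵥ x) r • sv (bc r)) := by
    refine Finset.sum_induction_nonempty _ P (fun a b ha hb => ?_) ⟨.inr 0, Finset.mem_univ _⟩ fun r _ => ?_
    · refine ⟨?_, fun c => by rw [mulVec_add, bf_add, bf_add, ha.2, hb.2]⟩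
      rw [mulVec_add, qf_add, qf_add, ha.1, hb.1]
      congr 1
      rw [eq_sum b, mulVec_sum]
      refine (map_sum (AddMonoidHom.mk' (bf (lm π *ᵥ a)) (bf_add' _)) _ _).trans
        (Eq.trans ?_ (map_sum (AddMonoidHom.mk' (bf a) (bf_add' _)) _ _).symm)
      refine Finset.sum_congr rfl fun r _ => ?_
      show bf (lm π *ᵥ a) (lm π *ᵥ _) = bf a _
      rcases (by decide : ∀ c : ZMod 2, c = 0 ∨ c = 1) ((bmInv *ᵥ b) r) with e | e <;> rw [e]
      · have z : ∀ u, bf u 0 = 0 := fun u => by simp [bf]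
        rw [zero_smul, mulVec_zero, z, z]
      · rw [one_smul, lm_sv h, ha.2]
    · rcases (by decide : ∀ c : ZMod 2, c = 0 ∨ c = 1) ((bmInv *ᵥ x) r) with e | e <;> rw [e]
      · rw [zero_smul]
        exact ⟨by rw [mulVec_zero], fun c => by rw [mulVec_zero, bf_zero, bf_zero]⟩
      · rw [one_smul]
        exact ⟨by rw [lm_sv h, sv_ok.1, sv_ok.1], fun c => by rw [lm_sv h]; exact hbb _ _⟩
  rw [eq_sum x]
  exact hP.1

/-- The invertible linear map of an automorphism. -/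
def gl : Aut27 →* GL I6 (ZMod 2) where
  toFun π := ⟨lm π.1, lm (π.1)⁻¹, by rw [← lm_mul π.2 (inv_mem π.2), mul_inv_cancel, lm_one],
    by rw [← lm_mul (inv_mem π.2) π.2, inv_mul_cancel, lm_one]⟩
  map_one' := Units.ext lm_one
  map_mul' π ρ := Units.ext (lm_mul π.2 ρ.2)

theorem exists_embed : ∃ f : Aut27 →* Cfsg.isometryGroup (ZMod 2) qf, Function.Injective f := by
  refine ⟨gl.codRestrict _ fun π u _ => lm_isometry π.2 u, fun π ρ e => Subtype.ext (Equiv.ext fun k => ?_)⟩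
  refine sv_ok.2.2 _ _ ?_
  rw [← lm_sv π.2, ← lm_sv ρ.2]
  exact congrArg (fun A : Matrix I6 I6 (ZMod 2) => A *ᵥ sv k) (congrArg Units.val (congrArg Subtype.val e))

theorem card_isometry : Nat.card ↥(Cfsg.isometryGroup (ZMod 2) qf) = 51840 := by
  rw [CfsgLib.Classical.card_iso_minus (by decide) 2, ZMod.card]
  decide

end CfsgLib.Spor.LargeFischer.Ell
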