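import Cfsg.Agent.Lib.Spor.LargeFischer.Orbits

/-!
# Chosen elements of the triple cover
-/

set_option autoImplicit false
set_option maxRecDepth 100000

namespace CfsgLib.Spor.LargeFischer

open Matrix CfsgLib.Spor.U43Six CfsgLib.Spor.Fi22.U6

/-- The matrix of a chosen element. -/
def eM (i : ℕ) : M6 := tmat Elt.rows i

theorem elts_ok : ∀ i < 22, (∀ j ∈ (Elt.words.getD i ([], 0)).1, j < 4) ∧
    ofN (Elt.words.getD i ([], 0)).2 ≠ 0 ∧
    colsOK Data.abRows (Elt.words.getD i ([], 0)).1 (Elt.trajs.getD i [])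
      (ofN (Elt.words.getD i ([], 0)).2 ^ 2 • eM i) = true := by
  decide +kernel

theorem elt_exists (i : Fin 22) : ∃ g ∈ K1, mat6 g = eM i := by
  obtain ⟨hw, hc, hcols⟩ := elts_ok i.1 i.2
  generalize ofN (Elt.words.getD i.1 ([], 0)).2 = c at hc hcols
  obtain ⟨x, hx, hm⟩ := word_mem hw
  rw [cols_spec hcols] at hm
  refine ⟨scal c hc * x, mul_mem (scalars_le (scal_mem _ _)) hx, ?_⟩
  rw [mat_mul, hm, scal, mat_mkG, scalarM, smul_mul_assoc, one_mul, smul_smul, mul_comm, cube c hc, one_smul]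

/-- A chosen element. -/
noncomputable def el (i : Fin 22) : G6 := (elt_exists i).choose

theorem el_mem (i : Fin 22) : el i ∈ K1 := (elt_exists i).choose_spec.1

theorem mat_el (i : Fin 22) : mat6 (el i) = eM i := (elt_exists i).choose_spec.2

theorem el_apply (i : Fin 22) (x : V6) : lin (el i) x = eM i *ᵥ x := by rw [lin_apply, mat_el]

theorem el_KP (i : Fin 22) : lin (el i) ∈ KP := lin_mem_KP.2 (el_mem i)

end CfsgLib.Spor.LargeFischer
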