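import Cfsg.Agent.Lib.Spor.LargeFischer.Module
import Cfsg.Agent.Lib.Classical.HermFrames

/-!
# Hermitian coordinates on the quadratic space
-/

set_option autoImplicit false

namespace CfsgLib.Spor.LargeFischer

open Subgroup CfsgLib.Spor.U43Six CfsgLib.Spor.Fi22.U6

universe u

/-- A bit as a scalar. -/
def bitF (a : ZMod 2) : Four := if a = 0 then 0 else 1

theorem bitF_add : ∀ a b : ZMod 2, bitF (a + b) = bitF a + bitF b := by decide

/-- The trace of a scalar over the prime field. -/
def trF (x : Four) : ZMod 2 := if x + x ^ 2 = 0 then 0 else 1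

theorem trF_pair : ∀ a b : ZMod 2, trF (bitF a + bitF b * Four.w) = b := by decide

theorem pair_w : ∀ a b : ZMod 2, Four.w * (bitF a + bitF b * Four.w) = bitF b + bitF (a + b) * Four.w := by decide

theorem pair_u : ∀ a b : ZMod 2, Four.u * (bitF a + bitF b * Four.w) = bitF (a + b) + bitF a * Four.w := by decide

theorem pair_sq : ∀ a b : ZMod 2, (bitF a + bitF b * Four.w) ^ 2 = bitF (a + b) + bitF b * Four.w := by decide

theorem pair_add : ∀ a b c d : ZMod 2,
    bitF (a + c) + bitF (b + d) * Four.w = bitF a + bitF b * Four.w + (bitF c + bitF d * Four.w) := by decide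

variable {C : Type u} [Group C] [Finite C] {Q : Subgroup C}

/-- Coordinates in which the quadratic form is the hermitian form, and a given fixed-point-free element of order
three is a scalar. -/
theorem exists_coords {V : Type u} [AddCommGroup V] (D : QuadSpace Q V) (hcard : Nat.card Q = 2 ^ 13) (X : C)
    (hT : D.φ X * D.φ X = 1 + D.φ X) :
    ∃ Ψ : V6 ≃+ V, (∀ x, D.φ X (Ψ x) = Ψ (Four.w • x)) ∧ (∀ x, bitF (D.S (Ψ x)) = hf x x) ∧
      ∀ x y, D.B (Ψ x) (Ψ y) = trF (hf x y) := by
  classical
  haveI : Finite V := Finite.of_surjective D.p D.surj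
  set T := D.φ X with hTd
  letI : Module Four V := Module.compHom V (scalHom T D.two hT)
  have hsmul : ∀ (c : Four) (v : V), c • v = scalEnd T c v := fun c v => rfl
  have hTT : ∀ v, T (T v) = v + T v := fun v => DFunLike.congr_fun hT v
  have hSB : ∀ x y, D.B x y = D.S (x + y) + D.S x + D.S y := fun x y => by
    rw [D.S_add]
    generalize D.S x = a; generalize D.S y = b; generalize D.B x y = d
    revert a b d; decide
  have hBT : ∀ a b, D.B (T a) (T b) = D.B a b := fun a b => by
    rw [hSB, hSB, ← map_add, hTd, D.S_inv, D.S_inv, D.S_inv]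
  have hBadd' : ∀ x y w, D.B x (y + w) = D.B x y + D.B x w := fun x y w => by
    rw [D.B_symm, D.B_add, D.B_symm y, D.B_symm w]
  have hB0 : ∀ y, D.B 0 y = 0 := fun y => by
    have := D.B_add 0 0 y
    rw [add_zero] at this
    revert this
    generalize D.B 0 y = a
    revert a; decide
  have hT2 : ∀ a b, D.B (T (T a)) b = D.B a b + D.B (T a) b := fun a b => by rw [hTT, D.B_add]
  have hTb : ∀ a b, D.B a (T b) = D.B (T (T a)) b := fun a b => by
    have h3 : T (T (T a)) = a := by rw [hTT (T a), hTT a, add_left_comm, D.two, add_zero]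
    rw [← hBT (T (T a)) b, h3]
  let H : V → V → Four := fun a b => bitF (D.B (T (T a)) b) + bitF (D.B a b) * Four.w
  have hHadd : ∀ a b c, H (a + b) c = H a c + H b c := fun a b c => by
    simp only [H, map_add, D.B_add, pair_add]
  have hHw : ∀ a b, H (T a) b = Four.w * H a b := fun a b => by
    have e : T (T (T a)) = a := by rw [hTT (T a), hTT a, add_left_comm, D.two, add_zero]
    simp only [H, pair_w, e, hT2]
    generalize D.B a b = r; generalize D.B (T a) b = s
    revert r s; decide
  have hHsymm : ∀ a b, H b a = H a b ^ 2 := fun a b => by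
    simp only [H, pair_sq]
    rw [D.B_symm b a, D.B_symm (T (T b)) a, hTb, hTb, hT2, hT2]
    have e : T (T (T a)) = a := by rw [hTT (T a), hTT a, add_left_comm, D.two, add_zero]
    rw [e]
  have hH0 : ∀ b, H 0 b = 0 := fun b => by
    simp only [H, map_zero, hB0]
    rfl
  have hHsmul : ∀ (c : Four) (a b : V), H (c • a) b = c * H a b := fun c a b => by
    rw [hsmul]
    cases c
    · show H 0 b = _
      rw [hH0]; exact (zero_mul _).symm
    · exact (one_mul _).symm
    · exact hHw a b
    · show H (a + T a) b = _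
      rw [hHadd, hHw]
      exact (show ∀ x : Four, x + Four.w * x = Four.u * x by decide) _
  have hHadd' : ∀ a b c, H a (b + c) = H a b + H a c := fun a b c => by
    rw [hHsymm (b + c), hHadd, sq_add, ← hHsymm b, ← hHsymm c]
  have hHsmul' : ∀ (c : Four) (a b : V), H a (c • b) = c ^ 2 * H a b := fun c a b => by
    rw [hHsymm (c • b), hHsmul, mul_pow, ← hHsymm b]
  have hSH : ∀ a, bitF (D.S a) = H a a := fun a => by
    have h1 : D.B a a = 0 := by
      have h2 := D.S_add a a
      rw [D.two] at h2
      have h0 : D.S 0 = 0 := by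
        have h3 := D.S_add 0 0
        rw [add_zero, hB0, add_zero] at h3
        revert h3
        generalize D.S (0 : V) = r
        revert r; decide
      rw [h0] at h2
      revert h2
      generalize D.B a a = r; generalize D.S a = s
      revert r s; decide
    have h4 : D.S a = D.B (T (T a)) a := by
      rw [← hTb, hSB, ← hTT, hTd, D.S_inv, D.S_inv]
      generalize D.S a = r
      revert r; decide
    show _ = bitF (D.B (T (T a)) a) + bitF (D.B a a) * Four.w
    rw [← h4, h1]
    generalize D.S a = r
    revert r; decide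
  let Bs : V →ₛₗ[sqh] V →ₗ[Four] Four :=
    LinearMap.mk₂'ₛₗ sqh (RingHom.id Four) (fun a b => H b a)
      (fun a b c => hHadd' c a b) (fun r a b => hHsmul' r b a)
      (fun a b c => hHadd b c a) (fun r a b => hHsmul r b a)
  have hsymm : Bs.IsSymm := ⟨fun a b => (hHsymm b a).symm⟩
  have hnd : Bs.Nondegenerate := by
    have key : ∀ a, (∀ b, H a b = 0) → a = 0 := fun a h => D.B_nondeg a fun b => by
      have h1 := h b
      have h2 := trF_pair (D.B (T (T a)) b) (D.B a b)
      rw [show bitF (D.B (T (T a)) b) + bitF (D.B a b) * Four.w = 0 from h1] at h2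
      exact h2.symm
    exact ⟨fun a ha => key a fun b => by
      have h := ha b
      rw [hHsymm b a, show H b a = 0 from h, zero_pow two_ne_zero],
      fun b hb => key b fun a => hb a⟩
  have hfin : Module.finrank Four V = 6 := by
    have h := D.card
    rw [hcard, Module.natCard_eq_pow_finrank (K := Four), Nat.card_eq_fintype_card, Four.card_four,
      show (4 : ℕ) = 2 ^ 2 by norm_num, ← pow_mul, ← pow_succ'] at h
    have := Nat.pow_right_injective le_rfl h
    omega
  obtain ⟨v, hv⟩ := CfsgLib.Classical.HermFrames.exists_orth (B := Bs)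
    (fun h => absurd (DFunLike.congr_fun h Four.w) (by decide)) sq_sq hsymm hnd 6 hfin.ge
  have hli := CfsgLib.Classical.HermFrames.linearIndependent_of_orth hv
  let b := basisOfLinearIndependentOfCardEqFinrank hli (by rw [hfin, Fintype.card_fin])
  have hbv : ∀ i, b i = v i := fun i => by simp [b]
  let Ψ : V6 ≃ₗ[Four] V := b.equivFun.symm
  have hΨ : ∀ x, Ψ x = ∑ i, x i • v i := fun x => by
    rw [Module.Basis.equivFun_symm_apply]
    exact Finset.sum_congr rfl fun i _ => by rw [hbv]
  have hform : ∀ x y, H (Ψ x) (Ψ y) = hf x y := by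
    intro x y
    have hl : ∀ (f : Fin 6 → V) (c : V), H (∑ i, f i) c = ∑ i, H (f i) c := fun f c =>
      map_sum (AddMonoidHom.mk' (fun a => H a c) fun a a' => hHadd a a' c) f Finset.univ
    have hr : ∀ (f : Fin 6 → V) (c : V), H c (∑ i, f i) = ∑ i, H c (f i) := fun f c =>
      map_sum (AddMonoidHom.mk' (fun a => H c a) fun a a' => hHadd' c a a') f Finset.univ
    rw [hΨ, hΨ, hl]
    show _ = ∑ i, x i * y i ^ 2
    refine Finset.sum_congr rfl fun i _ => ?_
    rw [hHsmul, hr, Finset.sum_eq_single i]
    · rw [hHsmul', show H (v i) (v i) = 1 from (hv i i).trans (if_pos rfl), mul_one]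
    · intro j _ hj
      rw [hHsmul', show H (v i) (v j) = 0 from (hv j i).trans (if_neg hj), mul_zero]
    · simp
  refine ⟨Ψ.toAddEquiv, fun x => ?_, fun x => ?_, fun x y => ?_⟩
  · show T (Ψ x) = Ψ (Four.w • x)
    rw [map_smul, hsmul]
    rfl
  · show bitF (D.S (Ψ x)) = _
    rw [hSH, hform]
  · show D.B (Ψ x) (Ψ y) = _
    rw [← hform]
    exact (trF_pair _ _).symm

end CfsgLib.Spor.LargeFischer
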