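import Cfsg.Agent.Lib.Spor.LargeFischer.LineModel

/-!
# The eight-group over the line of a conjugate, its centralizer and the largest two-subgroup of that
-/

set_option autoImplicit false
set_option maxRecDepth 100000

namespace CfsgLib.Spor.LargeFischer

open Subgroup Matrix CfsgLib.Spor.U43Six CfsgLib.Spor.Fi22.U6

variable {G : Type*} [Group G]

/-- The preimage in `Q` of the line through the base vector. -/
def lineSub (Q : Subgroup G) (vec : G → V6) : Subgroup G := closure {q | q ∈ Q ∧ InL (vec q)}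

/-- The largest two-subgroup of the centralizer of the eight-group. -/
noncomputable def lineR (z : G) (Q : Subgroup G) (vec : G → V6) (φ : ↥(centralizer ({z} : Set G)) →* Equiv.Perm V6) :
    Subgroup G :=
  ((R16.comap φ) ⊓ (centralizer ((lineSub Q vec : Subgroup G) : Set G)).subgroupOf
    (centralizer ({z} : Set G))).map (centralizer ({z} : Set G)).subtype

/-- A conjugate of the central element in `Q` over the base vector. -/
structure Base (z : G) (Q : Subgroup G) (vec : G → V6) (g : G) : Prop where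
  mem : g * z * g⁻¹ ∈ Q
  ne : g * z * g⁻¹ ≠ z
  vec_eq : vec (g * z * g⁻¹) = vB

theorem mem_conj {Q : Subgroup G} {g x : G} : x ∈ Q.map (MulAut.conj g).toMonoidHom ↔ g⁻¹ * x * g ∈ Q := by
  constructor
  · rintro ⟨q, hq, rfl⟩
    show g⁻¹ * (g * q * g⁻¹) * g ∈ Q
    rwa [show g⁻¹ * (g * q * g⁻¹) * g = q by group]
  · intro h
    exact ⟨_, h, show g * (g⁻¹ * x * g) * g⁻¹ = x by group⟩

namespace Data

variable [Finite G] {z : G} {Q : Subgroup G} {vec : G → V6}
  {φ : ↥(centralizer ({z} : Set G)) →* Equiv.Perm V6} {o : Outer} (D : Data z Q vec φ o)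
include D

theorem exists_base {g : G} (hgQ : g * z * g⁻¹ ∈ Q) (hne : g * z * g⁻¹ ≠ z) : ∃ g', Base z Q vec g' := by
  obtain ⟨c, hc⟩ := D.conj_to_base hgQ hne
  obtain ⟨h1, h2, h3⟩ := D.shift hgQ hne c
  exact ⟨(c : G) * g, h1, h2, h3.trans hc⟩

theorem vec_inv {a : G} (ha : a ∈ Q) : vec a⁻¹ = vec a := by
  have h := D.add a ha a⁻¹ (Subgroup.inv_mem Q ha)
  rw [mul_inv_cancel, D.vec_one] at h
  refine add_left_cancel (h.symm.trans (funext fun r => ?_).symm)
  exact CfsgLib.Spor.Fi22.U6.add_self _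

theorem mem_line {q : G} : q ∈ lineSub Q vec ↔ q ∈ Q ∧ InL (vec q) := by
  refine ⟨fun h => ?_, fun h => subset_closure h⟩
  induction h using Subgroup.closure_induction with
  | mem x hx => exact hx
  | one => exact ⟨one_mem Q, 0, by rw [D.vec_one, zero_smul]⟩
  | mul x y _ _ ix iy => exact ⟨Subgroup.mul_mem Q ix.1 iy.1, D.add x ix.1 y iy.1 ▸ inL_add ix.2 iy.2⟩
  | inv x _ ix => exact ⟨Subgroup.inv_mem Q ix.1, (D.vec_inv ix.1).symm ▸ ix.2⟩

theorem line_le : lineSub Q vec ≤ Q := fun _ h => (D.mem_line.1 h).1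

theorem z_line : z ∈ lineSub Q vec := D.mem_line.2 ⟨D.core.mem, 0, by rw [D.vec_z, zero_smul]⟩

theorem s_line {g : G} (hB : Base z Q vec g) : g * z * g⁻¹ ∈ lineSub Q vec :=
  D.mem_line.2 ⟨hB.mem, 1, by rw [hB.vec_eq, one_smul]⟩

theorem cv_le : centralizer ((lineSub Q vec : Subgroup G) : Set G) ≤ centralizer ({z} : Set G) :=
  centralizer_le (Set.singleton_subset_iff.2 D.z_line)

theorem mem_lineR {x : G} : x ∈ lineR z Q vec φ ↔ x ∈ centralizer ((lineSub Q vec : Subgroup G) : Set G) ∧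
    ∀ h : x ∈ centralizer ({z} : Set G), φ ⟨x, h⟩ ∈ R16 := by
  constructor
  · rintro ⟨c, ⟨h1, h2⟩, rfl⟩
    exact ⟨h2, fun h => h1⟩
  · rintro ⟨h1, h2⟩
    exact ⟨⟨x, D.cv_le h1⟩, ⟨h2 _, h1⟩, rfl⟩

theorem move_z {y q : G} (hy : y ∈ Q) (hq : q ∈ Q) (h : trF (hf (vec y) (vec q)) ≠ 0) :
    y * q * y⁻¹ = q * z := by
  rcases D.half.comm y hy q hq with e | e
  · exact absurd ((D.comm y hy q hq).2 (mul_inv_eq_iff_eq_mul.1 (mul_inv_eq_one.1 e))) h
  · rw [mul_inv_eq_iff_eq_mul.1 e, D.half.cz q hq]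

theorem fix_q {y q : G} (hy : y ∈ Q) (hq : q ∈ Q) (h : trF (hf (vec y) (vec q)) = 0) : y * q * y⁻¹ = q :=
  mul_inv_eq_iff_eq_mul.2 ((D.comm y hy q hq).1 h)

/-- Centralizing the eight-group is centralizing three elements. -/
theorem cent_line {g t : G} (hB : Base z Q vec g) (ht : t ∈ Q) (htv : vec t = Four.w • vB) {x : G}
    (hz : x * z = z * x) (hs : x * (g * z * g⁻¹) = g * z * g⁻¹ * x) (hxt : x * t = t * x) :
    x ∈ centralizer ((lineSub Q vec : Subgroup G) : Set G) := by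
  refine mem_centralizer_iff.2 fun q hq => ?_
  obtain ⟨hqQ, hqL⟩ := D.mem_line.1 hq
  have hs' : Commute x (g * z * g⁻¹) := hs
  have ht' : Commute x t := hxt
  have hz' : Commute x z := hz
  have key : ∀ {r : G}, r ∈ Q → Commute x r → vec q = vec r → q * x = x * q := by
    intro r hr hxr e
    rcases D.same_class hr hqQ e.symm with e' | e' <;> rw [e']
    · exact hxr.symm
    · exact (hxr.mul_right hz').symm
  rcases inL_cases hqL with e | e | e | e
  · exact key (one_mem Q) (Commute.one_right x) (e.trans D.vec_one.symm)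
  · exact key hB.mem hs' (e.trans hB.vec_eq.symm)
  · exact key ht ht' (e.trans htv.symm)
  · exact key (Subgroup.mul_mem Q ht hB.mem) (ht'.mul_right hs') (by
      rw [D.add t ht _ hB.mem, htv, hB.vec_eq]; exact e)

theorem phi_cv {g : G} (hB : Base z Q vec g) {c : ↥(centralizer ({z} : Set G))}
    (hc : (c : G) ∈ centralizer ((lineSub Q vec : Subgroup G) : Set G)) : φ c ∈ KP ⊓ GV := by
  obtain ⟨t, ht, htv⟩ := D.surj (Four.w • vB)
  have hfix : ∀ q ∈ lineSub Q vec, φ c (vec q) = vec q := fun q hq => by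
    rw [← D.conj c q (D.line_le hq), mul_inv_eq_iff_eq_mul.2 (mem_centralizer_iff.1 hc q hq).symm]
  have hv : φ c vB = vB := hB.vec_eq ▸ hfix _ (D.s_line hB)
  have hw : φ c (Four.w • vB) = Four.w • vB := htv ▸ hfix t (D.mem_line.2 ⟨ht, Four.w, htv⟩)
  refine Subgroup.mem_inf.2 ⟨?_, D.good c, hv⟩
  rcases D.range_le c with h | ⟨k, hk, h⟩
  · exact h
  · exfalso
    rw [h, Equiv.Perm.mul_apply] at hv hw
    rw [D.outer_eq hB.mem hB.ne, frsw_smul, lin_smul hk, ← D.outer_eq hB.mem hB.ne, hv] at hw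
    exact line_facts.2.2.2.2.2.2 hw

/-- Elements fixing the base vector linearly can be corrected to centralize the eight-group. -/
theorem correct {g : G} (hB : Base z Q vec g) {d : ↥(centralizer ({z} : Set G))} (hd : φ d ∈ KP ⊓ GV) :
    ∃ c : ↥(centralizer ({z} : Set G)), φ c = φ d ∧
      (c : G) ∈ centralizer ((lineSub Q vec : Subgroup G) : Set G) := by
  obtain ⟨t, ht, htv⟩ := D.surj (Four.w • vB)
  obtain ⟨y1, hy1, hy1v⟩ := D.surj (dec 2)
  obtain ⟨y2, hy2, hy2v⟩ := D.surj (dec 1)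
  obtain ⟨d1, d2, d3, d4⟩ := dual_vectors
  set s := g * z * g⁻¹ with hs
  have hdz := mem_centralizer_singleton_iff.1 d.2
  have hsd : (d : G) * s * (d : G)⁻¹ = s ∨ (d : G) * s * (d : G)⁻¹ = s * z :=
    D.same_class hB.mem (D.core.norm _ hdz _ hB.mem) (by
      rw [D.conj d _ hB.mem, hB.vec_eq, hd.2.2])
  have htd : (d : G) * t * (d : G)⁻¹ = t ∨ (d : G) * t * (d : G)⁻¹ = t * z :=
    D.same_class ht (D.core.norm _ hdz _ ht) (by
      rw [D.conj d _ ht, htv, lin_smul hd.1, hd.2.2])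
  have hsv : vec s = vB := hB.vec_eq
  have h1s : y1 * s * y1⁻¹ = s * z := D.move_z hy1 hB.mem (by rw [hy1v, hsv, d1]; decide)
  have h1t : y1 * t * y1⁻¹ = t := D.fix_q hy1 ht (by rw [hy1v, htv, d2])
  have h2s : y2 * s * y2⁻¹ = s := D.fix_q hy2 hB.mem (by rw [hy2v, hsv, d3])
  have h2t : y2 * t * y2⁻¹ = t * z := D.move_z hy2 ht (by rw [hy2v, htv, d4]; decide)
  have step : ∀ y a : G, y ∈ Q → y * a * y⁻¹ = a * z → y * (a * z) * y⁻¹ = a := by
    intro y a hy h
    rw [show y * (a * z) * y⁻¹ = (y * a * y⁻¹) * (y * z * y⁻¹) by group, h, D.half.cz y hy, mul_inv_cancel_right,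
      mul_assoc, D.zz, mul_one]
  have fixz : ∀ y a : G, y ∈ Q → y * a * y⁻¹ = a → y * (a * z) * y⁻¹ = a * z := by
    intro y a hy h
    rw [show y * (a * z) * y⁻¹ = (y * a * y⁻¹) * (y * z * y⁻¹) by group, h, D.half.cz y hy, mul_inv_cancel_right]
  have build : ∀ y : G, y ∈ Q → y * ((d : G) * s * (d : G)⁻¹) * y⁻¹ = s →
      y * ((d : G) * t * (d : G)⁻¹) * y⁻¹ = t →
      ∃ c : ↥(centralizer ({z} : Set G)), φ c = φ d ∧
        (c : G) ∈ centralizer ((lineSub Q vec : Subgroup G) : Set G) := by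
    intro y hy e1 e2
    refine ⟨⟨y, D.core.le hy⟩ * d, by rw [map_mul, (D.kerφ _).2 hy, one_mul], D.cent_line hB ht htv
      (mem_centralizer_singleton_iff.1 (⟨y, D.core.le hy⟩ * d).2) ?_ ?_⟩
    · refine mul_inv_eq_iff_eq_mul.1 ?_
      rw [Subgroup.coe_mul, show y * (d : G) * s * (y * (d : G))⁻¹ = y * ((d : G) * s * (d : G)⁻¹) * y⁻¹ by group, e1]
    · refine mul_inv_eq_iff_eq_mul.1 ?_
      rw [Subgroup.coe_mul, show y * (d : G) * t * (y * (d : G))⁻¹ = y * ((d : G) * t * (d : G)⁻¹) * y⁻¹ by group, e2]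
  rcases hsd with a | a <;> rcases htd with b | b
  · exact ⟨d, rfl, D.cent_line hB ht htv hdz (mul_inv_eq_iff_eq_mul.1 a) (mul_inv_eq_iff_eq_mul.1 b)⟩
  · exact build y2 hy2 (by rw [a, h2s]) (by rw [b]; exact step _ _ hy2 h2t)
  · exact build y1 hy1 (by rw [a]; exact step _ _ hy1 h1s) (by rw [b, h1t])
  · refine build (y1 * y2) (Subgroup.mul_mem Q hy1 hy2) ?_ ?_
    · rw [a, show y1 * y2 * (s * z) * (y1 * y2)⁻¹ = y1 * (y2 * (s * z) * y2⁻¹) * y1⁻¹ by group,
        fixz _ _ hy2 h2s, step _ _ hy1 h1s]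
    · rw [b, show y1 * y2 * (t * z) * (y1 * y2)⁻¹ = y1 * (y2 * (t * z) * y2⁻¹) * y1⁻¹ by group,
        step _ _ hy2 h2t, h1t]

theorem exists_cv {g : G} (hB : Base z Q vec g) {f : Equiv.Perm V6} (hf : f ∈ KP ⊓ GV) :
    ∃ c : ↥(centralizer ({z} : Set G)), φ c = f ∧
      (c : G) ∈ centralizer ((lineSub Q vec : Subgroup G) : Set G) := by
  obtain ⟨d, rfl⟩ := D.K1_le f hf.1
  exact D.correct hB hf

/-- The number of elements of `Q` over a set of vectors. -/
theorem card_pre (P : V6 → Prop) : Nat.card {q : G // q ∈ Q ∧ P (vec q)} = 2 * Nat.card {x : V6 // P x} := by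
  choose sec hsec hvec using D.surj
  have hvz : ∀ i : Fin 2, (if i = 0 then 1 else z) ∈ Q ∧ vec (if i = 0 then 1 else z) = 0 := fun i => by
    split
    exacts [⟨one_mem _, D.vec_one⟩, ⟨D.core.mem, D.vec_z⟩]
  have hv : ∀ x (i : Fin 2), vec (sec x * if i = 0 then 1 else z) = x := fun x i => by
    rw [D.add _ (hsec x) _ (hvz i).1, (hvz i).2, add_zero, hvec]
  let f : {x : V6 // P x} × Fin 2 → {q : G // q ∈ Q ∧ P (vec q)} := fun p =>
    ⟨sec p.1.1 * if p.2 = 0 then 1 else z, Subgroup.mul_mem Q (hsec _) (hvz p.2).1, by rw [hv]; exact p.1.2⟩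
  have hb : Function.Bijective f := by
    constructor
    · rintro ⟨x, i⟩ ⟨y, j⟩ e
      have e' : sec x.1 * (if i = 0 then 1 else z) = sec y.1 * (if j = 0 then 1 else z) := congrArg Subtype.val e
      have hxy : x.1 = y.1 := by rw [← hv x.1 i, e', hv]
      rw [hxy] at e'
      have e'' := mul_left_cancel e'
      refine Prod.ext (Subtype.ext hxy) ?_
      by_cases hi : i = 0 <;> by_cases hj : j = 0 <;> simp only [hi, hj, if_true, if_false] at e''
      · exact hi.trans hj.symm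
      · exact absurd e''.symm D.z_ne
      · exact absurd e'' D.z_ne
      · exact (Fin.eq_one_of_ne_zero i hi).trans (Fin.eq_one_of_ne_zero j hj).symm
    · rintro ⟨q, hq, hP⟩
      rcases D.same_class (hsec (vec q)) hq (hvec _) with e | e
      · exact ⟨(⟨vec q, hP⟩, 0), Subtype.ext (by simp [f, ← e])⟩
      · exact ⟨(⟨vec q, hP⟩, 1), Subtype.ext (by simp [f, ← e])⟩
  rw [← Nat.card_eq_of_bijective f hb, Nat.card_prod, Nat.card_fin, mul_comm]

theorem card_line : Nat.card (lineSub Q vec) = 8 := by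
  rw [← Nat.card_congr (Equiv.subtypeEquivRight fun q => (D.mem_line (q := q)).symm), D.card_pre InL]
  have h : Nat.card {x : V6 // InL x} = 4 := by
    refine (Nat.card_eq_of_bijective (fun a : Four => (⟨a • vB, a, rfl⟩ : {x : V6 // InL x})) ⟨fun a b e =>
      smul_left_injective Four base_facts.2.2.1 (congrArg Subtype.val e), fun x => ?_⟩).symm.trans ?_
    · obtain ⟨a, ha⟩ := x.2
      exact ⟨a, Subtype.ext ha.symm⟩
    · rw [Nat.card_eq_fintype_card, Four.card_four]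
  rw [h]

theorem kgen_imE {g : G} (hB : Base z Q vec g) (i : Fin 4) : kgen i.castSucc ∈ imE Q φ g := by
  rw [(D.conj_stab hB.mem hB.ne hB.vec_eq).2.1]
  exact Subgroup.subset_closure ⟨_, rfl⟩

theorem inU_of_mem {g : G} (hB : Base z Q vec g) {q : G} (hq : q ∈ Q)
    (hq' : q ∈ Q.map (MulAut.conj g).toMonoidHom) : InU (vec q) := by
  intro i
  obtain ⟨e, he, hei⟩ := D.kgen_imE hB i
  have hd := D.duo hB.mem hB.ne
  have hez := mem_centralizer_singleton_iff.1 e.2
  have hm : vec ((e : G) * q * (e : G)⁻¹ * q⁻¹) = kgenF i.castSucc (vec q) + vec q := by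
    rw [D.add _ (D.core.norm _ hez q hq) _ (Subgroup.inv_mem Q hq), D.conj e q hq, hei, kgen_apply, D.vec_inv hq]
  rcases hd.right.comm (e : G) he q hq' with h | h <;> rw [h] at hm
  · exact Or.inl (hm.symm.trans D.vec_one)
  · exact Or.inr (hm.symm.trans hB.vec_eq)

/-- The meet is the preimage of its image. -/
theorem mem_meet {g : G} (hB : Base z Q vec g) {q : G} (hq : q ∈ Q) :
    q ∈ Q.map (MulAut.conj g).toMonoidHom ↔ InU (vec q) := by
  refine ⟨D.inU_of_mem hB hq, fun hu => ?_⟩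
  let ι : ↥(Q ⊓ Q.map (MulAut.conj g).toMonoidHom) → {r : G // r ∈ Q ∧ InU (vec r)} := fun r =>
    ⟨r, r.2.1, D.inU_of_mem hB r.2.1 r.2.2⟩
  have hi : Function.Injective ι := fun a b e =>
    Subtype.ext (congrArg (fun r : {r : G // r ∈ Q ∧ InU (vec r)} => (r : G)) e)
  have h1 := D.card_pre InU
  have h2 := card_InU_le
  have h3 := (D.conj_image hB.mem hB.ne).2.2.2
  have h4 := Nat.card_le_card_of_injective ι hi
  have hb : Function.Bijective ι := (Nat.bijective_iff_injective_and_card _).2 ⟨hi, by omega⟩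
  obtain ⟨r, hr⟩ := hb.2 ⟨q, hq, hu⟩
  exact (show (r : G) = q from congrArg Subtype.val hr) ▸ r.2.2

theorem line_le_meet {g : G} (hB : Base z Q vec g) :
    lineSub Q vec ≤ Q ⊓ Q.map (MulAut.conj g).toMonoidHom := by
  intro q hq
  obtain ⟨hqQ, hqL⟩ := D.mem_line.1 hq
  obtain ⟨t, ht, htv⟩ := D.surj (Four.w • vB)
  have hs := (D.mem_meet hB hB.mem).2 (hB.vec_eq.symm ▸ line_facts.2.2.1)
  have ht' := (D.mem_meet hB ht).2 (htv.symm ▸ line_facts.2.2.2.1)
  have hz' := (D.duo hB.mem hB.ne).mem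
  have key : ∀ {r : G}, r ∈ Q → r ∈ Q.map (MulAut.conj g).toMonoidHom → vec q = vec r →
      q ∈ Q.map (MulAut.conj g).toMonoidHom := by
    intro r hr hr' e
    rcases D.same_class hr hqQ e.symm with e' | e' <;> rw [e']
    · exact hr'
    · exact Subgroup.mul_mem _ hr' hz'
  refine ⟨hqQ, ?_⟩
  rcases inL_cases hqL with e | e | e | e
  · exact key (one_mem Q) (one_mem _) (e.trans D.vec_one.symm)
  · exact key hB.mem hs (e.trans hB.vec_eq.symm)
  · exact key ht ht' (e.trans htv.symm)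
  · exact key (Subgroup.mul_mem Q ht hB.mem) (Subgroup.mul_mem _ ht' hs) (by
      rw [D.add t ht _ hB.mem, htv, hB.vec_eq]; exact e)

theorem line_comm {g : G} (hB : Base z Q vec g) : ∀ a ∈ lineSub Q vec, ∀ b ∈ lineSub Q vec, a * b = b * a :=
  fun _ ha _ hb => (D.duo hB.mem hB.ne).inter_abelian (D.line_le_meet hB ha).1 (D.line_le_meet hB ha).2
    (D.line_le_meet hB hb).1 (D.line_le_meet hB hb).2

theorem line_sq {g : G} (hB : Base z Q vec g) : ∀ a ∈ lineSub Q vec, a * a = 1 :=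
  fun _ ha => (D.duo hB.mem hB.ne).inter_sq (D.line_le_meet hB ha).1 (D.line_le_meet hB ha).2

theorem meet_le_cv {g : G} (hB : Base z Q vec g) :
    Q ⊓ Q.map (MulAut.conj g).toMonoidHom ≤ centralizer ((lineSub Q vec : Subgroup G) : Set G) :=
  fun x hx => mem_centralizer_iff.2 fun q hq =>
    (D.duo hB.mem hB.ne).inter_abelian (D.line_le_meet hB hq).1 (D.line_le_meet hB hq).2 hx.1 hx.2

/-- The part of the centralizer inside `Q`. -/
theorem mem_cv_Q {g : G} (hB : Base z Q vec g) {q : G} (hq : q ∈ Q) :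
    q ∈ centralizer ((lineSub Q vec : Subgroup G) : Set G) ↔ hf (vec q) vB = 0 := by
  obtain ⟨t, ht, htv⟩ := D.surj (Four.w • vB)
  constructor
  · intro h
    refine hf_zero_of_tr ?_ ?_
    · rw [← hB.vec_eq]
      exact (D.comm q hq _ hB.mem).2 (mem_centralizer_iff.1 h _ (D.s_line hB)).symm
    · rw [← htv]
      exact (D.comm q hq t ht).2 (mem_centralizer_iff.1 h t (D.mem_line.2 ⟨ht, Four.w, htv⟩)).symm
  · intro h
    refine D.cent_line hB ht htv (D.half.cz q hq) ((D.comm q hq _ hB.mem).1 ?_) ((D.comm q hq t ht).1 ?_)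
    · rw [hB.vec_eq, h]; rfl
    · rw [htv, hf_smul_right, h, mul_zero]; rfl

theorem card_cv_Q {g : G} (hB : Base z Q vec g) :
    Nat.card {q : G // q ∈ Q ∧ q ∈ centralizer ((lineSub Q vec : Subgroup G) : Set G)} = 2 ^ 11 := by
  rw [Nat.card_congr (Equiv.subtypeEquivRight fun q =>
    (and_congr_right fun hq => D.mem_cv_Q hB hq :
      q ∈ Q ∧ q ∈ centralizer ((lineSub Q vec : Subgroup G) : Set G) ↔ q ∈ Q ∧ hf (vec q) vB = 0)),
    D.card_pre (fun x => hf x vB = 0), card_perp]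
  norm_num

/-- The centralizer modulo its largest two-subgroup is the alternating group. -/
theorem exists_theta {g : G} (hB : Base z Q vec g) :
    ∃ θ : ↥(centralizer ((lineSub Q vec : Subgroup G) : Set G)) →* ↥(alternatingGroup (Fin 6)),
      Function.Surjective θ ∧ ∀ c, θ c = 1 ↔ (c : G) ∈ lineR z Q vec φ := by
  set CV := centralizer ((lineSub Q vec : Subgroup G) : Set G) with hCV
  let ι : ↥CV →* ↥(centralizer ({z} : Set G)) := Subgroup.inclusion D.cv_le
  let ψ : ↥CV →* GV := MonoidHom.mk' (fun c => ⟨φ (ι c), (D.phi_cv hB (c := ι c) c.2).2⟩)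
    fun a b => Subtype.ext (by simp only [map_mul]; rfl)
  let χ : ↥CV →* Equiv.Perm (Fin 15) := actH.comp ψ
  have hr : ∀ c, χ c ∈ PA6 := fun c => by
    rw [← act_S0 card_F9]
    exact ⟨ψ c, D.phi_cv hB (c := ι c) c.2, rfl⟩
  let e : ↥(alternatingGroup (Fin 6)) ≃* ↥PA6 :=
    (alternatingGroup (Fin 6)).equivMapOfInjective pairHom pairHom_injective
  refine ⟨e.symm.toMonoidHom.comp (χ.codRestrict PA6 hr), fun π => ?_, fun c => ?_⟩
  · have hp : ((e π : ↥PA6) : Equiv.Perm (Fin 15)) ∈ ((KP ⊓ GV).subgroupOf GV).map actH :=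
      (act_S0 card_F9).symm ▸ (e π).2
    obtain ⟨f, hf, hfe⟩ := hp
    obtain ⟨c, hc, hcv⟩ := D.exists_cv hB (f := f.1) hf
    refine ⟨⟨c, hcv⟩, e.injective ?_⟩
    show e (e.symm _) = e π
    rw [MulEquiv.apply_symm_apply]
    refine Subtype.ext ?_
    show actH (ψ ⟨c, hcv⟩) = _
    rw [show ψ ⟨c, hcv⟩ = f from Subtype.ext hc]
    exact hfe
  · show e.symm (χ.codRestrict PA6 hr c) = 1 ↔ _
    rw [map_eq_one_iff _ e.symm.injective, Subtype.ext_iff]
    show actH (ψ c) = 1 ↔ _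
    rw [D.mem_lineR]
    constructor
    · exact fun h => ⟨c.2, fun _ => ker_act (f := ψ c) (D.phi_cv hB (c := ι c) c.2).1 h⟩
    · exact fun h => act_E32 (R16_le_E32 (h.2 _))

theorem lineR_le : lineR z Q vec φ ≤ centralizer ((lineSub Q vec : Subgroup G) : Set G) :=
  fun _ hx => (D.mem_lineR.1 hx).1

theorem cv_Q_le_R {q : G} (hq : q ∈ Q) (h : q ∈ centralizer ((lineSub Q vec : Subgroup G) : Set G)) :
    q ∈ lineR z Q vec φ := D.mem_lineR.2 ⟨h, fun hz => by rw [(D.kerφ ⟨q, hz⟩).2 hq]; exact one_mem _⟩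

theorem card_lineR {g : G} (hB : Base z Q vec g) : Nat.card (lineR z Q vec φ) = 2 ^ 15 := by
  let ι : ↥(lineR z Q vec φ) →* ↥(centralizer ({z} : Set G)) :=
    Subgroup.inclusion (D.lineR_le.trans D.cv_le)
  have h := Subgroup.card_eq_card_quotient_mul_card_subgroup (φ.comp ι).ker
  have hrange : (φ.comp ι).range = R16 := by
    ext f
    constructor
    · rintro ⟨r, rfl⟩
      exact (D.mem_lineR.1 r.2).2 _
    · intro hf
      obtain ⟨c, hc, hcv⟩ := D.exists_cv hB (R16_le hf)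
      exact ⟨⟨c, D.mem_lineR.2 ⟨hcv, fun _ => by rw [show φ ⟨c, _⟩ = f from hc]; exact hf⟩⟩, hc⟩
  have hker : Nat.card (φ.comp ι).ker = 2 ^ 11 := by
    rw [← D.card_cv_Q hB]
    exact Nat.card_congr
      { toFun := fun x => ⟨((x : ↥(lineR z Q vec φ)) : G), (D.kerφ _).1 x.2, D.lineR_le x.1.2⟩
        invFun := fun q => ⟨⟨q.1, D.cv_Q_le_R q.2.1 q.2.2⟩, (D.kerφ _).2 q.2.1⟩
        left_inv := fun x => rfl
        right_inv := fun q => rfl }
  rw [Nat.card_congr (QuotientGroup.quotientKerEquivRange (φ.comp ι)).toEquiv, hrange, card_R16_ker.1, hker] at h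
  rw [h]
  norm_num

theorem lineR_normal {g : G} (hB : Base z Q vec g) {c r : G}
    (hc : c ∈ centralizer ((lineSub Q vec : Subgroup G) : Set G)) (hr : r ∈ lineR z Q vec φ) :
    c * r * c⁻¹ ∈ lineR z Q vec φ := by
  obtain ⟨θ, -, hθ⟩ := D.exists_theta hB
  have h1 := (hθ ⟨r, D.lineR_le hr⟩).2 hr
  exact (hθ (⟨c, hc⟩ * ⟨r, D.lineR_le hr⟩ * ⟨c, hc⟩⁻¹)).1 (by
    rw [map_mul, map_mul, map_inv, h1, mul_one, mul_inv_cancel])

/-- It contains every normal two-subgroup of the centralizer. -/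
theorem lineR_max {g : G} (hB : Base z Q vec g) {N : Subgroup G}
    (hN : N ≤ centralizer ((lineSub Q vec : Subgroup G) : Set G)) (h2 : IsPGroup 2 N)
    (hn : ∀ c ∈ centralizer ((lineSub Q vec : Subgroup G) : Set G), ∀ x ∈ N, c * x * c⁻¹ ∈ N) :
    N ≤ lineR z Q vec φ := by
  haveI : Fact (Nat.Prime 2) := ⟨Nat.prime_two⟩
  obtain ⟨θ, hsurj, hθ⟩ := D.exists_theta hB
  let CV := centralizer ((lineSub Q vec : Subgroup G) : Set G)
  haveI : (N.subgroupOf CV).Normal := ⟨fun x hx c => hn c c.2 x hx⟩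
  haveI := (inferInstance : (N.subgroupOf CV).Normal).map θ hsurj
  have h2' : IsPGroup 2 ↥((N.subgroupOf CV).map θ) :=
    (h2.comap_of_injective CV.subtype CV.subtype_injective).map θ
  have hbot : (N.subgroupOf CV).map θ = ⊥ := by
    haveI : IsSimpleGroup ↥(alternatingGroup (Fin 6)) :=
      alternatingGroup.isSimpleGroup (by simp [Nat.card_eq_fintype_card])
    refine ((inferInstance : ((N.subgroupOf CV).map θ).Normal).eq_bot_or_eq_top).resolve_right fun ht => ?_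
    obtain ⟨k, hk⟩ := h2'.exists_card_eq
    rw [ht, Subgroup.card_top, nat_card_alternatingGroup] at hk
    simp only [Nat.card_eq_fintype_card, Fintype.card_fin] at hk
    have h3 : 3 ∣ 2 ^ k := hk ▸ by decide
    exact absurd (Nat.Prime.dvd_of_dvd_pow Nat.prime_three h3) (by norm_num)
  intro x hx
  exact (hθ ⟨x, hN hx⟩).1 ((Subgroup.eq_bot_iff_forall _).1 hbot _ ⟨⟨x, hN hx⟩, hx, rfl⟩)

theorem lineR_two {g : G} (hB : Base z Q vec g) : IsPGroup 2 ↥(lineR z Q vec φ) :=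
  IsPGroup.of_card (n := 15) (D.card_lineR hB)

/-- A symmetric description of the eight-group. -/
theorem mem_line_iff {g : G} (hB : Base z Q vec g) {q : G} :
    q ∈ lineSub Q vec ↔ q ∈ Q ⊓ Q.map (MulAut.conj g).toMonoidHom ∧
      ∀ c : G, c * z = z * c → c * (g * z * g⁻¹) = g * z * g⁻¹ * c →
        c * q * c⁻¹ * q⁻¹ = 1 ∨ c * q * c⁻¹ * q⁻¹ = z ∨ c * q * c⁻¹ * q⁻¹ = g * z * g⁻¹ ∨
          c * q * c⁻¹ * q⁻¹ = g * z * g⁻¹ * z := by
  constructor
  · intro hq
    refine ⟨D.line_le_meet hB hq, fun c hcz hcs => ?_⟩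
    obtain ⟨hqQ, a, ha⟩ := D.mem_line.1 hq
    have hm := Subgroup.mul_mem Q (D.core.norm c hcz q hqQ) (Subgroup.inv_mem Q hqQ)
    let c' : ↥(centralizer ({z} : Set G)) := ⟨c, mem_centralizer_singleton_iff.2 hcz⟩
    have hv : φ c' vB = vB := by
      rw [← hB.vec_eq, ← D.conj c' _ hB.mem, mul_inv_eq_iff_eq_mul.2 hcs]
    have himg : φ c' (a • vB) = a • vB ∨ φ c' (a • vB) = a ^ 2 • vB := by
      rcases D.range_le c' with h | ⟨k, hk, h⟩
      · exact Or.inl (by rw [lin_smul h, hv])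
      · refine Or.inr ?_
        rw [h, Equiv.Perm.mul_apply] at hv ⊢
        rw [D.outer_eq hB.mem hB.ne, frsw_smul, lin_smul hk, ← D.outer_eq hB.mem hB.ne, hv]
    have hd : vec (c * q * c⁻¹ * q⁻¹) = 0 ∨ vec (c * q * c⁻¹ * q⁻¹) = vB := by
      rw [D.add _ (D.core.norm c hcz q hqQ) _ (Subgroup.inv_mem Q hqQ), D.vec_inv hqQ, D.conj c' q hqQ, ha]
      rcases himg with e | e <;> rw [e, ← add_smul]
      · exact Or.inl (by rw [CfsgLib.Spor.Fi22.U6.add_self a, zero_smul])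
      · rcases (by decide : ∀ b : Four, b ^ 2 + b = 0 ∨ b ^ 2 + b = 1) a with e' | e' <;> rw [e']
        · exact Or.inl (zero_smul _ _)
        · exact Or.inr (one_smul _ _)
    rcases hd with e | e
    · rcases (D.ker _ hm).1 e with h | h
      · exact Or.inl h
      · exact Or.inr (Or.inl h)
    · rcases D.same_class hB.mem hm (hB.vec_eq.trans e.symm) with h | h
      · exact Or.inr (Or.inr (Or.inl h))
      · exact Or.inr (Or.inr (Or.inr h))
  · rintro ⟨hq, hall⟩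
    refine D.mem_line.2 ⟨hq.1, u_sym ((D.mem_meet hB hq.1).1 hq.2) fun j => ?_⟩
    obtain ⟨c, hc, hcv⟩ := D.exists_cv hB (f := hgen j) (Subgroup.mem_inf.2 ⟨hgen_KP j, hgen_GV j⟩)
    have hcz := mem_centralizer_singleton_iff.1 c.2
    have hcs : (c : G) * (g * z * g⁻¹) = g * z * g⁻¹ * c := (mem_centralizer_iff.1 hcv _ (D.s_line hB)).symm
    have hm : vec ((c : G) * q * (c : G)⁻¹ * q⁻¹) = hgen j (vec q) + vec q := by
      rw [D.add _ (D.core.norm _ hcz q hq.1) _ (Subgroup.inv_mem Q hq.1), D.vec_inv hq.1, D.conj c q hq.1, hc]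
    rcases hall c hcz hcs with e | e | e | e <;> rw [e] at hm
    · exact Or.inl (hm.symm.trans D.vec_one)
    · exact Or.inl (hm.symm.trans D.vec_z)
    · exact Or.inr (hm.symm.trans hB.vec_eq)
    · rw [D.add _ hB.mem _ D.core.mem, hB.vec_eq, D.vec_z, add_zero] at hm
      exact Or.inr hm.symm

/-- An element exchanging the two members. -/
theorem exists_swap {g : G} (hB : Base z Q vec g) :
    ∃ l : G, l * z * l⁻¹ = g * z * g⁻¹ ∧ l * (g * z * g⁻¹) * l⁻¹ = z ∧
      (∀ x, x ∈ Q ↔ l * x * l⁻¹ ∈ Q.map (MulAut.conj g).toMonoidHom) ∧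
      (∀ x, x ∈ Q.map (MulAut.conj g).toMonoidHom ↔ l * x * l⁻¹ ∈ Q) ∧
      l ∈ normalizer ((lineSub Q vec : Subgroup G) : Set G) := by
  set s := g * z * g⁻¹ with hs
  have hz' : g⁻¹ * z * g ∈ Q := mem_conj.1 (D.duo hB.mem hB.ne).mem
  have hne : g⁻¹ * z * g⁻¹⁻¹ ≠ z := fun e => hB.ne (by
    calc g * z * g⁻¹ = g * (g⁻¹ * z * g⁻¹⁻¹) * g⁻¹ := by rw [e]
      _ = z := by group)
  have hmem : g⁻¹ * z * g⁻¹⁻¹ ∈ Q := by rwa [inv_inv]
  obtain ⟨c, hc, hcs⟩ := D.one_orbit hB.mem hmem (isConj_iff.2 ⟨g, rfl⟩) (isConj_iff.2 ⟨g⁻¹, rfl⟩) hB.ne hne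
  rw [inv_inv] at hcs
  have hcz := mem_centralizer_singleton_iff.1 hc
  set l := g * c with hl
  have hlz : l * z * l⁻¹ = s := by
    rw [hl, show g * c * z * (g * c)⁻¹ = g * (c * z * c⁻¹) * g⁻¹ by group, hcz, mul_inv_cancel_right]
  have hls : l * s * l⁻¹ = z := by
    rw [hl, show g * c * s * (g * c)⁻¹ = g * (c * s * c⁻¹) * g⁻¹ by group, hcs]; group
  have normQ : ∀ a : G, a * z = z * a → ∀ x, x ∈ Q ↔ a * x * a⁻¹ ∈ Q := by
    refine fun a ha x => ⟨D.core.norm a ha x, fun h => ?_⟩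
    have := D.core.norm a⁻¹ (Commute.inv_left (show Commute a z from ha)) _ h
    rwa [show a⁻¹ * (a * x * a⁻¹) * a⁻¹⁻¹ = x by group] at this
  have hQ : ∀ x, x ∈ Q ↔ l * x * l⁻¹ ∈ Q.map (MulAut.conj g).toMonoidHom := fun x => by
    rw [mem_conj, show g⁻¹ * (l * x * l⁻¹) * g = c * x * c⁻¹ by rw [hl]; group]
    exact normQ c hcz x
  have hlg : (l * g) * z = z * (l * g) := mul_inv_eq_iff_eq_mul.1 (by
    rw [show l * g * z * (l * g)⁻¹ = l * (g * z * g⁻¹) * l⁻¹ by group]; exact hls)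
  have hQ' : ∀ x, x ∈ Q.map (MulAut.conj g).toMonoidHom ↔ l * x * l⁻¹ ∈ Q := fun x => by
    rw [mem_conj, normQ _ hlg, show l * g * (g⁻¹ * x * g) * (l * g)⁻¹ = l * x * l⁻¹ by group]
  refine ⟨l, hlz, hls, hQ, hQ', mem_normalizer_iff.2 fun q => ?_⟩
  rw [D.mem_line_iff hB, D.mem_line_iff hB, ← hs]
  have hm : q ∈ Q ⊓ Q.map (MulAut.conj g).toMonoidHom ↔ l * q * l⁻¹ ∈ Q ⊓ Q.map (MulAut.conj g).toMonoidHom := by
    rw [Subgroup.mem_inf, Subgroup.mem_inf, hQ q, hQ' q, and_comm]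
  have inj : ∀ {a b : G}, l * a * l⁻¹ = l * b * l⁻¹ → a = b := fun e => mul_left_cancel (mul_right_cancel e)
  refine and_congr hm ⟨fun h c hc1 hc2 => ?_, fun h c hc1 hc2 => ?_⟩
  · have h1 : l⁻¹ * c * l * z = z * (l⁻¹ * c * l) := by
      apply inj
      calc l * (l⁻¹ * c * l * z) * l⁻¹ = c * (l * z * l⁻¹) := by group
        _ = (l * z * l⁻¹) * c := by rw [hlz, hc2]
        _ = _ := by group
    have h2 : l⁻¹ * c * l * s = s * (l⁻¹ * c * l) := by
      apply inj
      calc l * (l⁻¹ * c * l * s) * l⁻¹ = c * (l * s * l⁻¹) := by group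
        _ = (l * s * l⁻¹) * c := by rw [hls, hc1]
        _ = _ := by group
    have e : c * (l * q * l⁻¹) * c⁻¹ * (l * q * l⁻¹)⁻¹ =
        l * (l⁻¹ * c * l * q * (l⁻¹ * c * l)⁻¹ * q⁻¹) * l⁻¹ := by group
    rw [e]
    rcases h _ h1 h2 with a | a | a | a <;> rw [a]
    · left; group
    · right; right; left; exact hlz
    · right; left; exact hls
    · right; right; right
      rw [show l * (s * z) * l⁻¹ = (l * s * l⁻¹) * (l * z * l⁻¹) by group, hls, hlz]
      exact (D.half.cz s hB.mem).symm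
  · have h1 : l * c * l⁻¹ * s = s * (l * c * l⁻¹) := by
      calc l * c * l⁻¹ * s = l * (c * z) * l⁻¹ := by rw [← hlz]; group
        _ = l * (z * c) * l⁻¹ := by rw [hc1]
        _ = _ := by rw [← hlz]; group
    have h2 : l * c * l⁻¹ * z = z * (l * c * l⁻¹) := by
      calc l * c * l⁻¹ * z = l * (c * s) * l⁻¹ := by rw [← hls]; group
        _ = l * (s * c) * l⁻¹ := by rw [hc2]
        _ = _ := by rw [← hls]; group
    have e : l * (c * q * c⁻¹ * q⁻¹) * l⁻¹ =
        l * c * l⁻¹ * (l * q * l⁻¹) * (l * c * l⁻¹)⁻¹ * (l * q * l⁻¹)⁻¹ := by group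
    rcases h _ h2 h1 with a | a | a | a <;> rw [a] at e
    · left; apply inj; rw [e]; group
    · right; right; left; apply inj; rw [e, hls]
    · right; left; apply inj; rw [e, hlz]
    · right; right; right; apply inj
      rw [e, show l * (s * z) * l⁻¹ = (l * s * l⁻¹) * (l * z * l⁻¹) by group, hls, hlz]
      exact D.half.cz s hB.mem

end Data

end CfsgLib.Spor.LargeFischer
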