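import Cfsg.Agent.Lib.Spor.LargeFischer.LineNorm
import Cfsg.Agent.Lib.Spor.LargeFischer.CoverPerfect

/-!
# The centralizer of the scalar is the six-fold cover
-/

set_option autoImplicit false
set_option maxRecDepth 100000

namespace CfsgLib.Spor.LargeFischer

open Subgroup Matrix CfsgLib.Spor.U43Six CfsgLib.Spor.Fi22.U6
open scoped commutatorElement

variable {G : Type*} [Group G]

theorem line_matrix : ∀ a1 a2 : Fin 3 → ZMod 2, (a1 1 ≠ 0 ∨ a1 2 ≠ 0) → (a2 1 ≠ 0 ∨ a2 2 ≠ 0) →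
    (a1 1 ≠ a2 1 ∨ a1 2 ≠ a2 2) → ((Matrix.of ![a1, a2, Pi.single 0 1])ᵀ).det = 1 := by decide +kernel

namespace Data

variable [Finite G] {z : G} {Q : Subgroup G} {vec : G → V6}
  {φ : ↥(centralizer ({z} : Set G)) →* Equiv.Perm V6} {o : Outer} (D : Data z Q vec φ o)
include D

theorem conj_center {a b : G} (h : a * z * a⁻¹ = b * z * b⁻¹) {x : G} (hx : x ∈ Q) :
    b⁻¹ * (a * x * a⁻¹) * b ∈ Q := by
  have hc : b⁻¹ * a * z = z * (b⁻¹ * a) := by
    calc b⁻¹ * a * z = b⁻¹ * (a * z * a⁻¹) * a := by group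
      _ = b⁻¹ * (b * z * b⁻¹) * a := by rw [h]
      _ = _ := by group
  have := D.core.norm _ hc x hx
  rwa [show b⁻¹ * a * x * (b⁻¹ * a)⁻¹ = b⁻¹ * (a * x * a⁻¹) * b by group] at this

/-- The meet depends only on the pair of points with their product. -/
theorem meet_shift {g n : G} (hB : Base z Q vec g) (hnz : n * z * n⁻¹ = g * z * g⁻¹)
    (hns : n * (g * z * g⁻¹) * n⁻¹ = z * (g * z * g⁻¹)) {d : G} (hd : d ∈ Q)
    (hd' : d ∈ Q.map (MulAut.conj g).toMonoidHom) :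
    n * d * n⁻¹ ∈ Q ∧ n * d * n⁻¹ ∈ Q.map (MulAut.conj g).toMonoidHom := by
  have hduo := D.duo hB.mem hB.ne
  set s := g * z * g⁻¹ with hs
  obtain ⟨y, hy, hym⟩ := hduo.symm.exists_move
  have hr : n * d * n⁻¹ ∈ Q.map (MulAut.conj g).toMonoidHom := mem_conj.2 (D.conj_center hnz hd)
  refine ⟨?_, hr⟩
  -- back through the element moving `z`
  have e : (n * g) * z * (n * g)⁻¹ = y * z * y⁻¹ := by
    rw [show (n * g) * z * (n * g)⁻¹ = n * s * n⁻¹ by rw [hs]; group, hns, hym, (D.half.cz s hB.mem)]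
  have h1 : y⁻¹ * (n * d * n⁻¹) * y ∈ Q := by
    have := D.conj_center e (mem_conj.1 hd')
    rwa [show y⁻¹ * (n * g * (g⁻¹ * d * g) * (n * g)⁻¹) * y = y⁻¹ * (n * d * n⁻¹) * y by group] at this
  have h2 : y⁻¹ * (n * d * n⁻¹) * y ∈ Q.map (MulAut.conj g).toMonoidHom :=
    Subgroup.mul_mem _ (Subgroup.mul_mem _ (Subgroup.inv_mem _ hy) hr) hy
  set p := y⁻¹ * (n * d * n⁻¹) * y with hp
  rw [show n * d * n⁻¹ = y * p * y⁻¹ by rw [hp]; group]
  rcases hduo.right.comm y hy p h2 with e' | e'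
  · rwa [mul_inv_eq_iff_eq_mul.1 e', one_mul]
  · rw [mul_inv_eq_iff_eq_mul.1 e']
    exact Subgroup.mul_mem Q hB.mem h1

/-- Elements commuting with the scalar are linear. -/
theorem phi_comm {g : G} (hgQ : g * z * g⁻¹ ∈ Q) (hne : g * z * g⁻¹ ≠ z) {X c : ↥(centralizer ({z} : Set G))}
    (hXw : ∀ x, φ X x = Four.w • x) (hc : (c : G) * X = X * c) : φ c ∈ KP := by
  rcases D.range_le c with h | ⟨k, hk, h⟩
  · exact h
  · exfalso
    have hcomm : c * X = X * c := Subtype.ext hc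
    have h1 : φ c (Four.w • vB) = Four.w • φ c vB := by
      rw [← hXw vB, ← hXw (φ c vB), ← Equiv.Perm.mul_apply, ← Equiv.Perm.mul_apply, ← map_mul, ← map_mul, hcomm]
    have hne0 : φ c vB ≠ 0 := fun e => base_facts.2.2.1 ((φ c).injective (e.trans (D.good c).zero.symm))
    rw [h, Equiv.Perm.mul_apply, Equiv.Perm.mul_apply, D.outer_eq hgQ hne, frsw_smul, lin_smul hk,
      ← D.outer_eq hgQ hne] at h1
    rw [h, Equiv.Perm.mul_apply] at hne0
    exact absurd (smul_left_injective Four hne0 h1) (by decide)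

/-- A central involution in the derived subgroup: the double cover does not split. -/
theorem z_commutator {g : G} (hgQ : g * z * g⁻¹ ∈ Q) (hne : g * z * g⁻¹ ≠ z) {X : ↥(centralizer ({z} : Set G))}
    (hX3 : X * X * X = 1) (hXw : ∀ x, φ X x = Four.w • x)
    (hXc : ∀ q ∈ Q, q * (X : G) = X * q → q = 1 ∨ q = z)
    {C : Subgroup G} (hC : ∀ x, x ∈ C ↔ x ∈ centralizer ({z} : Set G) ∧ x * (X : G) = X * x) : z ∈ ⁅C, C⁆ := by
  classical
  by_contra hzC
  have hXz := mem_centralizer_singleton_iff.1 X.2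
  have hX3' : (X : G) * X * X = 1 := congrArg Subtype.val hX3
  obtain ⟨g, hB⟩ := D.exists_base hgQ hne
  set s := g * z * g⁻¹ with hs
  set t := (X : G) * s * (X : G)⁻¹ with ht
  have htQ : t ∈ Q := D.core.norm _ hXz _ hB.mem
  have htv : vec t = Four.w • vB := by rw [ht, D.conj X s hB.mem, hXw, hB.vec_eq]
  have hF : Frame z Q vec g t := ⟨hB, htQ, htv⟩
  set V := lineSub Q vec with hV
  set L := normalizer (V : Set G) with hL
  set R := lineR z Q vec φ with hR
  have hXL : (X : G) ∈ L := D.mem_norm hF X (by rw [hXw]; exact ⟨_, rfl⟩)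
    (by rw [hXw, smul_smul]; exact ⟨_, rfl⟩)
  have hsV : s ∈ V := D.s_line hB
  have htV : t ∈ V := D.t_line hF
  set u := (X : G) * t * (X : G)⁻¹ with hu
  have huV : u ∈ V := (mem_normalizer_iff.1 hXL t).1 htV
  have hXu : (X : G) * u * (X : G)⁻¹ = s := by
    rw [hu, ht, show (X : G) * ((X : G) * ((X : G) * s * (X : G)⁻¹) * (X : G)⁻¹) * (X : G)⁻¹ =
      ((X : G) * X * X) * s * ((X : G) * X * X)⁻¹ by group, hX3']
    group
  have hcV := D.line_comm hB
  have hqV := D.line_sq hB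
  have huv : vec u = Four.w • Four.w • vB := by rw [hu, D.conj X t htQ, hXw, htv]
  have hwu : (Four.w * Four.w : Four) = Four.u := rfl
  -- the points of the invariant line
  set s1 := t * s with hs1
  set s2 := u * t with hs2
  have hs1V : s1 ∈ V := mul_mem htV hsV
  have hs2V : s2 ∈ V := mul_mem huV htV
  have v1 : vec s1 = Four.u • vB := by
    rw [hs1, D.add t htQ s hB.mem, htv, hB.vec_eq, show (Four.u : Four) = Four.w + 1 from rfl, add_smul, one_smul]
  have v2 : vec s2 = vB := by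
    rw [hs2, D.add u (D.line_le huV) t htQ, huv, htv, smul_smul, ← add_smul,
      show Four.w * Four.w + Four.w = (1 : Four) from rfl, one_smul]
  obtain ⟨μ, hμ, hμs, hμk⟩ := D.exists_mu hF
  obtain ⟨a1, ha1⟩ := D.pt_surj hF hs1V
  obtain ⟨a2, ha2⟩ := D.pt_surj hF hs2V
  have hvp1 := D.vec_pt hF a1
  have hvp2 := D.vec_pt hF a2
  rw [ha1, v1] at hvp1
  rw [ha2, v2] at hvp2
  have hdet : ((Matrix.of ![a1, a2, Pi.single 0 1])ᵀ).det = 1 := by
    refine line_matrix a1 a2 ?_ ?_ ?_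
    · by_contra h
      push Not at h
      rw [h.1, h.2, show bitF 0 = 0 from rfl, zero_smul, zero_smul, add_zero] at hvp1
      exact smul_ne (by decide) base_facts.2.2.1 hvp1
    · by_contra h
      push Not at h
      rw [h.1, h.2, show bitF 0 = 0 from rfl, zero_smul, zero_smul, add_zero] at hvp2
      exact base_facts.2.2.1 hvp2
    · by_contra h
      push Not at h
      rw [h.1, h.2, ← hvp2] at hvp1
      have h2 : Four.u • vB = (1 : Four) • vB := by rw [one_smul]; exact hvp1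
      exact absurd (smul_left_injective Four base_facts.2.2.1 h2) (by decide)
  obtain ⟨⟨l, hlL⟩, hl⟩ := hμs ⟨_, hdet⟩
  obtain ⟨b0, b1, b2, -⟩ := pt_basis z s t
  have hcol : ∀ j : Fin 3, l * pt z s t (Pi.single j 1) * l⁻¹ = pt z s t (![a1, a2, Pi.single 0 1] j) := fun j => by
    rw [hs, hμ ⟨l, hlL⟩, hl]
    refine congrArg _ (funext fun i => ?_)
    rw [Matrix.mulVec_single_one]
    rfl
  have hlz : l * z * l⁻¹ = s1 := by
    have := hcol 0; rwa [b0, show (![a1, a2, Pi.single 0 1] : Fin 3 → _) 0 = a1 from rfl, hs, ha1] at this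
  have hls : l * s * l⁻¹ = s2 := by
    have := hcol 1; rwa [b1, show (![a1, a2, Pi.single 0 1] : Fin 3 → _) 1 = a2 from rfl, hs, ha2] at this
  have hlt : l * t * l⁻¹ = z := by
    have := hcol 2; rwa [b2, show (![a1, a2, Pi.single 0 1] : Fin 3 → _) 2 = Pi.single 0 1 from rfl, b0] at this
  -- the transported meet
  set D7 := Q ⊓ Q.map (MulAut.conj g).toMonoidHom with hD7
  set D' := D7.map (MulAut.conj l).toMonoidHom with hD'
  have memD' : ∀ x, x ∈ D' ↔ l⁻¹ * x * l ∈ D7 := fun x => mem_conj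
  have hD7R : D7 ≤ R := fun x hx => D.cv_Q_le_R hx.1 (D.meet_le_cv hB hx)
  have hD'R : D' ≤ R := fun x hx => by
    have := D.norm_R hB hlL (hD7R ((memD' x).1 hx))
    rwa [show l * (l⁻¹ * x * l) * l⁻¹ = x by group] at this
  have hVD' : V ≤ D' := fun x hx => (memD' x).2 (D.line_le_meet hB ((mem_normalizer_iff''.1 hlL x).1 hx))
  have hD'Q : ∀ x ∈ D', x ∈ Q → x ∈ V := by
    intro x hx hxQ
    obtain ⟨hdQ, hdQ'⟩ := (memD' x).1 hx
    set d := l⁻¹ * x * l with hd
    have e : l⁻¹ * z * l⁻¹⁻¹ = ((X : G) * g) * z * ((X : G) * g)⁻¹ := by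
      rw [inv_inv, show ((X : G) * g) * z * ((X : G) * g)⁻¹ = t by rw [ht, hs]; group, ← hlt]
      group
    have h1 := D.conj_center e hxQ
    rw [inv_inv, ← hd, show ((X : G) * g)⁻¹ * d * ((X : G) * g) = g⁻¹ * ((X : G)⁻¹ * d * X) * g by group] at h1
    have h2 : (X : G)⁻¹ * d * (X : G)⁻¹⁻¹ ∈ Q := D.core.norm _ (mem_centralizer_singleton_iff.1 (X⁻¹).2) d hdQ
    rw [inv_inv] at h2
    have hU := D.inU_of_mem hB h2 (mem_conj.2 h1)
    have hxe : Four.w • vec ((X : G)⁻¹ * d * X) = vec d := by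
      rw [← hXw, ← D.conj X _ h2]
      exact congrArg vec (by group)
    obtain ⟨a, ha⟩ := u_two hU (by rw [hxe]; exact D.inU_of_mem hB hdQ hdQ')
    have hdV : d ∈ V := D.mem_line.2 ⟨hdQ, Four.w * a, by rw [← hxe, ha, smul_smul]⟩
    have := (mem_normalizer_iff.1 hlL d).1 hdV
    rwa [hd, show l * (l⁻¹ * x * l) * l⁻¹ = x by group] at this
  have hD'c : ∀ a ∈ D', ∀ b ∈ D', a * b = b * a := by
    intro a ha b hb
    have h := (D.duo hB.mem hB.ne).inter_abelian ((memD' a).1 ha).1 ((memD' a).1 ha).2 ((memD' b).1 hb).1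
      ((memD' b).1 hb).2
    calc a * b = l * (l⁻¹ * a * l * (l⁻¹ * b * l)) * l⁻¹ := by group
      _ = l * (l⁻¹ * b * l * (l⁻¹ * a * l)) * l⁻¹ := by rw [h]
      _ = _ := by group
  have hD'card : Nat.card D' = 2 ^ 7 := by
    rw [hD', ← Nat.card_congr (D7.equivMapOfInjective _ (MulAut.conj l).injective).toEquiv, hD7]
    exact (D.conj_image hB.mem hB.ne).2.2.2
  have hD'X : ∀ x ∈ D', (X : G) * x * (X : G)⁻¹ ∈ D' := by
    intro x hx
    obtain ⟨hd, hd'⟩ := (memD' x).1 hx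
    have hX1 : (X : G) * s1 * (X : G)⁻¹ = s2 := by
      rw [hs1, hs2, show (X : G) * (t * s) * (X : G)⁻¹ = ((X : G) * t * (X : G)⁻¹) * ((X : G) * s * (X : G)⁻¹) by group]
    have hX2 : (X : G) * s2 * (X : G)⁻¹ = s1 * s2 := by
      rw [hs2, show (X : G) * (u * t) * (X : G)⁻¹ = ((X : G) * u * (X : G)⁻¹) * ((X : G) * t * (X : G)⁻¹) by group,
        hXu, ← hu, hs1, show t * s * (u * t) = t * (s * u) * t by group,
        hcV t htV (s * u) (mul_mem hsV huV), mul_assoc (s * u) t t, hqV t htV, mul_one]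
    have hn1 : l⁻¹ * X * l * z * (l⁻¹ * X * l)⁻¹ = s := by
      calc _ = l⁻¹ * ((X : G) * (l * z * l⁻¹) * (X : G)⁻¹) * l := by group
        _ = l⁻¹ * (l * s * l⁻¹) * l := by rw [hlz, hX1, hls]
        _ = s := by group
    have hn2 : l⁻¹ * X * l * s * (l⁻¹ * X * l)⁻¹ = z * s := by
      calc _ = l⁻¹ * ((X : G) * (l * s * l⁻¹) * (X : G)⁻¹) * l := by group
        _ = l⁻¹ * ((l * z * l⁻¹) * (l * s * l⁻¹)) * l := by rw [hls, hX2, hlz]
        _ = z * s := by group
    have h := D.meet_shift hB hn1 hn2 hd hd'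
    rw [show l⁻¹ * X * l * (l⁻¹ * x * l) * (l⁻¹ * X * l)⁻¹ = l⁻¹ * ((X : G) * x * (X : G)⁻¹) * l by group] at h
    exact (memD' _).2 h
  -- the commutator group meets `Q` trivially
  set C' := ⁅C, C⁆ with hC'
  have hC'C : C' ≤ C := Subgroup.commutator_le.2 fun a ha b hb =>
    mul_mem (mul_mem (mul_mem ha hb) (inv_mem ha)) (inv_mem hb)
  have hCH : C ≤ centralizer ({z} : Set G) := fun x hx => ((hC x).1 hx).1
  have hC'Q : ∀ x ∈ C', x ∈ Q → x = 1 := fun x hx hxQ =>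
    (hXc x hxQ ((hC x).1 (hC'C hx)).2).resolve_right fun e => hzC (e ▸ hx)
  have hlift : ∀ f ∈ KP, ∃ c : ↥(centralizer ({z} : Set G)), φ c = f ∧ (c : G) ∈ C := fun f hf => by
    obtain ⟨c, hc⟩ := D.K1_le f hf
    obtain ⟨b, hb, hbX⟩ := D.fix_X hX3 hXw hXc (c := c) (by
      rw [hc]
      exact Equiv.ext fun x => by
        rw [Equiv.Perm.mul_apply, Equiv.Perm.mul_apply, hXw, hXw, lin_smul hf])
    exact ⟨b, hb.trans hc, (hC _).2 ⟨b.2, hbX⟩⟩
  have himg : KP ≤ (C'.subgroupOf (centralizer ({z} : Set G))).map φ := by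
    rw [← KP_commutator card_F9, Subgroup.commutator_le]
    intro a ha b hb
    obtain ⟨c, rfl, hc⟩ := hlift a ha
    obtain ⟨d, rfl, hd⟩ := hlift b hb
    refine ⟨⁅c, d⁆, ?_, map_commutatorElement φ c d⟩
    exact mem_subgroupOf.2 (commutator_mem_commutator hc hd)
  -- the subgroup of index two in the transported meet
  have hqs : s1 * s1 = 1 ∧ s2 * s2 = 1 := ⟨hqV _ hs1V, hqV _ hs2V⟩
  let IsL : G → Prop := fun v => v ∈ V ∧ (v = 1 ∨ v = s1 ∨ v = s2 ∨ v = s1 * s2)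
  have hIsL : ∀ v w, IsL v → IsL w → IsL (v * w) := by
    rintro v w ⟨hv, hv'⟩ ⟨hw, hw'⟩
    refine ⟨mul_mem hv hw, ?_⟩
    have h12 : s2 * s1 = s1 * s2 := hcV _ hs2V _ hs1V
    have e1 : ∀ a, s1 * (s1 * a) = a := fun a => by rw [← mul_assoc, hqs.1, one_mul]
    have e2 : ∀ a, s2 * (s2 * a) = a := fun a => by rw [← mul_assoc, hqs.2, one_mul]
    have e3 : ∀ a, s2 * (s1 * a) = s1 * (s2 * a) := fun a => by rw [← mul_assoc, h12, mul_assoc]
    rcases hv' with rfl | rfl | rfl | rfl <;> rcases hw' with rfl | rfl | rfl | rfl <;>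
      simp [mul_assoc, hqs.1, hqs.2, h12, e1, e2, e3]
  have hLinv : ∀ v, IsL v → IsL v⁻¹ := fun v hv => by
    rwa [inv_eq_of_mul_eq_one_right (hqV v hv.1)]
  let K : Subgroup G :=
    { carrier := {x | ∃ b v, b ∈ C' ∧ b ∈ D' ∧ IsL v ∧ x = b * v}
      one_mem' := ⟨1, 1, one_mem _, one_mem _, ⟨one_mem _, Or.inl rfl⟩, (one_mul 1).symm⟩
      mul_mem' := by
        rintro _ _ ⟨b, v, hb, hb', hv, rfl⟩ ⟨b2, v2, hb2, hb2', hv2, rfl⟩
        refine ⟨b * b2, v * v2, mul_mem hb hb2, mul_mem hb' hb2', hIsL v v2 hv hv2, ?_⟩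
        rw [show b * v * (b2 * v2) = b * (v * b2) * v2 by group, hD'c v (hVD' hv.1) b2 hb2']
        group
      inv_mem' := by
        rintro _ ⟨b, v, hb, hb', hv, rfl⟩
        refine ⟨b⁻¹, v⁻¹, inv_mem hb, inv_mem hb', hLinv v hv, ?_⟩
        rw [_root_.mul_inv_rev]
        exact hD'c _ (inv_mem (hVD' hv.1)) _ (inv_mem hb') }
  have hKD : ∀ x ∈ K, x ∈ D' := by
    rintro _ ⟨b, v, -, hb', hv, rfl⟩
    exact mul_mem hb' (hVD' hv.1)
  have hzK : z ∉ K := by
    rintro ⟨b, v, hb, -, hv, e⟩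
    have hbe : b = z * v⁻¹ := eq_mul_inv_of_mul_eq e.symm
    have hbQ : b ∈ Q := hbe ▸ Subgroup.mul_mem Q D.core.mem (Subgroup.inv_mem Q (D.line_le hv.1))
    rw [hC'Q b hb hbQ, one_mul] at e
    have h0 := congrArg vec e
    rw [D.vec_z] at h0
    rcases hv.2 with a | a | a | a <;> rw [a] at h0 e
    · exact D.z_ne e
    · rw [v1] at h0; exact smul_ne (by decide) base_facts.2.2.1 h0.symm
    · rw [v2] at h0; exact base_facts.2.2.1 h0.symm
    · rw [D.add _ (D.line_le hs1V) _ (D.line_le hs2V), v1, v2] at h0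
      refine smul_ne (c := Four.u + 1) (by decide) base_facts.2.2.1 ?_
      rw [add_smul, one_smul]; exact h0.symm
  have hVK : ∀ v ∈ V, v ∈ K ∨ v * z ∈ K := by
    intro v hv
    have mk : ∀ w, IsL w → v ∈ Q → vec v = vec w → v ∈ K ∨ v * z ∈ K := fun w hw hvQ e => by
      rcases D.same_class (D.line_le hw.1) hvQ e.symm with e' | e'
      · exact Or.inl ⟨1, w, one_mem _, one_mem _, hw, by rw [e', one_mul]⟩
      · exact Or.inr ⟨1, w, one_mem _, one_mem _, hw, by rw [e', mul_assoc, D.zz, mul_one, one_mul]⟩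
    obtain ⟨hvQ, a, ha⟩ := D.mem_line.1 hv
    rcases (by decide : ∀ c : Four, c = 0 ∨ c = 1 ∨ c = Four.u ∨ c = Four.u + 1) a with rfl | rfl | rfl | rfl
    · exact mk 1 ⟨one_mem _, Or.inl rfl⟩ hvQ (by rw [ha, zero_smul, D.vec_one])
    · exact mk s2 ⟨hs2V, Or.inr (Or.inr (Or.inl rfl))⟩ hvQ (by rw [ha, one_smul, v2])
    · exact mk s1 ⟨hs1V, Or.inr (Or.inl rfl)⟩ hvQ (by rw [ha, v1])
    · exact mk (s1 * s2) ⟨mul_mem hs1V hs2V, Or.inr (Or.inr (Or.inr rfl))⟩ hvQ (by
        rw [ha, D.add _ (D.line_le hs1V) _ (D.line_le hs2V), v1, v2, add_smul, one_smul])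
  have hzD' : z ∈ D' := hVD' D.z_line
  have hsplit : ∀ x ∈ D', x ∈ K ∨ x * z ∈ K := by
    intro x hx
    have hxH : x ∈ centralizer ({z} : Set G) := D.cv_le (D.lineR_le (hD'R hx))
    set x1 := (X : G) * x * (X : G)⁻¹ with hx1
    set x2 := (X : G) * x1 * (X : G)⁻¹ with hx2
    have hx1' : x1 ∈ D' := hD'X x hx
    have hx2' : x2 ∈ D' := hD'X x1 hx1'
    have hx3 : (X : G) * x2 * (X : G)⁻¹ = x := by
      rw [hx2, hx1, show (X : G) * ((X : G) * ((X : G) * x * (X : G)⁻¹) * (X : G)⁻¹) * (X : G)⁻¹ =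
        ((X : G) * X * X) * x * ((X : G) * X * X)⁻¹ by group, hX3']
      group
    set d := x * x1 * x2 with hd
    have hd' : d ∈ D' := mul_mem (mul_mem hx hx1') hx2'
    have hdX : d * X = X * d := by
      refine (mul_inv_eq_iff_eq_mul.1 ?_).symm
      rw [hd, show (X : G) * (x * x1 * x2) * (X : G)⁻¹ =
        ((X : G) * x * (X : G)⁻¹) * ((X : G) * x1 * (X : G)⁻¹) * ((X : G) * x2 * (X : G)⁻¹) by group, ← hx1, ← hx2, hx3]
      exact (hD'c x hx _ (mul_mem hx1' hx2')).symm.trans (mul_assoc x x1 x2).symm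
    have hdH : d ∈ centralizer ({z} : Set G) := D.cv_le (D.lineR_le (hD'R hd'))
    have hk := D.phi_comm hgQ hne hXw (c := ⟨d, hdH⟩) hdX
    obtain ⟨b, hb, hbd⟩ := himg hk
    have hbd' : (b : G)⁻¹ * d ∈ Q := (D.kerφ (b⁻¹ * ⟨d, hdH⟩)).1 (by rw [map_mul, map_inv, hbd, inv_mul_cancel])
    have hbC := ((hC _).1 (hC'C (mem_subgroupOf.1 hb))).2
    have h1 : (b : G)⁻¹ * d * X = X * ((b : G)⁻¹ * d) :=
      ((Commute.inv_left (show Commute (b : G) X from hbC)).mul_left (show Commute d (X : G) from hdX)).eq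
    have hbD : (b : G) ∈ D' := by
      rcases hXc _ hbd' h1 with e | e
      · rw [inv_mul_eq_one.1 e]; exact hd'
      · have := eq_mul_of_inv_mul_eq e
        rw [show (b : G) = d * z⁻¹ from eq_mul_inv_of_mul_eq this.symm]
        exact mul_mem hd' (inv_mem hzD')
    -- the sum differs from `x` by an element of the line
    have hxd : (b : G)⁻¹ * x ∈ Q := by
      let X' := X
      let x' : ↥(centralizer ({z} : Set G)) := ⟨x, hxH⟩
      have hkx : φ x' ∈ KP := (R16_le ((D.mem_lineR.1 (hD'R hx)).2 hxH)).1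
      have hcx : φ X * φ x' * (φ X)⁻¹ = φ x' := mul_inv_eq_iff_eq_mul.2 (Equiv.ext fun v => by
        rw [Equiv.Perm.mul_apply, Equiv.Perm.mul_apply, hXw, hXw, lin_smul hkx])
      have he : φ ⟨d, hdH⟩ = φ x' := by
        rw [show (⟨d, hdH⟩ : ↥(centralizer ({z} : Set G))) = x' * (X * x' * X⁻¹) * (X * (X * x' * X⁻¹) * X⁻¹) from
          Subtype.ext rfl]
        simp only [map_mul, map_inv]
        rw [hcx, hcx]
        have hs : φ x' * φ x' = 1 := E32_sq _ (R16_le_E32 ((D.mem_lineR.1 (hD'R hx)).2 hxH))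
        rw [hs, one_mul]
      exact (D.kerφ (b⁻¹ * x')).1 (by rw [map_mul, map_inv, hbd, he, inv_mul_cancel])
    have hv := hD'Q _ (mul_mem (inv_mem hbD) hx) hxd
    have hbK : (b : G) ∈ K := ⟨b, 1, mem_subgroupOf.1 hb, hbD, ⟨one_mem _, Or.inl rfl⟩, (mul_one _).symm⟩
    rcases hVK _ hv with h | h
    · left; have := mul_mem hbK h; rwa [mul_inv_cancel_left] at this
    · right; have := mul_mem hbK h; rwa [← mul_assoc, mul_inv_cancel_left] at this
  -- invariance
  have hKline : ∀ v, (v = 1 ∨ v = z ∨ v = s ∨ v = s * z) → l * v * l⁻¹ ∈ K := by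
    have hk1 : s1 ∈ K := ⟨1, s1, one_mem _, one_mem _, ⟨hs1V, Or.inr (Or.inl rfl)⟩, (one_mul _).symm⟩
    have hk2 : s2 ∈ K := ⟨1, s2, one_mem _, one_mem _, ⟨hs2V, Or.inr (Or.inr (Or.inl rfl))⟩, (one_mul _).symm⟩
    rintro v (rfl | rfl | rfl | rfl)
    · simp [one_mem]
    · rw [hlz]; exact hk1
    · rw [hls]; exact hk2
    · rw [show l * (s * z) * l⁻¹ = (l * s * l⁻¹) * (l * z * l⁻¹) by group, hls, hlz]; exact mul_mem hk2 hk1
  have hKR : ∀ r ∈ R, ∀ k ∈ K, r * k * r⁻¹ ∈ K := by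
    intro r hr k hk
    set r0 := l⁻¹ * r * l with hr0
    set k0 := l⁻¹ * k * l with hk0
    have hr0R : r0 ∈ R := by
      have := D.norm_R hB (inv_mem hlL) hr
      rwa [inv_inv] at this
    obtain ⟨hk0Q, hk0Q'⟩ := (memD' k).1 (hKD k hk)
    have hr0H : r0 ∈ centralizer ({z} : Set G) := D.cv_le (D.lineR_le hr0R)
    have him : φ ⟨r0, hr0H⟩ ∈ imE Q φ g := by
      rw [(D.conj_stab hB.mem hB.ne hB.vec_eq).2.1]
      exact R16_le_E32 ((D.mem_lineR.1 hr0R).2 _)
    obtain ⟨e, he, hee⟩ := him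
    have hez := mem_centralizer_singleton_iff.1 e.2
    have hrz := mem_centralizer_singleton_iff.1 hr0H
    have hm1 := Subgroup.mul_mem Q (D.core.norm _ hrz k0 hk0Q) (Subgroup.inv_mem Q hk0Q)
    have hm2 := Subgroup.mul_mem Q (D.core.norm _ hez k0 hk0Q) (Subgroup.inv_mem Q hk0Q)
    have hsame : vec (r0 * k0 * r0⁻¹ * k0⁻¹) = vec ((e : G) * k0 * (e : G)⁻¹ * k0⁻¹) := by
      rw [D.add _ (D.core.norm _ hrz k0 hk0Q) _ (Subgroup.inv_mem Q hk0Q),
        D.add _ (D.core.norm _ hez k0 hk0Q) _ (Subgroup.inv_mem Q hk0Q), D.conj ⟨r0, hr0H⟩ k0 hk0Q,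
        D.conj e k0 hk0Q, hee]
    have hcomm : l * (r0 * k0 * r0⁻¹ * k0⁻¹) * l⁻¹ ∈ K := hKline _ (by
      rcases (D.duo hB.mem hB.ne).right.comm (e : G) he k0 hk0Q' with h | h <;>
        rcases D.same_class hm2 hm1 hsame.symm with h' | h' <;> rw [h', h]
      · exact Or.inl rfl
      · exact Or.inr (Or.inl (one_mul z))
      · exact Or.inr (Or.inr (Or.inl rfl))
      · exact Or.inr (Or.inr (Or.inr rfl)))
    have := mul_mem hcomm hk
    rwa [hr0, hk0, show l * (l⁻¹ * r * l * (l⁻¹ * k * l) * (l⁻¹ * r * l)⁻¹ * (l⁻¹ * k * l)⁻¹) * l⁻¹ * k =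
      r * k * r⁻¹ by group] at this
  have hKC : ∀ c ∈ centralizer (V : Set G), ∀ k ∈ K, c * k * c⁻¹ ∈ K := by
    intro c hc k hk
    have hcH := D.cv_le hc
    have hcK := D.phi_cv hB (c := ⟨c, hcH⟩) hc
    obtain ⟨d, hd, hdC⟩ := hlift _ hcK.1
    have hdz := mem_centralizer_singleton_iff.1 d.2
    have hdX := ((hC _).1 hdC).2
    have hds : (d : G) * s * (d : G)⁻¹ = s := by
      rcases D.same_class hB.mem (D.core.norm _ hdz s hB.mem) (by
        rw [D.conj d s hB.mem, hd, hB.vec_eq, hcK.2.2]) with e | e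
      · exact e
      · exfalso
        have mv : ∀ v, (d : G) * v * (d : G)⁻¹ = v * z →
            (d : G) * ((X : G) * v * (X : G)⁻¹) * (d : G)⁻¹ = (X : G) * v * (X : G)⁻¹ * z := by
          intro v hv
          have hXzi : z * (X : G)⁻¹ = (X : G)⁻¹ * z :=
            (Commute.inv_left (show Commute (X : G) z from hXz)).symm
          rw [show (d : G) * ((X : G) * v * (X : G)⁻¹) * (d : G)⁻¹ = ((d : G) * X) * v * ((d : G) * X)⁻¹ by group,
            hdX, show (X : G) * d * v * ((X : G) * d)⁻¹ = (X : G) * ((d : G) * v * (d : G)⁻¹) * (X : G)⁻¹ by group, hv,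
            show (X : G) * (v * z) * (X : G)⁻¹ = (X : G) * v * (z * (X : G)⁻¹) by group, hXzi]
          group
        have e1 := mv s e
        have e2 := mv t e1
        rw [← ht] at e1
        rw [← hu] at e2
        have hprod : s * t * u = 1 ∨ s * t * u = z := (D.ker _ (Subgroup.mul_mem Q
          (Subgroup.mul_mem Q hB.mem htQ) (D.line_le huV))).1 (by
          rw [D.add _ (Subgroup.mul_mem Q hB.mem htQ) _ (D.line_le huV), D.add _ hB.mem _ htQ, hB.vec_eq, htv, huv,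
            smul_smul]
          calc vB + Four.w • vB + (Four.w * Four.w) • vB = (1 + Four.w + Four.w * Four.w : Four) • vB := by
                rw [add_smul, add_smul, one_smul]
            _ = 0 := by rw [show (1 + Four.w + Four.w * Four.w : Four) = 0 from rfl, zero_smul])
        have hfix : (d : G) * (s * t * u) * (d : G)⁻¹ = s * t * u := by
          rcases hprod with h | h <;> rw [h]
          · group
          · exact mul_inv_eq_iff_eq_mul.2 hdz
        rw [show (d : G) * (s * t * u) * (d : G)⁻¹ =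
          ((d : G) * s * (d : G)⁻¹) * ((d : G) * t * (d : G)⁻¹) * ((d : G) * u * (d : G)⁻¹) by group, e, e1, e2] at hfix
        have hzt : z * t = t * z := (D.half.cz t htQ).symm
        have hzu : z * u = u * z := (D.half.cz u (D.line_le huV)).symm
        refine D.z_ne (mul_eq_left.1 (show s * t * u * z = s * t * u from ?_))
        calc s * t * u * z = s * t * u * (z * z * z) := by rw [D.zz, one_mul]
          _ = s * t * (z * z) * (u * z) := by rw [D.zz, one_mul, mul_one, mul_assoc (s * t) u z]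
          _ = s * (z * t) * z * (u * z) := by rw [hzt]; group
          _ = s * z * (t * z) * (u * z) := by group
          _ = s * t * u := hfix
    have hdt : (d : G) * t * (d : G)⁻¹ = t := by
      rw [ht, show (d : G) * ((X : G) * s * (X : G)⁻¹) * (d : G)⁻¹ = ((d : G) * X) * s * ((d : G) * X)⁻¹ by group, hdX,
        show (X : G) * d * s * ((X : G) * d)⁻¹ = (X : G) * ((d : G) * s * (d : G)⁻¹) * (X : G)⁻¹ by group, hds]
    have hdV : (d : G) ∈ centralizer (V : Set G) :=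
      D.cent_line hB htQ htv hdz (mul_inv_eq_iff_eq_mul.1 hds) (mul_inv_eq_iff_eq_mul.1 hdt)
    have hr : (c * (d : G)⁻¹) ∈ R := D.cv_Q_le_R
      ((D.kerφ (⟨c, hcH⟩ * d⁻¹)).1 (by rw [map_mul, map_inv, hd, mul_inv_cancel])) (mul_mem hc (inv_mem hdV))
    have hdk : (d : G) * k * (d : G)⁻¹ ∈ K := by
      obtain ⟨b, v, hb, hb', hv, rfl⟩ := hk
      refine ⟨(d : G) * b * (d : G)⁻¹, v, ?_, ?_, hv, ?_⟩
      · have hle : C.map (MulAut.conj (d : G)).toMonoidHom ≤ C := by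
          rintro _ ⟨a, ha, rfl⟩
          exact mul_mem (mul_mem hdC ha) (inv_mem hdC)
        have h := mem_map_of_mem (MulAut.conj (d : G)).toMonoidHom hb
        rw [hC', map_commutator] at h
        exact commutator_mono hle hle h
      · refine (memD' _).2 ?_
        have hc' := D.norm_cv (inv_mem hlL) hdV
        rw [inv_inv] at hc'
        have hcz' := mem_centralizer_singleton_iff.1 (D.cv_le hc')
        have hcs' : l⁻¹ * d * l * s = s * (l⁻¹ * d * l) := (mem_centralizer_iff.1 hc' s hsV).symm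
        obtain ⟨h1, h2⟩ := (memD' b).1 hb'
        have e : l⁻¹ * ((d : G) * b * (d : G)⁻¹) * l = l⁻¹ * d * l * (l⁻¹ * b * l) * (l⁻¹ * d * l)⁻¹ := by group
        rw [e]
        exact ⟨D.core.norm _ hcz' _ h1, (D.duo hB.mem hB.ne).right.norm _ hcs' _ h2⟩
      · have hdv : (d : G) * v * (d : G)⁻¹ = v :=
          mul_inv_eq_iff_eq_mul.2 (mem_centralizer_iff.1 hdV v hv.1).symm
        rw [show (d : G) * (b * v) * (d : G)⁻¹ = (d : G) * b * (d : G)⁻¹ * ((d : G) * v * (d : G)⁻¹) by group, hdv]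
    have := hKR _ hr _ hdk
    rwa [show c * (d : G)⁻¹ * ((d : G) * k * (d : G)⁻¹) * (c * (d : G)⁻¹)⁻¹ = c * k * c⁻¹ by group] at this
  -- back to the meet
  let K0 : Subgroup G := K.comap (MulAut.conj l).toMonoidHom
  have hK0 : ∀ x, x ∈ K0 ↔ l * x * l⁻¹ ∈ K := fun x => Iff.rfl
  have hK0C : ∀ c ∈ centralizer (V : Set G), ∀ k ∈ K0, c * k * c⁻¹ ∈ K0 := fun c hc k hk => by
    have := hKC _ (D.norm_cv hlL hc) _ hk
    rw [hK0]
    rwa [show l * c * l⁻¹ * (MulAut.conj l).toMonoidHom k * (l * c * l⁻¹)⁻¹ = l * (c * k * c⁻¹) * l⁻¹ by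
      show l * c * l⁻¹ * (l * k * l⁻¹) * (l * c * l⁻¹)⁻¹ = _; group] at this
  have hzK0 : z ∈ K0 := (hK0 z).2 (hKline z (Or.inr (Or.inl rfl)))
  have hsplit0 : ∀ q ∈ D7, q ∈ K0 ∨ q * t ∈ K0 := by
    intro q hq
    rcases hsplit (l * q * l⁻¹) ((memD' _).2 (by rwa [show l⁻¹ * (l * q * l⁻¹) * l = q by group])) with h | h
    · exact Or.inl h
    · right
      rw [hK0, show l * (q * t) * l⁻¹ = l * q * l⁻¹ * (l * t * l⁻¹) by group, hlt]
      exact h
  have hcq : ∀ c ∈ centralizer (V : Set G), ∀ q ∈ D7, c * q * c⁻¹ * q⁻¹ ∈ K0 := by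
    intro c hc q hq
    rcases hsplit0 q hq with h | h
    · exact mul_mem (hK0C c hc q h) (inv_mem h)
    · have hct : c * t * c⁻¹ = t := mul_inv_eq_iff_eq_mul.2 (mem_centralizer_iff.1 hc t htV).symm
      have := mul_mem (hK0C c hc _ h) (inv_mem h)
      rwa [show c * (q * t) * c⁻¹ * (q * t)⁻¹ = c * q * c⁻¹ * (c * t * c⁻¹) * t⁻¹ * q⁻¹ by group, hct,
        mul_inv_cancel_right] at this
  have hw : ∀ j : Fin 4, ∃ p ∈ K0, p ∈ Q ∧ vec p = eM (6 + j.1) *ᵥ mvec j + mvec j := by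
    intro j
    obtain ⟨c, hc, hcv⟩ := D.exists_cv hB (f := hgen j) (Subgroup.mem_inf.2 ⟨hgen_KP j, hgen_GV j⟩)
    obtain ⟨q, hq, hqv⟩ := D.surj (mvec j)
    have hq' := (D.mem_meet hB hq).2 (hqv.symm ▸ mvec_facts.1 j)
    have hcz := mem_centralizer_singleton_iff.1 c.2
    refine ⟨_, hcq c hcv q ⟨hq, hq'⟩, Subgroup.mul_mem Q (D.core.norm _ hcz q hq) (Subgroup.inv_mem Q hq), ?_⟩
    rw [D.add _ (D.core.norm _ hcz q hq) _ (Subgroup.inv_mem Q hq), D.vec_inv hq, D.conj c q hq, hc, hqv]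
    show lin (el _) _ + _ = _
    rw [el_apply]
  obtain ⟨p0, hp0, hp0Q, e0⟩ := hw 0
  obtain ⟨p1, hp1, hp1Q, e1⟩ := hw 1
  obtain ⟨p2, hp2, hp2Q, e2⟩ := hw 2
  obtain ⟨p3, hp3, hp3Q, e3⟩ := hw 3
  have hP : p0 * p1 * p2 * p3 ∈ K0 := mul_mem (mul_mem (mul_mem hp0 hp1) hp2) hp3
  have hPv : vec t = vec (p0 * p1 * p2 * p3) := by
    rw [D.add _ (Subgroup.mul_mem Q (Subgroup.mul_mem Q hp0Q hp1Q) hp2Q) _ hp3Q,
      D.add _ (Subgroup.mul_mem Q hp0Q hp1Q) _ hp2Q, D.add _ hp0Q _ hp1Q, e0, e1, e2, e3, htv]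
    exact mvec_facts.2.symm
  have htK0 : t ∈ K0 := by
    rcases D.same_class (Subgroup.mul_mem Q (Subgroup.mul_mem Q (Subgroup.mul_mem Q hp0Q hp1Q) hp2Q) hp3Q) htQ
      hPv.symm with e | e
    · exact e ▸ hP
    · exact e ▸ mul_mem hP hzK0
  exact hzK ((hlt ▸ (hK0 t).1 htK0 : z ∈ K))

/-- The centralizer of the scalar. -/
theorem cover_local {g : G} (hgQ : g * z * g⁻¹ ∈ Q) (hne : g * z * g⁻¹ ≠ z) {X : ↥(centralizer ({z} : Set G))}
    (hX3 : X * X * X = 1) (hXw : ∀ x, φ X x = Four.w • x) (C : Subgroup ↥(centralizer ({z} : Set G)))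
    (hC : ∀ c, c ∈ C ↔ c * X = X * c) :
    Cfsg.IsQuasisimple ↥C ∧ IsCyclic ↥(center ↥C) ∧ Nat.card ↥(center ↥C) = 6 ∧
      Nonempty (↥C ⧸ center ↥C ≃* Cfsg.PSU 4 F9 3) := by
  classical
  have hX3' : (X : G) * X * X = 1 := congrArg Subtype.val hX3
  have hXc : ∀ q ∈ Q, q * (X : G) = X * q → q = 1 ∨ q = z := by
    intro q hq hqX
    refine (D.ker q hq).1 ?_
    have h := D.conj X q hq
    rw [show (X : G) * q * (X : G)⁻¹ = q from mul_inv_eq_iff_eq_mul.2 hqX.symm, hXw] at h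
    have h2 : (Four.w + 1) • vec q = 0 := by
      rw [add_smul, one_smul, ← h]
      exact funext fun r => CfsgLib.Spor.Fi22.U6.add_self _
    exact (smul_eq_zero.1 h2).resolve_left (by decide)
  let H := centralizer ({z} : Set G)
  let zH : ↥H := ⟨z, D.core.le D.core.mem⟩
  have hzH : zH ∈ C := (hC _).2 (Subtype.ext (mem_centralizer_singleton_iff.1 X.2).symm)
  have hXC : X ∈ C := (hC _).2 rfl
  let f : ↥C →* Equiv.Perm V6 := φ.comp C.subtype
  have hfr : ∀ c : C, f c ∈ KP := fun c => D.phi_comm hgQ hne hXw (c := c.1) (congrArg Subtype.val ((hC _).1 c.2))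
  have hfs : ∀ k ∈ KP, ∃ c : C, f c = k := fun k hk => by
    obtain ⟨c, hc⟩ := D.K1_le k hk
    obtain ⟨b, hb, hbX⟩ := D.fix_X hX3 hXw hXc (c := c) (by
      rw [hc]
      exact Equiv.ext fun x => by rw [Equiv.Perm.mul_apply, Equiv.Perm.mul_apply, hXw, hXw, lin_smul hk])
    exact ⟨⟨b, (hC _).2 (Subtype.ext hbX)⟩, hb.trans hc⟩
  have hker : ∀ c : C, f c = 1 → c = 1 ∨ c = ⟨zH, hzH⟩ := fun c hc => by
    rcases hXc _ ((D.kerφ c.1).1 hc) (congrArg Subtype.val ((hC _).1 c.2)) with e | e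
    · exact Or.inl (Subtype.ext (Subtype.ext e))
    · exact Or.inr (Subtype.ext (Subtype.ext e))
  have hz := D.z_commutator hgQ hne hX3 hXw hXc (C := C.map H.subtype) fun x => by
    constructor
    · rintro ⟨c, hc, rfl⟩
      exact ⟨c.2, congrArg Subtype.val ((hC c).1 hc)⟩
    · rintro ⟨hx, hxX⟩
      exact ⟨⟨x, hx⟩, (hC _).2 (Subtype.ext hxX), rfl⟩
  have hzc : (⟨zH, hzH⟩ : C) ∈ commutator ↥C := by
    rw [← map_commutator, ← map_subtype_commutator, Subgroup.map_map] at hz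
    obtain ⟨c, hc, e⟩ := hz
    rwa [show (⟨zH, hzH⟩ : C) = c from Subtype.ext (Subtype.ext e.symm)]
  have hperf : Group.IsPerfect ↥C := by
    refine ⟨eq_top_iff.2 fun c _ => ?_⟩
    have hfc : f c ∈ (commutator ↥C).map f := by
      rw [_root_.commutator_def, map_commutator, ← MonoidHom.range_eq_map,
        show f.range = KP from le_antisymm (fun k ⟨c, hc⟩ => hc ▸ hfr c) (fun k hk => hfs k hk),
        KP_commutator card_F9]
      exact hfr c
    obtain ⟨d, hd, hdc⟩ := hfc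
    rcases hker (d⁻¹ * c) (by rw [map_mul, map_inv, hdc, inv_mul_cancel]) with e | e
    · rwa [inv_mul_eq_one.1 e] at hd
    · rw [eq_mul_of_inv_mul_eq e]; exact mul_mem hd hzc
  -- onto the quotient
  let eK : ↥K1 ≃* ↥KP := K1.equivMapOfInjective lin lin_injective
  let fK : ↥C →* ↥K1 := eK.symm.toMonoidHom.comp (f.codRestrict KP hfr)
  have hfK : Function.Surjective fK := fun k => by
    obtain ⟨c, hc⟩ := hfs (eK k).1 (eK k).2
    refine ⟨c, ?_⟩
    show eK.symm _ = k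
    rw [show f.codRestrict KP hfr c = eK k from Subtype.ext hc, MulEquiv.symm_apply_apply]
  have hfK1 : ∀ c, fK c = 1 ↔ f c = 1 := fun c => by
    show eK.symm _ = 1 ↔ _
    rw [map_eq_one_iff _ eK.symm.injective, Subtype.ext_iff]; rfl
  have hzcen : (⟨zH, hzH⟩ : C) ∈ center ↥C := mem_center_iff.2 fun c => Subtype.ext (Subtype.ext
    (mem_centralizer_singleton_iff.1 c.1.2))
  have hcenter : center ↥C = (center ↥K1).comap fK := by
    ext c
    rw [mem_comap]
    constructor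
    · intro h
      refine mem_center_iff.2 fun k => ?_
      obtain ⟨d, rfl⟩ := hfK k
      rw [← map_mul, ← map_mul, mem_center_iff.1 h d]
    · intro h
      refine mem_center_iff.2 fun d => ?_
      -- scalars lift to powers of `X` times the kernel
      have h' := h
      rw [center_le_scalars card_F9, mem_subgroupOf] at h'
      obtain ⟨a, ha⟩ := h'
      have hfa : ∀ x, f c x = a • x := fun x => by
        have e : f c = lin (fK c).1 := congrArg Subtype.val (eK.apply_symm_apply (f.codRestrict KP hfr c)).symm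
        rw [e, lin_apply, ha, scalarM, smul_mulVec, one_mulVec]
      obtain ⟨i, hi⟩ : ∃ i : Fin 3, Four.w ^ i.1 = a := by
        have ha0 : a ≠ 0 := fun e => base_facts.2.2.1 ((f c).injective (by
          rw [hfa, hfa, e, zero_smul, zero_smul] : f c vB = f c 0))
        exact (by decide : ∀ a : Four, a ≠ 0 → ∃ i : Fin 3, Four.w ^ i.1 = a) a ha0
      have hpow : ∀ n : ℕ, ∀ x, φ (X ^ n) x = Four.w ^ n • x := by
        intro n
        induction n with
        | zero => intro x; simp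
        | succ n ih => intro x; rw [pow_succ, map_mul, Equiv.Perm.mul_apply, hXw, ih, smul_smul, pow_succ]
      have hk1 : f ((⟨X, hXC⟩ ^ i.1)⁻¹ * c) = 1 := by
        rw [map_mul, map_inv, inv_mul_eq_one]
        exact Equiv.ext fun x => by
          show φ ((⟨X, hXC⟩ ^ i.1 : C) : ↥H) x = _
          rw [SubgroupClass.coe_pow, hpow, hfa, hi]
      have hXcen : ∀ d : C, d * ⟨X, hXC⟩ = ⟨X, hXC⟩ * d := fun d => Subtype.ext ((hC _).1 d.2)
      have hcpow : d * (⟨X, hXC⟩ ^ i.1) = (⟨X, hXC⟩ ^ i.1) * d := (Commute.pow_right (hXcen d) _).eq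
      rcases hker _ hk1 with e | e
      · rw [← inv_mul_eq_one.1 e]; exact hcpow
      · rw [eq_mul_of_inv_mul_eq e, ← mul_assoc, hcpow, mul_assoc, mem_center_iff.1 hzcen d, mul_assoc]
  obtain ⟨eq⟩ := quot_K1 card_F9
  let g' : ↥C →* Cfsg.PSU 4 F9 3 := eq.toMonoidHom.comp ((QuotientGroup.mk' (center ↥K1)).comp fK)
  have hg's : Function.Surjective g' :=
    eq.surjective.comp ((QuotientGroup.mk'_surjective _).comp hfK)
  have hg'k : g'.ker = center ↥C := by
    rw [hcenter]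
    ext c
    rw [MonoidHom.mem_ker, mem_comap]
    show eq (QuotientGroup.mk (fK c)) = 1 ↔ _
    rw [map_eq_one_iff _ eq.injective, QuotientGroup.eq_one_iff]
  let e : ↥C ⧸ center ↥C ≃* Cfsg.PSU 4 F9 3 :=
    (QuotientGroup.quotientMulEquivOfEq hg'k.symm).trans (QuotientGroup.quotientKerEquivOfSurjective g' hg's)
  haveI := psu43_simple card_F9
  -- the centre
  let zC : center ↥C := ⟨⟨zH, hzH⟩, hzcen⟩
  let XC : center ↥C := ⟨⟨X, hXC⟩, mem_center_iff.2 fun d => Subtype.ext ((hC _).1 d.2)⟩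
  have hzo : orderOf zC = 2 := by
    haveI : Fact (Nat.Prime 2) := ⟨Nat.prime_two⟩
    refine orderOf_eq_prime (Subtype.ext (Subtype.ext (Subtype.ext ?_))) fun h => D.z_ne ?_
    · show z ^ 2 = 1
      rw [pow_two]; exact D.zz
    · exact congrArg (fun a : center ↥C => ((a : C) : ↥H).1) h
  have hXo : orderOf XC = 3 := by
    haveI : Fact (Nat.Prime 3) := ⟨Nat.prime_three⟩
    refine orderOf_eq_prime (Subtype.ext (Subtype.ext (Subtype.ext ?_))) fun h => ?_
    · show (X : G) ^ 3 = 1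
      rw [pow_three']; exact hX3'
    · have h1 : X = 1 := congrArg (fun a : center ↥C => ((a : C) : ↥H)) h
      have := hXw vB
      rw [h1, map_one, Equiv.Perm.one_apply] at this
      exact line_facts.2.1 this.symm
  have hord : orderOf (zC * XC) = 6 := by
    rw [(show Commute zC XC from Subtype.ext (mem_center_iff.1 XC.2 zC.1)).orderOf_mul_eq_mul_orderOf_of_coprime (by rw [hzo, hXo]; norm_num), hzo, hXo]
  have hle6 : Nat.card (center ↥C) ≤ 6 := by
    have hk : Nat.card fK.ker ≤ 2 := by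
      refine le_of_le_of_eq (Nat.card_le_card_of_injective (fun c : fK.ker => if c.1 = 1 then (0 : Fin 2) else 1) ?_) (Nat.card_fin 2)
      intro a b e
      have hcase : ∀ c : fK.ker, c.1 = 1 ∨ c.1 = ⟨zH, hzH⟩ := fun c => hker _ ((hfK1 _).1 c.2)
      by_cases ha : a.1 = 1 <;> by_cases hb : b.1 = 1 <;> simp [ha, hb] at e
      · exact Subtype.ext (ha.trans hb.symm)
      · exact Subtype.ext (((hcase a).resolve_left ha).trans ((hcase b).resolve_left hb).symm)
    have h := Subgroup.card_eq_card_quotient_mul_card_subgroup (fK.comp (center ↥C).subtype).ker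
    rw [Nat.card_congr (QuotientGroup.quotientKerEquivRange _).toEquiv] at h
    have h1 : Nat.card (fK.comp (center ↥C).subtype).range ≤ 3 := by
      rw [← center_K1 card_F9]
      refine Subgroup.card_le_of_le ?_
      rintro _ ⟨c, rfl⟩
      exact (mem_comap.1 (hcenter ▸ c.2) : fK c.1 ∈ center ↥K1)
    have h2 : Nat.card (fK.comp (center ↥C).subtype).ker ≤ 2 :=
      (Nat.card_le_card_of_injective (fun x : (fK.comp (center ↥C).subtype).ker => (⟨((x : center ↥C) : C), x.2⟩ : fK.ker)) fun x y e =>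
        Subtype.ext (Subtype.ext (congrArg (fun t : fK.ker => (t : C)) e))).trans hk
    rw [h]
    exact Nat.mul_le_mul h1 h2
  have htop : zpowers (zC * XC) = ⊤ := Subgroup.eq_top_of_le_card _ (by
    rw [Nat.card_zpowers, hord]; exact hle6)
  refine ⟨⟨hperf, e.isSimpleGroup⟩, ?_, ?_, ⟨e⟩⟩
  · exact isCyclic_iff_exists_zpowers_eq_top.2 ⟨_, htop⟩
  · rw [← Subgroup.card_top, ← htop, Nat.card_zpowers, hord]

end Data

end CfsgLib.Spor.LargeFischer
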