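import Cfsg.Agent.Lib.Spor.LargeFischer.StabX

/-!
# Finite facts about the line of a conjugate and the meet of the two extraspecial subgroups
-/

set_option autoImplicit false
set_option maxRecDepth 100000

namespace CfsgLib.Spor.LargeFischer

open Matrix CfsgLib.Spor.U43Six CfsgLib.Spor.Fi22.U6

/-- On the line through the base vector. -/
def InL (x : V6) : Prop := ∃ a : Four, x = a • vB

instance (x : V6) : Decidable (InL x) := inferInstanceAs (Decidable (∃ _ : Four, _))

/-- In the image of the meet of the two extraspecial subgroups. -/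
def InU (x : V6) : Prop := ∀ i : Fin 4, kgenF i.castSucc x + x = 0 ∨ kgenF i.castSucc x + x = vB

instance (x : V6) : Decidable (InU x) := inferInstanceAs (Decidable (∀ _ : Fin 4, _ ∨ _))

/-- The codes of that image. -/
def uCodes : List ℕ := [0, 5, 17, 20, 65, 68, 80, 85, 170, 175, 187, 190, 235, 238, 250, 255, 1280, 1285, 1297,
  1300, 1345, 1348, 1360, 1365, 1450, 1455, 1467, 1470, 1515, 1518, 1530, 1535, 2816, 2821, 2833, 2836, 2881,
  2884, 2896, 2901, 2986, 2991, 3003, 3006, 3051, 3054, 3066, 3071, 3584, 3589, 3601, 3604, 3649, 3652, 3664,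
  3669, 3754, 3759, 3771, 3774, 3819, 3822, 3834, 3839]

theorem u_codes : ∀ n < 4096, InU (dec n) → n ∈ uCodes := by decide +kernel

theorem u_list : uCodes.length = 64 ∧ (∀ n ∈ uCodes, n < 4096) := by decide +kernel

theorem u_two_raw : ∀ n ∈ uCodes, enc (Four.w • dec n) ∈ uCodes → InL (dec n) := by decide +kernel

theorem u_sym_raw : ∀ n ∈ uCodes,
    (∀ j : Fin 4, eM (6 + j.1) *ᵥ dec n + dec n = 0 ∨ eM (6 + j.1) *ᵥ dec n + dec n = vB) → InL (dec n) := by
  decide +kernel

theorem inU_mem {x : V6} (h : InU x) : enc x ∈ uCodes := u_codes _ (enc_lt x) (by rwa [dec_enc])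

theorem u_two {x : V6} (h : InU x) (h' : InU (Four.w • x)) : InL x := by
  have := u_two_raw _ (inU_mem h) (by rw [dec_enc]; exact inU_mem h')
  rwa [dec_enc] at this

theorem u_sym {x : V6} (h : InU x) (h' : ∀ j : Fin 4, hgen j x + x = 0 ∨ hgen j x + x = vB) : InL x := by
  have := u_sym_raw _ (inU_mem h) fun j => by
    rw [dec_enc, ← el_apply ⟨6 + j.1, by omega⟩]
    exact h' j
  rwa [dec_enc] at this

theorem card_InU_le : Nat.card {x : V6 // InU x} ≤ 64 := by
  have h := Nat.card_le_card_of_injective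
    (fun x : {x : V6 // InU x} => (⟨enc x.1, List.mem_toFinset.2 (inU_mem x.2)⟩ : {n // n ∈ uCodes.toFinset}))
    fun x y e => Subtype.ext (by
      have h2 := congrArg (fun n : {n // n ∈ uCodes.toFinset} => dec n.1) e
      rwa [dec_enc, dec_enc] at h2)
  rw [Nat.card_eq_fintype_card (α := {n // n ∈ uCodes.toFinset}), Fintype.card_coe] at h
  exact h.trans ((List.toFinset_card_le _).trans u_list.1.le)

/-- Vectors whose moves under the letters sum to the other vector of the line. -/
def mvec (j : Fin 4) : V6 := dec ([1280, 5, 5, 2821].getD j.1 0)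

theorem mvec_facts : (∀ j, InU (mvec j)) ∧
    (eM 6 *ᵥ mvec 0 + mvec 0) + (eM 7 *ᵥ mvec 1 + mvec 1) + (eM 8 *ᵥ mvec 2 + mvec 2) +
      (eM 9 *ᵥ mvec 3 + mvec 3) = Four.w • vB := by decide +kernel

/-- A basis of the perpendicular space of the base vector. -/
def perpBasis : List ℕ := [5, 10, 17, 34, 65, 130, 256, 512, 1024, 2048]

theorem perp_basis : ∀ b ∈ perpBasis, hf (dec b) vB = 0 := by decide +kernel

theorem perp_two_raw : ((List.range 4096).all fun n =>
    (perpBasis.any fun b => decide (trF (hf (dec n) (dec b)) ≠ 0)) || decide (InL (dec n))) = true := by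
  decide +kernel

theorem perp_two {x : V6} (h : ∀ y, hf y vB = 0 → trF (hf x y) = 0) : InL x := by
  have hb := List.all_eq_true.1 perp_two_raw (enc x) (List.mem_range.2 (enc_lt x))
  rw [Bool.or_eq_true, dec_enc, decide_eq_true_eq] at hb
  refine hb.resolve_left ?_
  simp only [List.any_eq_true, not_exists, not_and, decide_eq_true_eq, not_not]
  exact fun b hb => h _ (perp_basis b hb)

theorem enc_dec_code : ∀ n < 4096, enc (dec n) = n := by decide +kernel

theorem perp_count_raw : ((List.range 4096).filter fun n => decide (hf (dec n) vB = 0)).length = 1024 := by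
  decide +kernel

theorem card_perp : Nat.card {x : V6 // hf x vB = 0} = 1024 := by
  rw [Nat.card_eq_fintype_card, Fintype.card_subtype]
  refine Eq.trans ?_ perp_count_raw
  rw [← List.toFinset_card_of_nodup (List.nodup_range.filter _)]
  refine Finset.card_bij (fun x _ => enc x) (fun x hx => ?_) (fun x _ y _ e => ?_) fun n hn => ?_
  · rw [List.mem_toFinset, List.mem_filter, dec_enc, decide_eq_true_eq]
    exact ⟨List.mem_range.2 (enc_lt x), (Finset.mem_filter.1 hx).2⟩
  · rw [← dec_enc x, e, dec_enc]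
  · rw [List.mem_toFinset, List.mem_filter, decide_eq_true_eq] at hn
    exact ⟨dec n, Finset.mem_filter.2 ⟨Finset.mem_univ _, hn.2⟩, enc_dec_code n (List.mem_range.1 hn.1)⟩

theorem perp_faith : ∀ m : Fin 5 → Bool, m 4 = false → (∀ b ∈ perpBasis, prodF m (dec b) = dec b) →
    ∀ i, m i = false := by decide +kernel

theorem dual_vectors : trF (hf (dec 2) vB) = 1 ∧ trF (hf (dec 2) (Four.w • vB)) = 0 ∧
    trF (hf (dec 1) vB) = 0 ∧ trF (hf (dec 1) (Four.w • vB)) = 1 := by decide +kernel

theorem line_facts : Four.w • vB ≠ 0 ∧ Four.w • vB ≠ vB ∧ InU vB ∧ InU (Four.w • vB) ∧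
    (∀ i : Fin 4, eM (2 + i.1) *ᵥ vB = vB) ∧ adjF .frsw (Four.w • vB) = Four.u • vB ∧
    Four.u • vB ≠ Four.w • vB := by decide +kernel

theorem trF_zero : ∀ r : Four, trF r = 0 → trF (Four.w ^ 2 * r) = 0 → r = 0 := by decide

theorem hf_zero_of_tr {x : V6} (h1 : trF (hf x vB) = 0) (h2 : trF (hf x (Four.w • vB)) = 0) : hf x vB = 0 :=
  trF_zero _ h1 (by rwa [hf_smul_right] at h2)

theorem inL_cases {x : V6} (h : InL x) : x = 0 ∨ x = vB ∨ x = Four.w • vB ∨ x = Four.w • vB + vB := by
  obtain ⟨a, rfl⟩ := h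
  cases a
  · exact Or.inl (zero_smul _ _)
  · exact Or.inr (Or.inl (one_smul _ _))
  · exact Or.inr (Or.inr (Or.inl rfl))
  · refine Or.inr (Or.inr (Or.inr ?_))
    rw [show (Four.u : Four) = Four.w + 1 from rfl, add_smul, one_smul]

theorem inL_add {x y : V6} (hx : InL x) (hy : InL y) : InL (x + y) := by
  obtain ⟨a, rfl⟩ := hx
  obtain ⟨b, rfl⟩ := hy
  exact ⟨a + b, (add_smul a b vB).symm⟩

theorem inL_perp {x y : V6} (hx : InL x) (hy : InL y) : trF (hf x y) = 0 := by
  obtain ⟨a, rfl⟩ := hx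
  obtain ⟨b, rfl⟩ := hy
  rw [hf_smul_left, hf_smul_right, base_facts.2.2.2.1, mul_zero, mul_zero]
  rfl

/-- The semilinear outer map squares scalars. -/
theorem frsw_smul (c : Four) (x : V6) : Outer.perm .frsw (c • x) = c ^ 2 • Outer.perm .frsw x := by
  show frob (lin U43Six.sw (c • x)) = c ^ 2 • frob (lin U43Six.sw x)
  rw [lin_apply, lin_apply, mulVec_smul]
  exact funext fun r => mul_pow _ _ 2

theorem lin_smul {f : Equiv.Perm V6} (hf : f ∈ KP) (c : Four) (x : V6) : f (c • x) = c • f x := by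
  obtain ⟨g, -, rfl⟩ := hf
  rw [lin_apply, lin_apply, mulVec_smul]

theorem card_R16_ker : Nat.card R16 = 16 ∧
    Nat.card (actH.comp ((KP ⊓ GV).subgroupOf GV).subtype).ker = 16 := by
  have h := card_act (KP ⊓ GV) inf_le_right
  rw [act_S0 card_F9, card_PA6, card_S0 card_F9] at h
  have h2 := card_ker_ge (KP ⊓ GV) inf_le_right R16 R16_le fun f hf => act_E32 (R16_le_E32 hf)
  have h3 := card_R16_ge
  omega

/-- The kernel of the action on the classes inside the stabilizer. -/
theorem ker_act {f : GV} (hk : f.1 ∈ KP) (h : actH f = 1) : f.1 ∈ R16 := by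
  let ι : R16 → (actH.comp ((KP ⊓ GV).subgroupOf GV).subtype).ker := fun y =>
    ⟨⟨⟨y.1, (R16_le y.2).2⟩, R16_le y.2⟩, act_E32 (R16_le_E32 y.2)⟩
  have hb : Function.Bijective ι := (Nat.bijective_iff_injective_and_card _).2
    ⟨fun a b e => Subtype.ext (congrArg
      (fun p : (actH.comp ((KP ⊓ GV).subgroupOf GV).subtype).ker => ((p.1 : GV) : Equiv.Perm V6)) e),
      by rw [card_R16_ker.1, card_R16_ker.2]⟩
  obtain ⟨y, hy⟩ := hb.2 ⟨⟨f, Subgroup.mem_inf.2 ⟨hk, f.2⟩⟩, h⟩
  have e := congrArg (fun p : (actH.comp ((KP ⊓ GV).subgroupOf GV).subtype).ker => ((p.1 : GV) : Equiv.Perm V6)) hy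
  exact (show y.1 = f.1 from e) ▸ y.2

/-- The elements of the kernel as products of the generators. -/
theorem R16_enum {f : Equiv.Perm V6} (hf : f ∈ R16) : ∃ m : Fin 5 → Bool, m 4 = false ∧ prodP m = f := by
  classical
  let up : {m : Fin 5 → Bool // m 4 = false} → R16 := fun m => ⟨prodP m.1, by
    have h : ∀ i : Fin 5, (if m.1 i then kgen i else 1 : Equiv.Perm V6) ∈ R16 := fun i => by
      split
      · rename_i hi
        have h4 : i.1 < 4 := by
          by_contra hh
          rw [show i = 4 from Fin.ext (by have := i.2; show i.1 = 4; omega), m.2] at hi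
          exact Bool.false_ne_true hi
        exact Subgroup.subset_closure ⟨⟨i.1, h4⟩, rfl⟩
      · exact one_mem _
    simp only [prodP]
    exact mul_mem (h 0) (mul_mem (h 1) (mul_mem (h 2) (mul_mem (h 3) (h 4))))⟩
  have hb : Function.Bijective up := (Nat.bijective_iff_injective_and_card _).2
    ⟨fun a b e => Subtype.ext (prodP_injective (congrArg Subtype.val e)), by
      rw [card_R16_ker.1, Nat.card_eq_fintype_card]; rfl⟩
  obtain ⟨m, hm⟩ := hb.2 ⟨f, hf⟩
  exact ⟨m.1, m.2, congrArg Subtype.val hm⟩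

end CfsgLib.Spor.LargeFischer
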