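import Mathlib

/-!
# SL(3, 2): transitivity, elements of order three, normal subgroups
-/

set_option autoImplicit false

namespace CfsgLib.Spor.LargeFischer

open Matrix

/-- The group of three by three matrices. -/
abbrev SL32 : Type := Matrix.SpecialLinearGroup (Fin 3) (ZMod 2)

/-- An element of order three. -/
def slThree : SL32 := ⟨!![1, 0, 0; 0, 0, 1; 0, 1, 1], by decide +kernel⟩

theorem sl_conj_three : ∀ x : SL32, x ^ 3 = 1 → x ≠ 1 → ∃ g : SL32, x = g * slThree * g⁻¹ := by decide +kernel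

theorem sl_two_three : ∀ B : SL32, ∃ g : SL32,
    (B * (g * slThree * g⁻¹)) ^ 3 = 1 ∧ B * (g * slThree * g⁻¹) ≠ 1 := by decide +kernel

theorem sl_trans : ∀ a b : Fin 3 → ZMod 2, a ≠ 0 → b ≠ 0 → ∃ A : SL32, (A : Matrix (Fin 3) (Fin 3) (ZMod 2)) *ᵥ a = b := by
  decide +kernel

/-- A normal subgroup with an element of order three is everything. -/
theorem sl_top {N : Subgroup SL32} (hn : N.Normal) {x : SL32} (hx : x ∈ N) (h3 : x ^ 3 = 1) (h1 : x ≠ 1) :
    N = ⊤ := by
  have h0 : slThree ∈ N := by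
    obtain ⟨g, rfl⟩ := sl_conj_three x h3 h1
    have := hn.conj_mem _ hx g⁻¹
    rwa [show g⁻¹ * (g * slThree * g⁻¹) * g⁻¹⁻¹ = slThree by group] at this
  refine eq_top_iff.2 fun B _ => ?_
  obtain ⟨g, e3, e1⟩ := sl_two_three B
  obtain ⟨k, hk⟩ := sl_conj_three _ e3 e1
  have hm := mul_mem (hn.conj_mem _ h0 k) (inv_mem (hn.conj_mem _ h0 g))
  rwa [← hk, mul_inv_cancel_right] at hm

end CfsgLib.Spor.LargeFischer
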