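import Cfsg.Agent.Lib.Spor.LargeFischer.SylModel

/-!
# Elementary abelian subgroups of order sixteen other than the large one have small fixed spaces
-/

set_option autoImplicit false
set_option maxRecDepth 100000

namespace CfsgLib.Spor.LargeFischer

open Matrix CfsgLib.Spor.U43Six CfsgLib.Spor.Fi22.U6

/-- The product in either order. -/
def prS (i j : ℕ) : ℕ := if i < j then prI i j else prI j i

/-- Seven members spanned by three. -/
def span7 (a b c : ℕ) : List ℕ := [a, b, prS a b, c, prS a c, prS b c, prS (prS a b) c]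

/-- Fifteen members spanned by four. -/
def span15 (a b c d : ℕ) : List ℕ := span7 a b c ++ d :: (span7 a b c).map fun k => prS k d

/-- The four members span a tabulated subgroup. -/
def quadOK (a b c d : ℕ) : Bool :=
  Syl.subs.any fun s => s.2.1.all fun g => (span15 a b c d).contains g

/-- Nothing outside `L` in the list is smaller. -/
def minOK (L : List ℕ) (b : ℕ) (xs : List ℕ) : Bool := xs.all fun x => L.contains x || Nat.ble b x

/-- All quadruples of successively smallest independent commuting members are covered. -/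
def searchOK : Bool :=
  (List.range 56).all fun a => (List.range 71).all fun b =>
    !(Nat.blt a b && comB a b && minOK [a] b [prI a b]) || (List.range 71).all fun c =>
      !(Nat.blt b c && comB a c && comB b c && !Nat.beq c (prI a b) &&
          minOK [a, b, prI a b] c [prS a c, prS b c, prS (prS a b) c]) || (List.range 71).all fun d =>
        !(Nat.blt c d && comB a d && comB b d && comB c d && !(span7 a b c).contains d &&
            minOK (span7 a b c) d ((span7 a b c).map fun k => prS k d)) || quadOK a b c d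

theorem search_ok : searchOK = true := by decide +kernel

/-- A bit of a code. -/
def tb (b c : ℕ) : ZMod 2 := if c.testBit b then 1 else 0

theorem tb_xor (b c d : ℕ) : tb b (c ^^^ d) = tb b c + tb b d := by
  rw [tb, tb, tb, Nat.testBit_xor]
  cases c.testBit b <;> cases d.testBit b <;> rfl

/-- A generator of a tabulated subgroup. -/
def subGen (s : ℕ) (i : ℕ) : ℕ := ((Syl.subs.getD s (0, [], [], [])).2.1).getD i 0

/-- The code of an independent vector. -/
def subCode (s u : ℕ) : ℕ := ((Syl.subs.getD s (0, [], [], [])).2.2.1).getD u 0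

/-- An independent vector. -/
def subVec (s u : ℕ) : V6 := dec (subCode s u)

/-- The bit of a functional. -/
def subBit (s u : ℕ) : ℕ := ((Syl.subs.getD s (0, [], [], [])).2.2.2).getD u 0

/-- A functional on codes. -/
def subFun (s u c : ℕ) : ZMod 2 := tb (subBit s u % 12) (gC (iN (subGen s (subBit s u / 12))) c ^^^ c)

theorem sub_data : Syl.subs.length = 38 ∧ ∀ s < 38, ((Syl.subs.getD s (0, [], [], [])).2.1).length = 4 ∧
    ∀ u : Fin 9, subBit s u.1 / 12 < 4 ∧ iN (subGen s (subBit s u.1 / 12)) < 256 ∧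
      ∀ v : Fin 9, subCode s v.1 < 4096 ∧ subFun s u.1 (subCode s v.1) = if u = v then 1 else 0 := by decide +kernel

/-- Vectors fixed by a tabulated subgroup are few. -/
theorem sub_bound (s : ℕ) (hs : s < 38) (F : Set V6) (hF : ∀ x ∈ F, ∀ i < 4, gI (subGen s i) x = x) :
    Nat.card F ≤ 8 := by
  obtain ⟨-, hd⟩ := sub_data
  obtain ⟨-, hd⟩ := hd s hs
  let L : Fin 9 → V6 →+ ZMod 2 := fun u => AddMonoidHom.mk' (fun x => subFun s u.1 (enc x)) fun x y => by
    simp only [subFun]
    rw [← tb_xor, enc_add, gC, colSum_xor]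
    congr 1
    ac_rfl
  let f : F × (Fin 9 → ZMod 2) → V6 := fun p => p.1.1 + ∑ v, if p.2 v = 1 then subVec s v.1 else 0
  have hval : ∀ (p : F × (Fin 9 → ZMod 2)) (u : Fin 9), L u (f p) = p.2 u := by
    intro p u
    simp only [f]
    rw [map_add, map_sum]
    have h1 : L u p.1.1 = 0 := by
      show subFun s u.1 _ = 0
      have e := congrArg enc (hF _ p.1.2 _ (hd u).1)
      rw [gI, gFn, enc_dec _ (gC_bound (hd u).2.1 _)] at e
      rw [subFun, e, Nat.xor_self]
      simp [tb]
    have h2 : ∀ v, L u (if p.2 v = 1 then subVec s v.1 else 0) = if u = v then p.2 v else 0 := fun v => by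
      rcases (by decide : ∀ c : ZMod 2, c = 0 ∨ c = 1) (p.2 v) with e | e <;> rw [e]
      · rw [if_neg (by decide), map_zero, ite_self]
      · rw [if_pos rfl]
        show subFun s u.1 (enc (dec (subCode s v.1))) = _
        rw [enc_dec _ ((hd u).2.2 v).1]
        exact ((hd u).2.2 v).2
    rw [h1, zero_add, Finset.sum_congr rfl fun v _ => h2 v, Finset.sum_ite_eq, if_pos (Finset.mem_univ _)]
  have hf : Function.Injective f := fun p q e => by
    have h2 : p.2 = q.2 := funext fun u => by rw [← hval p u, ← hval q u, e]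
    refine Prod.ext (Subtype.ext ?_) h2
    simp only [f] at e
    rw [h2] at e
    exact add_right_cancel e
  have h := Nat.card_le_card_of_injective f hf
  have h9 : Nat.card (Fin 9 → ZMod 2) = 512 := by simp
  have h12 : Nat.card V6 = 4096 := by
    simp [Nat.card_eq_fintype_card, Fintype.card_fun, Four.card_four]
  rw [Nat.card_prod, h9, h12] at h
  omega

theorem high_raw : ∀ k < 71, 56 ≤ k → ∃ m : Fin 16, Syl.aIds.getD m.1 0 = iN k := by decide +kernel

theorem high_in_A16 (k : ℕ) (hk : k < 71) (h : 56 ≤ k) : ∃ m : Fin 16, ∀ t, gI k (bas t) = gA m (bas t) := by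
  obtain ⟨m, hm⟩ := high_raw k hk h
  exact ⟨m, fun t => by rw [gI, gA, hm]⟩

/-- An elementary abelian subgroup of the model of order at least sixteen, other than the large one, fixes at
most eight vectors. -/
theorem small_fix {A : Subgroup (Equiv.Perm V6)} (hP : ∀ x ∈ A, ∃ n < 256, x = eP n)
    (hc : ∀ x ∈ A, ∀ y ∈ A, x * y = y * x) (hs : ∀ x ∈ A, x * x = 1) (hcard : 16 ≤ Nat.card A)
    (hne : ¬ A ≤ A16) (F : Set V6) (hF : ∀ x ∈ F, ∀ f ∈ A, f x = x) : Nat.card F ≤ 8 := by
  classical
  obtain ⟨hinv, hlen, hlt⟩ := inv_data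
  let S : ℕ → Prop := fun k => k < 71 ∧ ∃ x ∈ A, ∀ v, x v = gI k v
  have hidx : ∀ x ∈ A, x ≠ 1 → ∃ k, k < 71 ∧ ∀ v, x v = gI k v := by
    intro x hx hx1
    obtain ⟨n, hn, rfl⟩ := hP x hx
    rcases hinv n hn with rfl | h | h
    · refine absurd ((eP_good 0).ext good_one fun t => ?_) hx1
      rw [eP_apply hn]
      exact gFn_zero t
    · obtain ⟨k, hk, e⟩ := List.getElem_of_mem h
      refine ⟨k, hlen ▸ hk, fun v => ?_⟩
      rw [gI, iN, List.getD_eq_getElem _ _ hk, e]
      exact eP_apply hn v
    · refine absurd ?_ h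
      rw [← eP_apply hn, ← eP_apply hn, ← Equiv.Perm.mul_apply, hs _ hx]
      rfl
  have hmul : ∀ i j, S i → S j → i < j → comB i j = true ∧ S (prI i j) := by
    rintro i j ⟨hi, x, hx, ex⟩ ⟨hj, y, hy, ey⟩ hij
    have h := com_data i hi j hj hij
    by_cases hb : comB i j = true
    · rw [if_pos hb] at h
      refine ⟨hb, h.1, x * y, mul_mem hx hy, add_ext (f := fun v => (x * y) v) (g := gI (prI i j))
        (fun a b => ?_) (gFn_add _) fun t => ?_⟩
      · show x (y (a + b)) = x (y a) + x (y b)
        rw [ex, ey, ex, ey, ex, ey]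
        exact comp_add (gFn_add _) (gFn_add _) a b
      · show x (y _) = _
        rw [ex, ey]
        exact h.2 t
    · rw [if_neg hb] at h
      refine absurd ?_ h
      rw [← ey, ← ex, ← ex, ← ey, ← Equiv.Perm.mul_apply, ← Equiv.Perm.mul_apply, hc x hx y hy]
  have hS : ∀ i j, S i → S j → i ≠ j → S (prS i j) := by
    intro i j hi hj hij
    rcases Nat.lt_or_ge i j with h | h
    · rw [prS, if_pos h]; exact (hmul i j hi hj h).2
    · rw [prS, if_neg (by omega)]; exact (hmul j i hj hi (by omega)).2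
  have hout : ∀ L : List ℕ, L.length ≤ 7 → ∃ k, S k ∧ k ∉ L := by
    intro L hL
    by_contra hcon
    push Not at hcon
    choose g hg using fun x : {x : A // (x : Equiv.Perm V6) ≠ 1} => hidx x.1.1 x.1.2 x.2
    let f : A → Option {k // k ∈ L.toFinset} := fun x =>
      if h : (x : Equiv.Perm V6) = 1 then none
      else some ⟨g ⟨x, h⟩, List.mem_toFinset.2 (hcon _ ⟨(hg ⟨x, h⟩).1, x, x.2, (hg ⟨x, h⟩).2⟩)⟩
    have hinj : Function.Injective f := fun x y e => by
      simp only [f] at e
      split_ifs at e with h1 h2 h2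
      · exact Subtype.ext (h1.trans h2.symm)
      · have e' : g ⟨x, h1⟩ = g ⟨y, h2⟩ := congrArg Subtype.val (Option.some.inj e)
        exact Subtype.ext (Equiv.ext fun v => by rw [(hg ⟨x, h1⟩).2 v, (hg ⟨y, h2⟩).2 v, e'])
    have h := Nat.card_le_card_of_injective f hinj
    rw [Nat.card_eq_fintype_card (α := Option _), Fintype.card_option, Fintype.card_coe] at h
    have := L.toFinset_card_le
    omega
  have hlow : ∃ k, S k ∧ k < 56 := by
    obtain ⟨x, hx, hxA⟩ := SetLike.not_le_iff_exists.1 hne
    obtain ⟨k, hk, e⟩ := hidx x hx fun h => hxA (h ▸ one_mem _)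
    refine ⟨k, ⟨hk, x, hx, e⟩, ?_⟩
    by_contra h56
    obtain ⟨m, hm⟩ := high_in_A16 k hk (by omega)
    refine hxA ⟨m, Equiv.ext fun v => ?_⟩
    rw [aP_apply, e]
    exact (add_ext (gFn_add _) (gFn_add _) hm v).symm
  -- the four smallest independent members
  have ha : ∃ k, S k := ⟨_, hlow.choose_spec.1⟩
  have ha' := Nat.find_spec ha
  set a := Nat.find ha with haD
  have ha56 : a < 56 := (Nat.find_min' ha hlow.choose_spec.1).trans_lt hlow.choose_spec.2
  have hb := hout [a] (by simp)
  have hb' := Nat.find_spec hb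
  set b := Nat.find hb with hbD
  have hab : a < b := by
    have := Nat.find_min' ha hb'.1
    have : b ≠ a := fun e => hb'.2 (by simp [e])
    omega
  obtain ⟨cab, sab⟩ := hmul a b ha' hb'.1 hab
  have hc3 := hout [a, b, prI a b] (by simp)
  have hc' := Nat.find_spec hc3
  set c := Nat.find hc3 with hcD
  have hbc : b < c := by
    have h1 : c ∉ [a] := fun h => hc'.2 (by simp at h; simp [h])
    have := Nat.find_min' hb ⟨hc'.1, h1⟩
    have : c ≠ b := fun e => hc'.2 (by simp [e])
    omega
  obtain ⟨cac, sac⟩ := hmul a c ha' hc'.1 (by omega)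
  obtain ⟨cbc, sbc⟩ := hmul b c hb'.1 hc'.1 hbc
  have eab : prS a b = prI a b := if_pos hab
  have hc_ne : c ≠ prI a b := fun e => hc'.2 (by simp [e])
  have h7 : ∀ k ∈ span7 a b c, S k := by
    intro k hk
    simp only [span7, List.mem_cons, List.not_mem_nil, or_false] at hk
    rcases hk with rfl | rfl | rfl | rfl | rfl | rfl | rfl
    exacts [ha', hb'.1, hS _ _ ha' hb'.1 (by omega), hc'.1, hS _ _ ha' hc'.1 (by omega),
      hS _ _ hb'.1 hc'.1 (by omega), hS _ _ (eab ▸ sab) hc'.1 (eab ▸ hc_ne.symm)]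
  have hd4 := hout (span7 a b c) (by simp [span7])
  have hd' := Nat.find_spec hd4
  set d := Nat.find hd4 with hdD
  have hcd : c < d := by
    have h1 : d ∉ [a, b, prI a b] := fun h => hd'.2 (by
      rw [← eab] at h
      simp only [span7, List.mem_cons, List.not_mem_nil, or_false] at h ⊢
      tauto)
    have := Nat.find_min' hc3 ⟨hd'.1, h1⟩
    have : d ≠ c := fun e => hd'.2 (by simp [span7, e])
    omega
  obtain ⟨cad, -⟩ := hmul a d ha' hd'.1 (by omega)
  obtain ⟨cbd, -⟩ := hmul b d hb'.1 hd'.1 (by omega)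
  obtain ⟨ccd, -⟩ := hmul c d hc'.1 hd'.1 hcd
  have mb : minOK [a] b [prI a b] = true := by
    simp only [minOK, List.all_eq_true, Bool.or_eq_true, List.contains_eq_mem, decide_eq_true_eq, Nat.ble_eq]
    intro x hx
    rw [List.mem_singleton] at hx
    exact or_iff_not_imp_left.2 fun hn => Nat.find_min' hb ⟨hx ▸ sab, hn⟩
  have mc : minOK [a, b, prI a b] c [prS a c, prS b c, prS (prS a b) c] = true := by
    simp only [minOK, List.all_eq_true, Bool.or_eq_true, List.contains_eq_mem, decide_eq_true_eq, Nat.ble_eq]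
    intro x hx
    exact or_iff_not_imp_left.2 fun hn => Nat.find_min' hc3 ⟨h7 x (by
      simp only [span7, List.mem_cons, List.not_mem_nil, or_false] at hx ⊢; tauto), hn⟩
  have md : minOK (span7 a b c) d ((span7 a b c).map fun k => prS k d) = true := by
    simp only [minOK, List.all_eq_true, Bool.or_eq_true, List.contains_eq_mem, decide_eq_true_eq, Nat.ble_eq]
    intro x hx
    obtain ⟨k, hk, rfl⟩ := List.mem_map.1 hx
    exact or_iff_not_imp_left.2 fun hn =>
      Nat.find_min' hd4 ⟨hS _ _ (h7 k hk) hd'.1 fun e => hd'.2 (e ▸ hk), hn⟩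
  have hq : quadOK a b c d = true := by
    have h := search_ok
    simp only [searchOK, List.all_eq_true, List.mem_range, Bool.or_eq_true, Bool.not_eq_true', Bool.and_eq_false_imp,
      Bool.and_eq_true] at h
    rcases h a ha56 b hb'.1.1 with h1 | h1
    · exact absurd (h1 ⟨by simpa [Nat.blt_eq] using hab, cab⟩) (by simp [mb])
    rcases h1 c hc'.1.1 with h2 | h2
    · exact absurd (h2 ⟨⟨⟨by simpa [Nat.blt_eq] using hbc, cac⟩, cbc⟩, by rw [← Bool.not_eq_true, Nat.beq_eq]; exact hc_ne⟩) (by simp [mc])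
    rcases h2 d hd'.1.1 with h3 | h3
    · exact absurd (h3 ⟨⟨⟨⟨by simpa [Nat.blt_eq] using hcd, cad⟩, cbd⟩, ccd⟩, by simpa using hd'.2⟩) (by simp [md])
    exact h3
  simp only [quadOK, List.any_eq_true, List.all_eq_true, List.contains_eq_mem, decide_eq_true_eq] at hq
  obtain ⟨s, hs', hgens⟩ := hq
  obtain ⟨i, hi, rfl⟩ := List.getElem_of_mem hs'
  have hi38 : i < 38 := sub_data.1 ▸ hi
  refine sub_bound i hi38 F fun x hx j hj => ?_
  have hmem : subGen i j ∈ span15 a b c d := by
    refine hgens _ ?_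
    have hl : j < ((Syl.subs.getD i (0, [], [], [])).2.1).length := (sub_data.2 i hi38).1 ▸ hj
    rw [subGen, List.getD_eq_getElem _ _ hl, ← List.getD_eq_getElem _ (0, [], [], []) hi]
    exact List.getElem_mem hl
  have hSg : S (subGen i j) := by
    simp only [span15, List.mem_append, List.mem_cons, List.mem_map] at hmem
    rcases hmem with h | h | ⟨k, hk, h⟩
    · exact h7 _ h
    · exact h ▸ hd'.1
    · exact h ▸ hS _ _ (h7 _ hk) hd'.1 fun e => hd'.2 (e ▸ hk)
  obtain ⟨-, y, hy, ey⟩ := hSg
  rw [← ey]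
  exact hF x hx y hy

end CfsgLib.Spor.LargeFischer
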