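import Cfsg.Agent.Lib.Spor.LargeFischer.StabX
import Cfsg.Agent.Lib.Spor.LargeFischer.SylSearch

/-!
# The largest elementary abelian subgroup of a Sylow two-subgroup of the centralizer
-/

set_option autoImplicit false
set_option maxRecDepth 100000

namespace CfsgLib.Spor.LargeFischer

open Subgroup Matrix CfsgLib.Spor.U43Six CfsgLib.Spor.Fi22.U6

theorem dlift_fix : ∀ i : Fin 8, eM (14 + i.1) *ᵥ vB = vB := by decide +kernel

/-- The action of a lift. -/
noncomputable def dPerm (i : Fin 8) : Equiv.Perm (Fin 15) :=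
  actH ⟨lin (el ⟨14 + i.1, by omega⟩), el_GV _ (dlift_fix i)⟩

theorem dPerm_apply (i : Fin 8) (k : Fin 15) : dPerm i k = clsOf (eM (14 + i.1) *ᵥ cp k) := by
  show clsOf (lin (el _) (cp k)) = _
  rw [el_apply]

theorem d_table : (∀ i j : Fin 8, ∃ l : Fin 8, ∀ k,
      clsOf (eM (14 + i.1) *ᵥ cp (clsOf (eM (14 + j.1) *ᵥ cp k))) = clsOf (eM (14 + l.1) *ᵥ cp k)) ∧
    (∀ k, clsOf (eM 14 *ᵥ cp k) = k) ∧
    ∀ i j : Fin 8, (∀ k, clsOf (eM (14 + i.1) *ᵥ cp k) = clsOf (eM (14 + j.1) *ᵥ cp k)) → i = j := by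
  decide +kernel

/-- The eight permutations. -/
noncomputable def D15 : Subgroup (Equiv.Perm (Fin 15)) where
  carrier := Set.range dPerm
  one_mem' := ⟨0, Equiv.ext fun k => by rw [dPerm_apply]; exact d_table.2.1 k⟩
  mul_mem' := by
    rintro _ _ ⟨i, rfl⟩ ⟨j, rfl⟩
    obtain ⟨l, hl⟩ := d_table.1 i j
    exact ⟨l, Equiv.ext fun k => by
      rw [Equiv.Perm.mul_apply, dPerm_apply, dPerm_apply, dPerm_apply]; exact (hl k).symm⟩
  inv_mem' := by
    intro x hx
    have hp : ∀ n : ℕ, x ^ n ∈ Set.range dPerm := by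
      intro n
      induction n with
      | zero => exact ⟨0, Equiv.ext fun k => by rw [dPerm_apply]; exact d_table.2.1 k⟩
      | succ n ih =>
        obtain ⟨i, hi⟩ := ih
        obtain ⟨j, rfl⟩ := hx
        obtain ⟨l, hl⟩ := d_table.1 i j
        exact ⟨l, Equiv.ext fun k => by
          rw [pow_succ, ← hi, Equiv.Perm.mul_apply, dPerm_apply, dPerm_apply, dPerm_apply]; exact (hl k).symm⟩
    have e : x⁻¹ = x ^ (orderOf x - 1) := inv_eq_of_mul_eq_one_right (by
      rw [← pow_succ', Nat.sub_add_cancel (orderOf_pos x), pow_orderOf_eq_one])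
    exact e ▸ hp _

theorem card_D15 : Nat.card D15 = 8 :=
  (Nat.card_range_of_injective (fun i j e => d_table.2.2 i j fun k => by
    have := DFunLike.congr_fun e k
    rwa [dPerm_apply, dPerm_apply] at this)).trans (Nat.card_fin 8)

/-- The number of a product. -/
def code5 (m : Fin 5 → Bool) : ℕ :=
  (if m 0 then 1 else 0) + (if m 1 then 2 else 0) + (if m 2 then 4 else 0) + (if m 3 then 8 else 0) +
    (if m 4 then 16 else 0)

theorem code5_ok : ∀ m : Fin 5 → Bool, code5 m < 32 ∧ ∀ j : Fin 5, (code5 m).testBit j.1 = m j := by decide +kernel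

theorem eP_of (m : Fin 5 → Bool) (i : Fin 8) : ∃ n < 256, eP n = prodP m * lin (el ⟨14 + i.1, by omega⟩) := by
  have hlt := (code5_ok m).1
  refine ⟨code5 m * 8 + i.1, by have := i.2; omega, ?_⟩
  have h1 : mOf (code5 m * 8 + i.1) = m := funext fun j => by
    show ((code5 m * 8 + i.1) / 8).testBit j.1 = m j
    rw [show (code5 m * 8 + i.1) / 8 = code5 m by have := i.2; omega]
    exact (code5_ok m).2 j
  have h2 : dIdx (code5 m * 8 + i.1) = ⟨14 + i.1, by omega⟩ := Fin.ext (by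
    show 14 + (code5 m * 8 + i.1) % 8 = 14 + i.1
    have := i.2; omega)
  rw [eP, h1, h2]

theorem a_in_P : ∀ m : Fin 16, gA m vB = vB ∧ ∃ i : Fin 8, ∀ k, clsOf (gA m (cp k)) = clsOf (eM (14 + i.1) *ᵥ cp k) := by
  decide +kernel

namespace Data

variable {G : Type*} [Group G] [Finite G] {z : G} {Q : Subgroup G} {vec : G → V6}
  {φ : ↥(centralizer ({z} : Set G)) →* Equiv.Perm V6} {o : Outer} (D : Data z Q vec φ o)
include D

omit [Finite G] in
theorem mem_comap_Q {c : ↥(centralizer ({z} : Set G))} : φ c = 1 ↔ (c : G) ∈ Q := D.kerφ c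

/-- An element of order three acting as a scalar. -/
theorem exists_X : ∃ X : ↥(centralizer ({z} : Set G)), X * X * X = 1 ∧ (∀ x, φ X x = Four.w • x) ∧
    ∀ q ∈ Q, q * (X : G) = X * q → q = 1 ∨ q = z := by
  obtain ⟨g, hg, hgw⟩ := exists_scalar (c := Four.w) (by decide)
  obtain ⟨c, hc⟩ := D.K1_le _ (lin_mem_KP.2 hg)
  have hc3 : φ (c * c * c) = 1 := Equiv.ext fun x => by
    rw [map_mul, map_mul, hc, Equiv.Perm.mul_apply, Equiv.Perm.mul_apply, hgw, hgw, hgw, smul_smul, smul_smul,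
      Equiv.Perm.one_apply]
    exact (congrArg (· • x) (show Four.w * Four.w * Four.w = 1 from rfl)).trans (one_smul _ x)
  have hQ4 : ∀ q ∈ Q, q ^ 4 = 1 := fun q hq => by
    rw [show (4 : ℕ) = 2 * 2 from rfl, pow_mul, pow_two q]
    rcases D.core.sq_eq q hq with e | e <;> rw [e]
    · exact one_pow 2
    · rw [pow_two]; exact D.zz
  have h12 : c ^ 12 = 1 := by
    apply Subtype.ext
    rw [show (12 : ℕ) = 3 * 4 from rfl, pow_mul, Subgroup.coe_pow, Subgroup.coe_one,
      show c ^ 3 = c * c * c from pow_three' c]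
    exact hQ4 _ ((D.kerφ _).1 hc3)
  refine ⟨c ^ 4, by rw [← pow_add, ← pow_add]; exact h12, fun x => ?_, fun q hq hqX => ?_⟩
  · rw [show c ^ 4 = c * c * c * c from by rw [pow_succ, pow_three'], map_mul, hc3, one_mul, hc, hgw]
  · have hX : ∀ x, φ (c ^ 4) x = Four.w • x := fun x => by
      rw [show c ^ 4 = c * c * c * c from by rw [pow_succ, pow_three'], map_mul, hc3, one_mul, hc, hgw]
    refine (D.ker q hq).1 ?_
    have h := D.conj (c ^ 4) q hq
    rw [show ((c ^ 4 : ↥(centralizer ({z} : Set G))) : G) * q * ((c ^ 4 : ↥(centralizer ({z} : Set G))) : G)⁻¹ = q from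
      mul_inv_eq_iff_eq_mul.2 hqX.symm, hX] at h
    have h2 : (Four.w + 1) • vec q = 0 := by
      rw [add_smul, one_smul, ← h]
      exact funext fun r => CfsgLib.Spor.Fi22.U6.add_self _
    exact (smul_eq_zero.1 h2).resolve_left (by decide)

/-- Elements commuting with the scalar modulo `Q` can be corrected to commute with it. -/
theorem fix_X {X : ↥(centralizer ({z} : Set G))} (hX3 : X * X * X = 1) (hXw : ∀ x, φ X x = Four.w • x)
    (hXc : ∀ q ∈ Q, q * (X : G) = X * q → q = 1 ∨ q = z) {c : ↥(centralizer ({z} : Set G))}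
    (hc : φ c * φ X = φ X * φ c) :
    ∃ b : ↥(centralizer ({z} : Set G)), φ b = φ c ∧ (b : G) * X = X * b := by
  classical
  have hXz : (X : G) * z = z * X := mem_centralizer_singleton_iff.1 X.2
  have hX3' : (X : G) * X * X = 1 := congrArg Subtype.val hX3
  let img : Set G := (fun q => q * (X : G) * q⁻¹ * (X : G)⁻¹) '' (Q : Set G)
  let T : Set G := {u | u ∈ Q ∧ (u * X) * (u * X) * (u * (X : G)) = 1}
  have hsub : img ⊆ T := by
    rintro _ ⟨q, hq, rfl⟩
    refine ⟨?_, ?_⟩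
    · show q * (X : G) * q⁻¹ * (X : G)⁻¹ ∈ Q
      rw [show q * (X : G) * q⁻¹ * (X : G)⁻¹ = q * ((X : G) * q⁻¹ * (X : G)⁻¹) by group]
      exact Subgroup.mul_mem Q hq (D.core.norm _ hXz _ (Subgroup.inv_mem Q hq))
    · show q * (X : G) * q⁻¹ * (X : G)⁻¹ * X * (q * (X : G) * q⁻¹ * (X : G)⁻¹ * X) *
        (q * (X : G) * q⁻¹ * (X : G)⁻¹ * X) = 1
      calc _ = q * ((X : G) * X * X) * q⁻¹ := by group
        _ = 1 := by rw [hX3']; group
  have h1 : 2 * Nat.card T ≤ Nat.card Q := by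
    let f : T × Fin 2 → Q := fun p => ⟨p.1.1 * (if p.2 = 0 then 1 else z), Subgroup.mul_mem Q p.1.2.1 (by
      split <;> [exact one_mem _; exact D.core.mem])⟩
    have hbad : ∀ u, u ∈ T → u * z ∉ T := fun u hu hu' => by
      refine D.z_ne ?_
      have e : u * z * (X : G) * (u * z * X) * (u * z * X) = 1 := hu'.2
      have hu2 : u * (X : G) * (u * X) * (u * X) = 1 := hu.2
      have huz : ∀ a : G, a ∈ centralizer ({z} : Set G) → z * a = a * z := fun a ha =>
        (mem_centralizer_singleton_iff.1 ha).symm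
      have hu1 : u * (X : G) ∈ centralizer ({z} : Set G) := mul_mem (D.core.le hu.1) X.2
      rw [show u * z * (X : G) = u * (X : G) * z by rw [mul_assoc, ← hXz, ← mul_assoc]] at e
      generalize u * (X : G) = a at e hu1 hu2
      calc z = (a * a * a) * (z * z * z) := by rw [hu2, one_mul, D.zz, one_mul]
        _ = a * z * (a * z) * (a * z) := by
          have hz2 := huz a hu1
          calc a * a * a * (z * z * z) = a * a * (a * z) * z * z := by group
            _ = a * a * (z * a) * z * z := by rw [hz2]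
            _ = a * (a * z) * (a * z) * z := by group
            _ = a * (z * a) * (a * z) * z := by rw [hz2]
            _ = (a * z) * a * (a * z) * z := by group
            _ = (a * z) * a * (z * a) * z := by rw [hz2]
            _ = _ := by group
        _ = 1 := e
    have hf : Function.Injective f := by
      rintro ⟨u, i⟩ ⟨v, j⟩ e
      have e' : u.1 * (if i = 0 then 1 else z) = v.1 * (if j = 0 then 1 else z) := congrArg Subtype.val e
      by_cases hi : i = 0 <;> by_cases hj : j = 0 <;> simp only [hi, hj, if_true, if_false, mul_one] at e'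
      · exact Prod.ext (Subtype.ext e') (hi.trans hj.symm)
      · exact absurd (e' ▸ u.2) (hbad _ v.2)
      · exact absurd (e'.symm ▸ v.2) (hbad _ u.2)
      · exact Prod.ext (Subtype.ext (mul_right_cancel e'))
          ((Fin.eq_one_of_ne_zero i hi).trans (Fin.eq_one_of_ne_zero j hj).symm)
    have := Nat.card_le_card_of_injective f hf
    rw [Nat.card_prod, Nat.card_fin] at this
    omega
  have h2 : Nat.card Q ≤ 2 * Nat.card img := by
    choose rep hrep using fun u : img => u.2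
    let ψ : Q → img := fun q => ⟨_, q.1, q.2, rfl⟩
    have key : ∀ q : Q, rep (ψ q) = q.1 ∨ rep (ψ q) = q.1 * z := by
      intro q
      have h := (hrep (ψ q)).2
      have hm : q.1⁻¹ * rep (ψ q) ∈ Q := Subgroup.mul_mem Q (Subgroup.inv_mem Q q.2) (hrep (ψ q)).1
      have h' : rep (ψ q) * (X : G) * (rep (ψ q))⁻¹ = q.1 * (X : G) * q.1⁻¹ := mul_right_cancel h
      have hcm : q.1⁻¹ * rep (ψ q) * (X : G) = (X : G) * (q.1⁻¹ * rep (ψ q)) := by
        calc q.1⁻¹ * rep (ψ q) * (X : G) = q.1⁻¹ * (rep (ψ q) * (X : G) * (rep (ψ q))⁻¹) * rep (ψ q) := by group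
          _ = _ := by rw [h']; group
      rcases hXc _ hm hcm with e | e
      · exact Or.inl (inv_mul_eq_one.1 e).symm
      · exact Or.inr (eq_mul_of_inv_mul_eq e)
    let f : Q → img × Fin 2 := fun q => (ψ q, if rep (ψ q) = q.1 then 0 else 1)
    have hf : Function.Injective f := fun a b e => by
      have e1 : ψ a = ψ b := congrArg Prod.fst e
      have e2 := congrArg Prod.snd e
      simp only [f] at e2
      rw [e1] at e2
      have ka := key a
      have kb := key b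
      rw [e1] at ka
      by_cases ha : rep (ψ b) = a.1
      · by_cases hb : rep (ψ b) = b.1
        · exact Subtype.ext (ha.symm.trans hb)
        · rw [if_pos ha, if_neg hb] at e2
          exact absurd e2 (by decide)
      · by_cases hb : rep (ψ b) = b.1
        · rw [if_neg ha, if_pos hb] at e2
          exact absurd e2 (by decide)
        · exact Subtype.ext (mul_right_cancel ((ka.resolve_left ha).symm.trans (kb.resolve_left hb)))
    have := Nat.card_le_card_of_injective f hf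
    rw [Nat.card_prod, Nat.card_fin] at this
    omega
  have heq : img = T := Set.eq_of_subset_of_ncard_le hsub (by
    rw [← Nat.card_coe_set_eq, ← Nat.card_coe_set_eq]; omega) (Set.toFinite _)
  have hu : (c : G) * X * (c : G)⁻¹ * (X : G)⁻¹ ∈ T := by
    refine ⟨(D.kerφ (c * X * c⁻¹ * X⁻¹)).1 ?_, ?_⟩
    · rw [map_mul, map_mul, map_mul, map_inv, map_inv, hc, mul_inv_cancel_right, mul_inv_cancel]
    · calc _ = (c : G) * ((X : G) * X * X) * (c : G)⁻¹ := by group
        _ = 1 := by rw [hX3']; group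
  rw [← heq] at hu
  obtain ⟨q, hq, e⟩ := hu
  refine ⟨⟨q, D.core.le hq⟩⁻¹ * c, by rw [map_mul, map_inv, (D.kerφ _).2 hq, inv_one, one_mul], ?_⟩
  have e' : q * (X : G) * q⁻¹ = (c : G) * X * (c : G)⁻¹ := mul_right_cancel e
  show q⁻¹ * (c : G) * X = X * (q⁻¹ * c)
  calc q⁻¹ * (c : G) * X = q⁻¹ * ((c : G) * X * (c : G)⁻¹) * c := by group
    _ = _ := by rw [← e']; group

theorem A16_range : A16 ≤ φ.range := fun f hf => by
  obtain ⟨c, hc⟩ := D.K1_le f (A16_KP hf)
  exact ⟨c, hc⟩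

/-- Lifts commuting with the scalar are involutions. -/
theorem lift_sq {X : ↥(centralizer ({z} : Set G))} (hX3 : X * X * X = 1) (hXw : ∀ x, φ X x = Four.w • x)
    (hXc : ∀ q ∈ Q, q * (X : G) = X * q → q = 1 ∨ q = z) {b : ↥(centralizer ({z} : Set G))}
    (hb : (b : G) * X = X * b) (hbA : φ b ∈ A16) : (b : G) * b = 1 := by
  have hlinw : ∀ f ∈ KP, f * φ X = φ X * f := by
    rintro _ ⟨g, -, rfl⟩
    exact Equiv.ext fun x => by
      rw [Equiv.Perm.mul_apply, Equiv.Perm.mul_apply, hXw, hXw, lin_apply, lin_apply, mulVec_smul]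
  have hex : ∀ f ∈ KP, ∃ c : ↥(centralizer ({z} : Set G)), φ c = f ∧ (c : G) * X = X * c := fun f hf => by
    obtain ⟨c, hc⟩ := D.K1_le f hf
    obtain ⟨d, hd, hdX⟩ := D.fix_X hX3 hXw hXc (c := c) (hc ▸ hlinw f hf)
    exact ⟨d, hd.trans hc, hdX⟩
  have hsq : ∀ c : ↥(centralizer ({z} : Set G)), (c : G) * X = X * c → φ (c * c) = 1 →
      (c : G) * c = 1 ∨ (c : G) * c = z := fun c hc h1 => hXc _ ((D.kerφ _).1 h1) (by
    rw [mul_assoc, hc, ← mul_assoc, hc, mul_assoc])
  have hzc : ∀ c : ↥(centralizer ({z} : Set G)), (c : G) * z = z * c := fun c =>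
    mem_centralizer_singleton_iff.1 c.2
  have huniq : ∀ c d : ↥(centralizer ({z} : Set G)), (c : G) * X = X * c → (d : G) * X = X * d → φ c = φ d →
      (c : G) * c = d * d := by
    intro c d hc hd e
    have h1 : (c : G) * (d : G)⁻¹ ∈ Q := (D.kerφ (c * d⁻¹)).1 (by rw [map_mul, map_inv, e, mul_inv_cancel])
    have hd' : (d : G)⁻¹ * X = X * (d : G)⁻¹ := (Commute.inv_left (show Commute (d : G) X from hd))
    rcases hXc _ h1 (by rw [mul_assoc, hd', ← mul_assoc, hc, mul_assoc]) with h | h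
    · rw [mul_inv_eq_one.1 h]
    · rw [mul_inv_eq_iff_eq_mul.1 h]
      calc z * (d : G) * (z * d) = z * ((d : G) * z) * d := by group
        _ = z * (z * d) * d := by rw [hzc d]
        _ = (z * z) * ((d : G) * d) := by group
        _ = _ := by rw [D.zz, one_mul]
  let p : Fin 16 → Prop := fun m =>
    ∃ c : ↥(centralizer ({z} : Set G)), (c : G) * X = X * c ∧ φ c = aP m ∧ (c : G) * c = 1
  have hp : ∀ (j : Fin 6) (m n : Fin 16), lin (aEl j) * aP m = aP n * lin (aEl j) → (p m ↔ p n) := by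
    intro j m n e
    obtain ⟨h, hh, hhX⟩ := hex _ (lin_mem_KP.2 (aEl_mem j))
    have hcm : ∀ a : G, a * X = X * a → a⁻¹ * X = X * a⁻¹ := fun a ha =>
      Commute.inv_left (show Commute a X from ha)
    constructor
    · rintro ⟨c, hcX, hc, hcc⟩
      refine ⟨h * c * h⁻¹, ?_, ?_, ?_⟩
      · show (h : G) * c * (h : G)⁻¹ * X = X * ((h : G) * c * (h : G)⁻¹)
        rw [mul_assoc, hcm _ hhX, ← mul_assoc, mul_assoc (h : G) (c : G), hcX, ← mul_assoc, hhX]; group
      · rw [map_mul, map_mul, map_inv, hh, hc, e, mul_inv_cancel_right]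
      · show (h : G) * c * (h : G)⁻¹ * ((h : G) * c * (h : G)⁻¹) = 1
        rw [show (h : G) * c * (h : G)⁻¹ * ((h : G) * c * (h : G)⁻¹) = (h : G) * ((c : G) * c) * (h : G)⁻¹ by group,
          hcc]
        group
    · rintro ⟨c, hcX, hc, hcc⟩
      refine ⟨h⁻¹ * c * h, ?_, ?_, ?_⟩
      · show (h : G)⁻¹ * c * h * X = X * ((h : G)⁻¹ * c * h)
        rw [mul_assoc, hhX, ← mul_assoc, mul_assoc (h : G)⁻¹ (c : G), hcX, ← mul_assoc, hcm _ hhX]; group
      · rw [map_mul, map_mul, map_inv, hh, hc, mul_assoc, ← e, inv_mul_cancel_left]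
      · show (h : G)⁻¹ * c * h * ((h : G)⁻¹ * c * h) = 1
        rw [show (h : G)⁻¹ * c * h * ((h : G)⁻¹ * c * h) = (h : G)⁻¹ * ((c : G) * c) * h by group, hcc]
        group
  have hlift : ∀ m : Fin 16, ∃ c : ↥(centralizer ({z} : Set G)), φ c = aP m ∧ (c : G) * X = X * c :=
    fun m => hex _ (A16_KP ⟨m, rfl⟩)
  have hall : ∀ m, m ≠ 0 → p m := by
    by_contra hcon
    push Not at hcon
    obtain ⟨m0, hm0, hno⟩ := hcon
    have hz : ∀ m, m ≠ 0 → ∀ c : ↥(centralizer ({z} : Set G)), φ c = aP m → (c : G) * X = X * c →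
        (c : G) * c = z := fun m hm c hc hcX =>
      (hsq c hcX (by rw [map_mul, hc, aP_sq])).resolve_left fun h1 =>
        hno (a_constant p hp m m0 hm hm0 ⟨c, hcX, hc, h1⟩)
    obtain ⟨A, hA, hAX⟩ := hlift 1
    obtain ⟨B, hB, hBX⟩ := hlift 2
    obtain ⟨E, hE, hEX⟩ := hlift 4
    have hmulX : ∀ c d : ↥(centralizer ({z} : Set G)), (c : G) * X = X * c → (d : G) * X = X * d →
        ((c * d : ↥(centralizer ({z} : Set G))) : G) * X = X * ((c * d : ↥(centralizer ({z} : Set G))) : G) :=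
      fun c d hc hd => by rw [Subgroup.coe_mul, mul_assoc, hd, ← mul_assoc, hc, mul_assoc]
    have hAB := hz 3 (by decide) (A * B) (by rw [map_mul, hA, hB, aP_mul]; rfl) (hmulX _ _ hAX hBX)
    have hAE := hz 5 (by decide) (A * E) (by rw [map_mul, hA, hE, aP_mul]; rfl) (hmulX _ _ hAX hEX)
    have hBE := hz 6 (by decide) (B * E) (by rw [map_mul, hB, hE, aP_mul]; rfl) (hmulX _ _ hBX hEX)
    have hABE := hz 7 (by decide) (A * B * E) (by rw [map_mul, map_mul, hA, hB, hE, aP_mul, aP_mul]; rfl)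
      (hmulX _ _ (hmulX _ _ hAX hBX) hEX)
    have hA2 := hz 1 (by decide) A hA hAX
    have hB2 := hz 2 (by decide) B hB hBX
    have hE2 := hz 4 (by decide) E hE hEX
    have anti : ∀ a b : G, a * a = z → b * b = z → a * b * (a * b) = z → a * z = z * a → b * z = z * b →
        b * a = a * b * z := by
      intro a b ha hb hab hza hzb
      have e : a⁻¹ = a * z := inv_eq_of_mul_eq_one_right (by rw [← mul_assoc, ha, D.zz])
      have e' : b⁻¹ = b * z := inv_eq_of_mul_eq_one_right (by rw [← mul_assoc, hb, D.zz])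
      calc b * a = a⁻¹ * (a * b * (a * b)) * b⁻¹ := by group
        _ = a * z * z * (b * z) := by rw [hab, e, e']
        _ = a * b * z := by rw [mul_assoc a, D.zz, mul_one, ← mul_assoc]
    simp only [Subgroup.coe_mul] at hAB hAE hBE hABE
    have eEA := anti _ _ hA2 hE2 hAE (hzc A) (hzc E)
    have eEB := anti _ _ hB2 hE2 hBE (hzc B) (hzc E)
    refine D.z_ne ?_
    have hcomm : (E : G) * ((A : G) * B) = (A : G) * B * E := by
      calc (E : G) * ((A : G) * B) = (E : G) * A * B := by group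
        _ = (A : G) * E * (z * B) := by rw [eEA]; group
        _ = (A : G) * ((E : G) * B) * z := by rw [← hzc B]; group
        _ = (A : G) * B * E * (z * z) := by rw [eEB]; group
        _ = _ := by rw [D.zz, mul_one]
    calc z = (A : G) * B * E * ((A : G) * B * E) := hABE.symm
      _ = (A : G) * B * ((E : G) * ((A : G) * B)) * E := by group
      _ = ((A : G) * B * ((A : G) * B)) * ((E : G) * E) := by rw [hcomm]; group
      _ = 1 := by rw [hAB, hE2, D.zz]
  obtain ⟨m, hm⟩ := hbA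
  by_cases hm0 : m = 0
  · rw [huniq b 1 hb (by simp) (by rw [← hm, hm0, aP_zero, map_one]), Subgroup.coe_one, one_mul]
  · obtain ⟨c, hcX, hc, hcc⟩ := hall m hm0
    rw [huniq b c hb hcX (hm.symm.trans hc.symm), hcc]

end Data

/-- The preimage of the fixed space. -/
def wtSet {G : Type*} [Group G] (Q : Subgroup G) (vec : G → V6) : Set G := {q | q ∈ Q ∧ InW (vec q)}

namespace Data

variable {G : Type*} [Group G] [Finite G] {z : G} {Q : Subgroup G} {vec : G → V6}
  {φ : ↥(centralizer ({z} : Set G)) →* Equiv.Perm V6} {o : Outer} (D : Data z Q vec φ o)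
include D

theorem inW_add {x y : V6} (hx : InW x) (hy : InW y) : InW (x + y) := inW_iff.2 fun f hf => by
  obtain ⟨m, rfl⟩ := hf
  rw [(show ∀ a b, aP m (a + b) = aP m a + aP m b from (eP_good _).add), inW_iff.1 hx _ ⟨m, rfl⟩, inW_iff.1 hy _ ⟨m, rfl⟩]

theorem wt_mul {a b : G} (ha : a ∈ wtSet Q vec) (hb : b ∈ wtSet Q vec) : a * b ∈ wtSet Q vec :=
  ⟨Subgroup.mul_mem Q ha.1 hb.1, D.add a ha.1 b hb.1 ▸ D.inW_add ha.2 hb.2⟩

theorem wt_sq {a : G} (ha : a ∈ wtSet Q vec) : a * a = 1 := (D.sq a ha.1).1 (inW_hf ha.2 ha.2)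

theorem wt_comm {a b : G} (ha : a ∈ wtSet Q vec) (hb : b ∈ wtSet Q vec) : a * b = b * a :=
  (D.comm a ha.1 b hb.1).1 (by rw [inW_hf ha.2 hb.2]; rfl)

theorem wt_one : (1 : G) ∈ wtSet Q vec := ⟨one_mem Q, D.vec_one ▸ inW_iff.2 fun f hf => by
  obtain ⟨m, rfl⟩ := hf; exact (eP_good _).zero⟩

theorem wt_z : z ∈ wtSet Q vec := ⟨D.core.mem, D.vec_z ▸ inW_iff.2 fun f hf => by
  obtain ⟨m, rfl⟩ := hf; exact (eP_good _).zero⟩

theorem card_wt : Nat.card (wtSet Q vec) = 128 := by
  choose sec hsec hvec using D.surj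
  let f : {x : V6 // InW x} × Fin 2 → wtSet Q vec := fun p => ⟨sec p.1.1 * (if p.2 = 0 then 1 else z),
    D.wt_mul ⟨hsec _, (hvec p.1.1).symm ▸ p.1.2⟩ (by split <;> [exact D.wt_one; exact D.wt_z])⟩
  have hi : Function.Injective f := by
    rintro ⟨x, i⟩ ⟨y, j⟩ e
    have e' : sec x.1 * (if i = 0 then 1 else z) = sec y.1 * (if j = 0 then 1 else z) := congrArg Subtype.val e
    have hv := congrArg vec e'
    have h0 : ∀ i : Fin 2, (if i = 0 then 1 else z) ∈ Q ∧ vec (if i = 0 then 1 else z) = 0 := fun i => by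
      split
      exacts [⟨one_mem _, D.vec_one⟩, ⟨D.core.mem, D.vec_z⟩]
    rw [D.add _ (hsec _) _ (h0 i).1, D.add _ (hsec _) _ (h0 j).1, (h0 i).2, (h0 j).2, add_zero, add_zero, hvec,
      hvec] at hv
    rw [hv] at e'
    have e'' := mul_left_cancel e'
    refine Prod.ext (Subtype.ext hv) ?_
    by_cases hi : i = 0 <;> by_cases hj : j = 0 <;> simp only [hi, hj, if_true, if_false] at e''
    · exact hi.trans hj.symm
    · exact absurd e''.symm D.z_ne
    · exact absurd e'' D.z_ne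
    · exact (Fin.eq_one_of_ne_zero i hi).trans (Fin.eq_one_of_ne_zero j hj).symm
  have hs : Function.Surjective f := by
    rintro ⟨q, hq, hqW⟩
    rcases D.same_class (hsec (vec q)) hq (hvec _) with e | e
    · exact ⟨(⟨vec q, hqW⟩, 0), Subtype.ext (by simp [f, ← e])⟩
    · exact ⟨(⟨vec q, hqW⟩, 1), Subtype.ext (by simp [f, ← e])⟩
  rw [← Nat.card_eq_of_bijective f ⟨hi, hs⟩, Nat.card_prod, Nat.card_fin, card_W]

/-- The large elementary abelian subgroup. -/
theorem exists_large : ∃ A : Subgroup ↥(centralizer ({z} : Set G)), (∀ a ∈ A, φ a ∈ A16) ∧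
    (∀ f ∈ A16, ∃ a ∈ A, φ a = f) ∧ (∀ a ∈ A, a * a = 1) ∧ (∀ a ∈ A, ∀ b ∈ A, a * b = b * a) ∧
    (∀ q : ↥(centralizer ({z} : Set G)), (q : G) ∈ Q → (q ∈ A ↔ (q : G) ∈ wtSet Q vec)) := by
  obtain ⟨X, hX3, hXw, hXc⟩ := D.exists_X
  have hzX : (X : G) * z = z * X := mem_centralizer_singleton_iff.1 X.2
  have hcw : ∀ b : ↥(centralizer ({z} : Set G)), (b : G) * X = X * b → φ b ∈ A16 → ∀ w ∈ wtSet Q vec,
      (b : G) * w = w * b := by
    intro b hbX hbA w hw
    have hbz := mem_centralizer_singleton_iff.1 b.2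
    have hmove : ∀ u ∈ wtSet Q vec, (b : G) * u * (b : G)⁻¹ = u ∨ (b : G) * u * (b : G)⁻¹ = u * z := fun u hu =>
      D.same_class hu.1 (D.core.norm _ hbz u hu.1) (by rw [D.conj b u hu.1, inW_iff.1 hu.2 _ hbA])
    obtain ⟨u, hu, huv⟩ := D.surj (Four.w • vec w)
    have huW : u ∈ wtSet Q vec := ⟨hu, huv ▸ inW_smul hw.2⟩
    set u' := (X : G) * u * (X : G)⁻¹ with hu'
    have hu'Q : u' ∈ Q := D.core.norm _ hzX u hu
    have hu'v : vec u' = Four.w • Four.w • vec w := by rw [hu', D.conj X u hu, hXw, huv]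
    have hb' : (b : G) * u' * (b : G)⁻¹ = (X : G) * ((b : G) * u * (b : G)⁻¹) * (X : G)⁻¹ := by
      have h : Commute (b : G) X := hbX
      rw [hu', show (b : G) * ((X : G) * u * (X : G)⁻¹) * (b : G)⁻¹ = (b : G) * X * u * ((b : G) * X)⁻¹ by group,
        hbX]
      group
    have hv : vec (u * u') = vec w := by
      rw [D.add u hu u' hu'Q, huv, hu'v, smul_smul, ← add_smul]
      exact (congrArg (· • vec w) (show Four.w + Four.w * Four.w = 1 from rfl)).trans (one_smul _ _)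
    have hfix : (b : G) * (u * u') * (b : G)⁻¹ = u * u' := by
      rw [show (b : G) * (u * u') * (b : G)⁻¹ = ((b : G) * u * (b : G)⁻¹) * ((b : G) * u' * (b : G)⁻¹) by group, hb']
      rcases hmove u huW with e | e <;> rw [e]
      calc u * z * ((X : G) * (u * z) * (X : G)⁻¹) = u * z * ((X : G) * u * (z * (X : G)⁻¹)) := by group
        _ = u * z * ((X : G) * u * (X : G)⁻¹ * z) := by
          rw [← (Commute.inv_left (show Commute (X : G) z from hzX)).eq]; group
        _ = u * (z * u') * z := by rw [hu']; group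
        _ = u * (u' * z) * z := by rw [D.half.cz u' hu'Q]
        _ = u * u' * (z * z) := by group
        _ = _ := by rw [D.zz, mul_one]
    have hcomm : (b : G) * (u * u') = u * u' * b := mul_inv_eq_iff_eq_mul.1 hfix
    rcases D.same_class (Subgroup.mul_mem Q hu hu'Q) hw.1 hv with e | e <;> rw [e]
    · exact hcomm
    · rw [← mul_assoc, hcomm, mul_assoc _ (b : G) z, hbz, ← mul_assoc]
  have hmem : ∀ {b : ↥(centralizer ({z} : Set G))}, (b : G) * X = X * b → (b : G) ∈ Q →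
      (b : G) ∈ wtSet Q vec := fun {b} hbX hbQ => by
    rcases hXc _ hbQ hbX with e | e <;> rw [e]
    exacts [D.wt_one, D.wt_z]
  let A : Subgroup ↥(centralizer ({z} : Set G)) :=
    { carrier := {c | φ c ∈ A16 ∧ ∃ w ∈ wtSet Q vec, w⁻¹ * (c : G) * X = X * (w⁻¹ * c)}
      one_mem' := ⟨by rw [map_one]; exact one_mem _, 1, D.wt_one, by simp⟩
      mul_mem' := by
        rintro c d ⟨hc, w, hw, hwX⟩ ⟨hd, v, hv, hvX⟩
        refine ⟨by rw [map_mul]; exact mul_mem hc hd, w * v, D.wt_mul hw hv, ?_⟩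
        have hb : (⟨w, D.core.le hw.1⟩⁻¹ * c : ↥(centralizer ({z} : Set G))) = ⟨w, D.core.le hw.1⟩⁻¹ * c := rfl
        have hcomm := hcw (⟨w, D.core.le hw.1⟩⁻¹ * c) hwX
          (by rwa [map_mul, map_inv, (D.kerφ _).2 hw.1, inv_one, one_mul]) v hv
        have e : (w * v)⁻¹ * ((c : G) * d) = w⁻¹ * c * (v⁻¹ * d) := by
          have h : w⁻¹ * (c : G) * v = v * (w⁻¹ * c) := hcomm
          calc (w * v)⁻¹ * ((c : G) * d) = v⁻¹ * (w⁻¹ * (c : G) * v) * (v⁻¹ * d) := by group
            _ = _ := by rw [h]; group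
        show (w * v)⁻¹ * ((c : G) * d) * X = X * ((w * v)⁻¹ * ((c : G) * d))
        rw [e, mul_assoc, hvX, ← mul_assoc, hwX, mul_assoc]
      inv_mem' := by
        rintro c ⟨hc, w, hw, hwX⟩
        have hb := D.lift_sq hX3 hXw hXc (b := ⟨w, D.core.le hw.1⟩⁻¹ * c) hwX
          (by rwa [map_mul, map_inv, (D.kerφ _).2 hw.1, inv_one, one_mul])
        have hcomm : w⁻¹ * (c : G) * w = w * (w⁻¹ * c) := hcw (⟨w, D.core.le hw.1⟩⁻¹ * c) hwX
          (by rwa [map_mul, map_inv, (D.kerφ _).2 hw.1, inv_one, one_mul]) w hw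
        have hcc : (c : G) * c = 1 := by
          have hb' : w⁻¹ * (c : G) * (w⁻¹ * c) = 1 := hb
          calc (c : G) * c = w * (w⁻¹ * (c : G) * w) * (w⁻¹ * c) := by group
            _ = w * w * (w⁻¹ * (c : G) * (w⁻¹ * c)) := by rw [hcomm]; group
            _ = 1 := by rw [hb', D.wt_sq hw, one_mul]
        rw [show c⁻¹ = c from inv_eq_of_mul_eq_one_right (Subtype.ext hcc)]
        exact ⟨hc, w, hw, hwX⟩ }
  have hsq : ∀ a ∈ A, a * a = 1 := by
    intro a ha
    have h1 := A.inv_mem ha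
    obtain ⟨hc, w, hw, hwX⟩ := ha
    have hb := D.lift_sq hX3 hXw hXc (b := ⟨w, D.core.le hw.1⟩⁻¹ * a) hwX
      (by rwa [map_mul, map_inv, (D.kerφ _).2 hw.1, inv_one, one_mul])
    have hcomm : w⁻¹ * (a : G) * w = w * (w⁻¹ * a) := hcw (⟨w, D.core.le hw.1⟩⁻¹ * a) hwX
      (by rwa [map_mul, map_inv, (D.kerφ _).2 hw.1, inv_one, one_mul]) w hw
    have hb' : w⁻¹ * (a : G) * (w⁻¹ * a) = 1 := hb
    refine Subtype.ext ?_
    show (a : G) * a = 1
    calc (a : G) * a = w * (w⁻¹ * (a : G) * w) * (w⁻¹ * a) := by group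
      _ = w * w * (w⁻¹ * (a : G) * (w⁻¹ * a)) := by rw [hcomm]; group
      _ = 1 := by rw [hb', D.wt_sq hw, one_mul]
  refine ⟨A, fun a ha => ha.1, fun f hf => ?_, hsq, fun a ha b hb => ?_, fun q hq => ⟨?_, fun h => ?_⟩⟩
  · obtain ⟨c, hc⟩ := D.K1_le f (A16_KP hf)
    obtain ⟨g, -, rfl⟩ := A16_KP hf
    obtain ⟨b, hb, hbX⟩ := D.fix_X hX3 hXw hXc (c := c) (by
      rw [hc]
      exact Equiv.ext fun x => by
        rw [Equiv.Perm.mul_apply, Equiv.Perm.mul_apply, hXw, hXw, lin_apply, lin_apply, mulVec_smul])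
    exact ⟨b, ⟨by rw [hb, hc]; exact hf, 1, D.wt_one, by simpa using hbX⟩, hb.trans hc⟩
  · have hab := hsq _ (A.mul_mem ha hb)
    calc a * b = a * (a * b * (a * b)) * b := by rw [hab, mul_one]
      _ = (a * a) * (b * a) * (b * b) := by group
      _ = b * a := by rw [hsq a ha, hsq b hb, one_mul, mul_one]
  · rintro ⟨-, w, hw, hwX⟩
    have := hmem (b := ⟨w, D.core.le hw.1⟩⁻¹ * q) hwX (Subgroup.mul_mem Q (Subgroup.inv_mem Q hw.1) hq)
    have h2 := D.wt_mul hw this
    rwa [show w * ((⟨w, D.core.le hw.1⟩⁻¹ * q : ↥(centralizer ({z} : Set G))) : G) = q from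
      mul_inv_cancel_left w q] at h2
  · exact ⟨by rw [(D.kerφ q).2 hq]; exact one_mem _, (q : G), h, by simp⟩

/-- Elementary abelian subgroups over the model. -/
theorem unique_large {A : Subgroup ↥(centralizer ({z} : Set G))}
    (hA : (∀ a ∈ A, φ a ∈ A16) ∧ (∀ f ∈ A16, ∃ a ∈ A, φ a = f) ∧ (∀ a ∈ A, a * a = 1) ∧
      (∀ a ∈ A, ∀ b ∈ A, a * b = b * a) ∧
      ∀ q : ↥(centralizer ({z} : Set G)), (q : G) ∈ Q → (q ∈ A ↔ (q : G) ∈ wtSet Q vec))
    (B : Subgroup ↥(centralizer ({z} : Set G))) (hP : ∀ b ∈ B, ∃ n < 256, φ b = eP n)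
    (hc : ∀ a ∈ B, ∀ b ∈ B, a * b = b * a) (hs : ∀ a ∈ B, a * a = 1) (hcard : 2 ^ 11 ≤ Nat.card B) : B = A := by
  classical
  haveI : Finite ↥(centralizer ({z} : Set G)) := inferInstance
  let f := φ.comp B.subtype
  set I := f.range with hI
  let Kc : Subgroup G := Q ⊓ B.map (centralizer ({z} : Set G)).subtype
  have hk : Nat.card f.ker = Nat.card Kc := Nat.card_congr
    { toFun := fun x => ⟨((x : B) : ↥(centralizer ({z} : Set G))), (D.kerφ _).1 x.2, _, x.1.2, rfl⟩
      invFun := fun x => ⟨⟨⟨x.1, D.core.le x.2.1⟩, by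
        obtain ⟨b, hb, e⟩ := x.2.2
        rwa [show (⟨x.1, D.core.le x.2.1⟩ : ↥(centralizer ({z} : Set G))) = b from Subtype.ext e.symm]⟩,
        (D.kerφ _).2 x.2.1⟩
      left_inv := fun x => rfl
      right_inv := fun x => rfl }
  have hmul : Nat.card I * Nat.card Kc = Nat.card B := by
    rw [← hk, hI, ← Nat.card_congr (QuotientGroup.quotientKerEquivRange f).toEquiv]
    exact (Subgroup.card_eq_card_quotient_mul_card_subgroup f.ker).symm
  have hIp : ∀ x ∈ I, ∃ n < 256, x = eP n := by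
    rintro _ ⟨b, rfl⟩
    exact hP b b.2
  have hIc : ∀ x ∈ I, ∀ y ∈ I, x * y = y * x := by
    rintro _ ⟨a, rfl⟩ _ ⟨b, rfl⟩
    show φ a * φ b = φ b * φ a
    rw [← map_mul, ← map_mul, hc _ a.2 _ b.2]
  have hIs : ∀ x ∈ I, x * x = 1 := by
    rintro _ ⟨a, rfl⟩
    show φ a * φ a = 1
    rw [← map_mul, hs _ a.2, map_one]
  have hI72 : Nat.card I ≤ 72 := by
    obtain ⟨hinv, hlen, -⟩ := inv_data
    let g : I → Option {n // n ∈ Syl.invs.toFinset} := fun x =>
      if h : ∃ n, n ∈ Syl.invs ∧ x.1 = eP n then some ⟨h.choose, List.mem_toFinset.2 h.choose_spec.1⟩ else none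
    have hg1 : ∀ x : I, (¬ ∃ n, n ∈ Syl.invs ∧ x.1 = eP n) → x.1 = 1 := by
      intro x hx
      obtain ⟨n, hn, e⟩ := hIp _ x.2
      rcases hinv n hn with rfl | h | h
      · rw [e]
        exact (eP_good 0).ext good_one fun t => by rw [eP_apply hn]; exact gFn_zero t
      · exact absurd ⟨n, h, e⟩ hx
      · refine absurd ?_ h
        rw [← eP_apply hn, ← eP_apply hn, ← Equiv.Perm.mul_apply, ← e, hIs _ x.2]
        rfl
    have hg : Function.Injective g := by
      intro x y e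
      simp only [g] at e
      split_ifs at e with h1 h2 h2
      · exact Subtype.ext (by
          rw [h1.choose_spec.2, h2.choose_spec.2]
          exact congrArg eP (congrArg Subtype.val (Option.some.inj e)))
      · exact Subtype.ext ((hg1 x h1).trans (hg1 y h2).symm)
    have h := Nat.card_le_card_of_injective g hg
    rw [Nat.card_eq_fintype_card (α := Option _), Fintype.card_option, Fintype.card_coe] at h
    have := Syl.invs.toFinset_card_le
    omega
  have hK7 : Nat.card Kc ≤ 2 ^ 7 := D.abelian_le Kc inf_le_left (by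
    rintro _ ⟨-, a, ha, rfl⟩ _ ⟨-, b, hb, rfl⟩
    exact congrArg Subtype.val (hc a ha b hb))
  have hI16 : 16 ≤ Nat.card I := by
    by_contra h
    have := Nat.mul_le_mul (show Nat.card I ≤ 15 by omega) hK7
    omega
  have hfixed : ∀ q ∈ Kc, ∀ x ∈ I, x (vec q) = vec q := by
    rintro _ ⟨hq, b, hb, rfl⟩ _ ⟨a, rfl⟩
    show φ a (vec (b : G)) = vec (b : G)
    rw [← D.conj a (b : G) hq, show (a : G) * (b : G) * (a : G)⁻¹ = (b : G) from
      mul_inv_eq_iff_eq_mul.2 (congrArg Subtype.val (hc _ a.2 b hb))]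
  have hIA : I ≤ A16 := by
    by_contra hne
    have h8 := small_fix hIp hIc hIs hI16 hne {x | ∀ f ∈ I, f x = x} fun x hx => hx
    let g : Kc → {x : V6 | ∀ f ∈ I, f x = x} × Fin 2 := fun q =>
      (⟨vec q.1, hfixed q.1 q.2⟩, if q.1 = Classical.choose (D.surj (vec q.1)) then 0 else 1)
    have hg : Function.Injective g := by
      intro p q e
      have e1 : vec p.1 = vec q.1 := congrArg (fun t => (t.1 : V6)) e
      have e2 := congrArg Prod.snd e
      simp only [g] at e2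
      rw [e1] at e2
      obtain ⟨hr, hrv⟩ := Classical.choose_spec (D.surj (vec q.1))
      generalize Classical.choose (D.surj (vec q.1)) = r at e2 hr hrv
      rcases D.same_class hr p.2.1 (hrv.trans e1.symm) with a | a <;>
        rcases D.same_class hr q.2.1 hrv with b | b
      · exact Subtype.ext (a.trans b.symm)
      · rw [if_pos a, if_neg fun h => D.z_ne (mul_eq_left.1 (b.symm.trans h))] at e2
        exact absurd e2 (by decide)
      · rw [if_neg fun h => D.z_ne (mul_eq_left.1 (a.symm.trans h)), if_pos b] at e2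
        exact absurd e2 (by decide)
      · exact Subtype.ext (a.trans b.symm)
    have h := Nat.card_le_card_of_injective g hg
    rw [Nat.card_prod, Nat.card_fin] at h
    have := Nat.mul_le_mul hI72 (show Nat.card Kc ≤ 16 by omega)
    omega
  have hI' : I = A16 := Subgroup.eq_of_le_of_card_ge hIA (by rw [card_A16]; exact hI16)
  rw [hI', card_A16] at hmul
  have hKsub : (Kc : Set G) ⊆ wtSet Q vec := fun q hq =>
    ⟨hq.1, inW_iff.2 (hI' ▸ hfixed q hq)⟩
  have hKeq : (Kc : Set G) = wtSet Q vec := Set.eq_of_subset_of_ncard_le hKsub (by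
    rw [← Nat.card_coe_set_eq, ← Nat.card_coe_set_eq, D.card_wt]
    show 128 ≤ Nat.card Kc
    omega) (Set.toFinite _)
  have hBA : B ≤ A := by
    intro b hb
    obtain ⟨a, ha, hab⟩ := hA.2.1 (φ b) (hI' ▸ ⟨⟨b, hb⟩, rfl⟩)
    have hq : ((a⁻¹ * b : ↥(centralizer ({z} : Set G))) : G) ∈ Q := (D.kerφ _).1 (by
      rw [map_mul, map_inv, hab, inv_mul_cancel])
    have hq2 : a⁻¹ * b ∈ A := by
      refine (hA.2.2.2.2 _ hq).2 ⟨hq, ?_⟩
      rw [← dec_enc (vec _)]
      show enc (dec (enc _)) ∈ Syl.wCodes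
      rw [dec_enc]
      refine w_perp _ (enc_lt _) fun m hm => ?_
      obtain ⟨t, ht, htv⟩ := D.surj (dec m)
      have htW : t ∈ wtSet Q vec := ⟨ht, htv ▸ (show enc (dec m) ∈ Syl.wCodes by rw [(w_codes.1 m hm).1]; exact hm)⟩
      rw [dec_enc, ← htv]
      refine (D.comm _ hq t ht).2 ?_
      obtain ⟨-, b', hb', hbt⟩ : t ∈ Kc := by
        rw [← SetLike.mem_coe, hKeq]; exact htW
      have h1 : (b : G) * t = t * b := hbt ▸ congrArg Subtype.val (hc b hb b' hb')
      have hta : (⟨t, D.core.le ht⟩ : ↥(centralizer ({z} : Set G))) ∈ A := (hA.2.2.2.2 _ ht).2 htW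
      have h2 : (a : G)⁻¹ * t = t * (a : G)⁻¹ :=
        congrArg Subtype.val (hA.2.2.2.1 _ (A.inv_mem ha) _ hta)
      show (a : G)⁻¹ * b * t = t * ((a : G)⁻¹ * b)
      rw [mul_assoc, h1, ← mul_assoc, h2, mul_assoc]
    have := A.mul_mem ha hq2
    rwa [mul_inv_cancel_left] at this
  refine Subgroup.eq_of_le_of_card_ge hBA ?_
  let g := φ.comp A.subtype
  have hgr : g.range = A16 := by
    ext x
    exact ⟨fun ⟨a, e⟩ => e ▸ hA.1 a a.2, fun hx => by obtain ⟨a, ha, e⟩ := hA.2.1 x hx; exact ⟨⟨a, ha⟩, e⟩⟩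
  have hgk : Nat.card g.ker ≤ 128 := by
    rw [← D.card_wt]
    exact Nat.card_le_card_of_injective
      (fun x => ⟨((x : A) : ↥(centralizer ({z} : Set G))), (hA.2.2.2.2 _ ((D.kerφ _).1 x.2)).1 x.1.2⟩)
      fun x y e => Subtype.ext (Subtype.ext (Subtype.ext (congrArg (fun t : wtSet Q vec => (t : G)) e)))
  have hcardA := Subgroup.card_eq_card_quotient_mul_card_subgroup g.ker
  rw [Nat.card_congr (QuotientGroup.quotientKerEquivRange g).toEquiv, hgr, card_A16] at hcardA
  omega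

theorem card_large {A : Subgroup ↥(centralizer ({z} : Set G))}
    (hA : (∀ a ∈ A, φ a ∈ A16) ∧ (∀ f ∈ A16, ∃ a ∈ A, φ a = f) ∧ (∀ a ∈ A, a * a = 1) ∧
      (∀ a ∈ A, ∀ b ∈ A, a * b = b * a) ∧
      ∀ q : ↥(centralizer ({z} : Set G)), (q : G) ∈ Q → (q ∈ A ↔ (q : G) ∈ wtSet Q vec)) :
    Nat.card A = 2 ^ 11 ∧ Nat.card ↥(A ⊓ Q.subgroupOf (centralizer ({z} : Set G))) = 2 ^ 7 := by
  have hW : Nat.card ↥(A ⊓ Q.subgroupOf (centralizer ({z} : Set G))) = 128 := by
    rw [← D.card_wt]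
    exact Nat.card_congr
      { toFun := fun x => ⟨(x : ↥(centralizer ({z} : Set G))), (hA.2.2.2.2 _ x.2.2).1 x.2.1⟩
        invFun := fun x => ⟨⟨x.1, D.core.le x.2.1⟩, (hA.2.2.2.2 _ x.2.1).2 x.2, x.2.1⟩
        left_inv := fun x => rfl
        right_inv := fun x => rfl }
  let g := φ.comp A.subtype
  have hgr : g.range = A16 := by
    ext x
    exact ⟨fun ⟨a, e⟩ => e ▸ hA.1 a a.2, fun hx => by obtain ⟨a, ha, e⟩ := hA.2.1 x hx; exact ⟨⟨a, ha⟩, e⟩⟩
  have hgk : Nat.card g.ker = 128 := by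
    rw [← hW]
    exact Nat.card_congr
      { toFun := fun x => ⟨(x : A), x.1.2, (D.kerφ _).1 x.2⟩
        invFun := fun x => ⟨⟨x.1, x.2.1⟩, (D.kerφ _).2 x.2.2⟩
        left_inv := fun x => rfl
        right_inv := fun x => rfl }
  have hcardA := Subgroup.card_eq_card_quotient_mul_card_subgroup g.ker
  rw [Nat.card_congr (QuotientGroup.quotientKerEquivRange g).toEquiv, hgr, card_A16, hgk] at hcardA
  exact ⟨hcardA.trans (by norm_num), hW⟩

/-- A Sylow subgroup over the model. -/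
theorem exists_model_sylow {g : G} (hgQ : g * z * g⁻¹ ∈ Q) (hne : g * z * g⁻¹ ≠ z) :
    ∃ T : Sylow 2 ↥(centralizer ({z} : Set G)),
      (∀ t ∈ (T : Subgroup ↥(centralizer ({z} : Set G))), ∃ n < 256, φ t = eP n) ∧
      ∀ c : ↥(centralizer ({z} : Set G)), φ c ∈ A16 → c ∈ (T : Subgroup ↥(centralizer ({z} : Set G))) := by
  classical
  haveI : Fact (Nat.Prime 2) := ⟨Nat.prime_two⟩
  obtain ⟨c, hc⟩ := D.conj_to_base hgQ hne
  obtain ⟨h1, h2, h3⟩ := D.shift hgQ hne c
  obtain ⟨-, hE, hPA, hker, hX⟩ := D.conj_stab h1 h2 (h3.trans hc)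
  have hEr : E32 ≤ φ.range := hE ▸ D.imE_le_range _
  have hcE : Nat.card E32 = 32 := hE ▸ (D.conj_image h1 h2).1
  have hEenum : ∀ x ∈ E32, ∃ m, prodP m = x := by
    intro x hx
    have hb : Function.Bijective (fun m => (⟨prodP m, prodP_mem m⟩ : E32)) :=
      (Nat.bijective_iff_injective_and_card _).2
        ⟨fun a b e => prodP_injective (congrArg Subtype.val e), by rw [hcE]; simp⟩
    obtain ⟨m, hm⟩ := hb.2 ⟨x, hx⟩
    exact ⟨m, congrArg Subtype.val hm⟩
  let P : Subgroup (Equiv.Perm V6) := (D15.comap actH).map GV.subtype ⊓ φ.range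
  have hPle : P ≤ GV := fun x hx => map_subtype_le _ hx.1
  have hPmem : ∀ x ∈ P, ∃ n < 256, x = eP n := by
    rintro _ ⟨⟨f, ⟨i, hi⟩, rfl⟩, hfr⟩
    let d : GV := ⟨lin (el ⟨14 + i.1, by omega⟩), el_GV _ (dlift_fix i)⟩
    have hd : d.1 ∈ φ.range := by
      obtain ⟨e, he⟩ := D.K1_le _ (el_KP _)
      exact ⟨e, he⟩
    have hm := hker (f * d⁻¹) (mul_mem hfr (inv_mem hd)) (by
      rw [map_mul, map_inv, show actH d = actH f from hi, mul_inv_cancel])
    obtain ⟨m, hm'⟩ := hEenum _ hm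
    obtain ⟨n, hn, hne'⟩ := eP_of m i
    refine ⟨n, hn, ?_⟩
    rw [hne', hm']
    exact (inv_mul_cancel_right (f : Equiv.Perm V6) d.1).symm
  have hcP : Nat.card P = 256 := by
    have hact := card_act P hPle
    have himg : (P.subgroupOf GV).map actH = D15 := by
      refine le_antisymm ?_ ?_
      · rintro _ ⟨f, hf, rfl⟩
        obtain ⟨f', hf', e⟩ := hf.1
        rwa [show f = f' from Subtype.ext e.symm]
      · rintro _ ⟨i, rfl⟩
        refine ⟨⟨lin (el ⟨14 + i.1, by omega⟩), el_GV _ (dlift_fix i)⟩, ⟨⟨_, ⟨i, rfl⟩, rfl⟩, ?_⟩, rfl⟩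
        obtain ⟨e, he⟩ := D.K1_le _ (el_KP _)
        exact ⟨e, he⟩
    have hk1 := card_ker_ge P hPle E32 (fun x hx => ⟨⟨⟨x, E32_le hx⟩, by
      show actH _ ∈ D15
      rw [act_E32 (f := ⟨x, E32_le hx⟩) hx]
      exact one_mem _, rfl⟩, hEr hx⟩) fun f hf => act_E32 hf
    have hk2 : Nat.card (actH.comp (P.subgroupOf GV).subtype).ker ≤ Nat.card E32 :=
      Nat.card_le_card_of_injective
        (fun x => ⟨((x : (P.subgroupOf GV)) : GV), hker _ x.1.2.2 x.2⟩) fun x y e =>
          Subtype.ext (Subtype.ext (Subtype.ext (congrArg (fun t : E32 => (t : Equiv.Perm V6)) e)))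
    rw [himg, card_D15] at hact
    omega
  have hkerC : Nat.card φ.ker = 2 ^ 13 := by
    rw [← D.card]
    exact Nat.card_congr
      { toFun := fun x => ⟨_, (D.kerφ _).1 x.2⟩
        invFun := fun x => ⟨⟨x.1, D.core.le x.2⟩, (D.kerφ _).2 x.2⟩
        left_inv := fun x => rfl
        right_inv := fun x => rfl }
  have hcC : Nat.card ↥(centralizer ({z} : Set G)) = 19595520 * 2 ^ 13 := by
    have h := Subgroup.card_eq_card_quotient_mul_card_subgroup φ.ker
    rw [Nat.card_congr (QuotientGroup.quotientKerEquivRange φ).toEquiv, hkerC] at h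
    rw [h]
    congr 1
    have hKP : Nat.card KP = 9797760 := by
      rw [KP, ← Nat.card_congr (K1.equivMapOfInjective _ lin_injective).toEquiv, card_K1 card_F9]
    have h2 := D.half_KP φ.range le_rfl
    have h4 : Nat.card ↥(φ.range ⊓ KP) ≤ Nat.card KP := Subgroup.card_le_of_le inf_le_right
    have h5 : 2 * Nat.card KP ≤ Nat.card φ.range := by
      obtain ⟨d, hd⟩ := D.outer_mem
      have hle : KP ≤ φ.range := fun k hk => by
        obtain ⟨e, he⟩ := D.K1_le k hk
        exact ⟨e, he⟩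
      let f : Fin 2 × KP → φ.range := fun p =>
        if p.1 = 0 then ⟨p.2.1, hle p.2.2⟩ else ⟨p.2.1 * o.perm, mul_mem (hle p.2.2) ⟨d, hd⟩⟩
      have hf : Function.Injective f := by
        rintro ⟨i, a⟩ ⟨j, b⟩ e
        have e' := congrArg Subtype.val e
        by_cases hi : i = 0 <;> by_cases hj : j = 0 <;> simp only [f, hi, hj, if_true, if_false] at e'
        · exact Prod.ext (hi.trans hj.symm) (Subtype.ext e')
        · refine absurd ?_ D.not_mem
          have := mul_mem (inv_mem b.2) (e' ▸ a.2)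
          rwa [inv_mul_cancel_left] at this
        · refine absurd ?_ D.not_mem
          have := mul_mem (inv_mem a.2) (e'.symm ▸ b.2)
          rwa [inv_mul_cancel_left] at this
        · exact Prod.ext ((Fin.eq_one_of_ne_zero i hi).trans (Fin.eq_one_of_ne_zero j hj).symm)
            (Subtype.ext (mul_right_cancel e'))
      have := Nat.card_le_card_of_injective f hf
      rwa [Nat.card_prod, Nat.card_fin] at this
    omega
  let T0 : Subgroup ↥(centralizer ({z} : Set G)) := P.comap φ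
  have hcT : Nat.card T0 = 2 ^ 21 := by
    have h := Subgroup.card_eq_card_quotient_mul_card_subgroup (φ.comp T0.subtype).ker
    rw [Nat.card_congr (QuotientGroup.quotientKerEquivRange (φ.comp T0.subtype)).toEquiv,
      MonoidHom.range_comp, Subgroup.range_subtype, Subgroup.map_comap_eq_self (show P ≤ φ.range from inf_le_right), hcP] at h
    have e : Nat.card (φ.comp T0.subtype).ker = Nat.card φ.ker := Nat.card_congr
      { toFun := fun x => ⟨(x : T0), x.2⟩
        invFun := fun x => ⟨⟨x.1, show φ x.1 ∈ P from (show φ x.1 = 1 from x.2) ▸ one_mem P⟩, x.2⟩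
        left_inv := fun x => rfl
        right_inv := fun x => rfl }
    rw [e, hkerC] at h
    rw [h]
    norm_num
  have hfac : Nat.card T0 = 2 ^ (Nat.card ↥(centralizer ({z} : Set G))).factorization 2 := by
    rw [hcT, hcC, show 19595520 * 2 ^ 13 = 2 ^ 21 * 76545 by norm_num, Nat.factorization_mul (by norm_num) (by norm_num),
      Finsupp.add_apply, Nat.Prime.factorization_pow Nat.prime_two, Finsupp.single_eq_same,
      Nat.factorization_eq_zero_of_not_dvd (by norm_num : ¬ 2 ∣ 76545)]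
  refine ⟨Sylow.ofCard T0 hfac, fun t ht => hPmem _ ht, fun d hd => ?_⟩
  show φ d ∈ P
  obtain ⟨m, hm⟩ := hd
  rw [← hm]
  obtain ⟨hv, i, hi⟩ := a_in_P m
  have hgV : aP m ∈ GV := ⟨eP_good _, by rw [aP_apply]; exact hv⟩
  refine ⟨⟨⟨aP m, hgV⟩, ⟨i, Equiv.ext fun k => ?_⟩, rfl⟩, D.A16_range ⟨m, rfl⟩⟩
  rw [dPerm_apply]
  show _ = clsOf (aP m (cp k))
  rw [aP_apply]
  exact (hi k).symm

/-- The largest elementary abelian subgroup of a Sylow subgroup. -/
theorem sylow_large {g : G} (hgQ : g * z * g⁻¹ ∈ Q) (hne : g * z * g⁻¹ ≠ z)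
    (T : Sylow 2 ↥(centralizer ({z} : Set G))) :
    ∃ A : Subgroup ↥(centralizer ({z} : Set G)), A ≤ T ∧ (∀ a ∈ A, a * a = 1) ∧
      (∀ a ∈ A, ∀ b ∈ A, a * b = b * a) ∧ Nat.card A = 2 ^ 11 ∧
      Nat.card ↥(A ⊓ Q.subgroupOf (centralizer ({z} : Set G))) = 2 ^ 7 ∧
      ∀ B : Subgroup ↥(centralizer ({z} : Set G)), B ≤ T → (∀ a ∈ B, a * a = 1) →
        (∀ a ∈ B, ∀ b ∈ B, a * b = b * a) → 2 ^ 11 ≤ Nat.card B → B = A := by
  haveI : Fact (Nat.Prime 2) := ⟨Nat.prime_two⟩
  obtain ⟨T0, hT0, hT0A⟩ := D.exists_model_sylow hgQ hne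
  obtain ⟨A0, hA0⟩ := D.exists_large
  obtain ⟨hcard, hcardQ⟩ := D.card_large hA0
  obtain ⟨h, hh⟩ := MulAction.exists_smul_eq ↥(centralizer ({z} : Set G)) T T0
  have hmem : ∀ x, x ∈ (T : Subgroup ↥(centralizer ({z} : Set G))) ↔
      h * x * h⁻¹ ∈ (T0 : Subgroup ↥(centralizer ({z} : Set G))) := by
    intro x
    rw [← hh, Sylow.smul_def]
    constructor
    · intro hx; exact ⟨x, hx, rfl⟩
    · rintro ⟨y, hy, e⟩
      rwa [show x = y from mul_left_cancel (mul_right_cancel (show h * y * h⁻¹ = h * x * h⁻¹ from e)).symm]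
  let e : ↥(centralizer ({z} : Set G)) ≃* ↥(centralizer ({z} : Set G)) := MulAut.conj h
  let Qc := Q.subgroupOf (centralizer ({z} : Set G))
  have hQn : ∀ x, e x ∈ Qc ↔ x ∈ Qc := fun x => by
    constructor
    · intro hx
      have := D.core.norm (h : G)⁻¹ (Commute.inv_left (show Commute (h : G) z from
        mem_centralizer_singleton_iff.1 h.2)) _ hx
      show (x : G) ∈ Q
      have h' : (h : G)⁻¹ * ((h : G) * x * (h : G)⁻¹) * (h : G)⁻¹⁻¹ ∈ Q := this
      rwa [show (h : G)⁻¹ * ((h : G) * x * (h : G)⁻¹) * (h : G)⁻¹⁻¹ = x by group] at h'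
    · exact fun hx => D.core.norm (h : G) (mem_centralizer_singleton_iff.1 h.2) _ hx
  refine ⟨A0.comap e.toMonoidHom, fun a ha => (hmem a).2 (hT0A _ (hA0.1 _ ha)), fun a ha => ?_,
    fun a ha b hb => ?_, ?_, ?_, fun B hBT hBs hBc hBcard => ?_⟩
  · exact e.injective (by rw [map_mul, map_one]; exact hA0.2.2.1 _ ha)
  · exact e.injective (by rw [map_mul, map_mul]; exact hA0.2.2.2.1 _ ha _ hb)
  · rw [← hcard]
    exact Nat.card_congr (e.toEquiv.subtypeEquiv fun x => Iff.rfl)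
  · rw [← hcardQ]
    exact Nat.card_congr (e.toEquiv.subtypeEquiv fun x => and_congr Iff.rfl (hQn x).symm)
  · have hB := D.unique_large hA0 (B.map e.toMonoidHom) ?_ ?_ ?_ ?_
    · rw [← hB, Subgroup.comap_map_eq_self_of_injective e.injective]
    · rintro _ ⟨b, hb, rfl⟩
      exact hT0 _ ((hmem b).1 (hBT hb))
    · rintro _ ⟨a, ha, rfl⟩ _ ⟨b, hb, rfl⟩
      rw [← map_mul, ← map_mul, hBc a ha b hb]
    · rintro _ ⟨a, ha, rfl⟩
      rw [← map_mul, hBs a ha, map_one]
    · rwa [← Nat.card_congr (B.equivMapOfInjective _ e.injective).toEquiv]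

end Data

end CfsgLib.Spor.LargeFischer
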