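import Cfsg.Agent.Lib.Spor.LargeFischer.Line
import Cfsg.Agent.Lib.Spor.LargeFischer.SylMax
import Cfsg.Agent.Lib.Spor.LargeFischer.LineSL
import Cfsg.Agent.Lib.Spor.MonsterType.Seven.SlTwo
import Cfsg.Agent.Lib.PGroup.FrattiniLe

/-!
# The normalizer of the eight-group
-/

set_option autoImplicit false
set_option maxRecDepth 100000

namespace CfsgLib.Spor.LargeFischer

open Subgroup Matrix CfsgLib.Spor.U43Six CfsgLib.Spor.Fi22.U6

variable {G : Type*} [Group G]

/-- Coordinates on the eight-group. -/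
def pt (z s t : G) (a : Fin 3 → ZMod 2) : G := z ^ (a 0).val * s ^ (a 1).val * t ^ (a 2).val

theorem pow_val_add {x : G} (hx : x * x = 1) (a b : ZMod 2) : x ^ (a + b).val = x ^ a.val * x ^ b.val := by
  rcases (by decide : ∀ c : ZMod 2, c = 0 ∨ c = 1) a with rfl | rfl <;>
    rcases (by decide : ∀ c : ZMod 2, c = 0 ∨ c = 1) b with rfl | rfl
  · simp
  · simp
  · simp
  · rw [show ((1 : ZMod 2) + 1).val = 0 from rfl, show (1 : ZMod 2).val = 1 from rfl, pow_zero, pow_one, hx]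

theorem pt_basis (z s t : G) : pt z s t (Pi.single 0 1) = z ∧ pt z s t (Pi.single 1 1) = s ∧
    pt z s t (Pi.single 2 1) = t ∧ pt z s t 0 = 1 := by
  refine ⟨?_, ?_, ?_, ?_⟩ <;> simp [pt, Pi.single_apply, show (1 : ZMod 2).val = 1 from rfl]

/-- The base with a second vector of the line. -/
structure Frame (z : G) (Q : Subgroup G) (vec : G → V6) (g t : G) : Prop extends Base z Q vec g where
  ht : t ∈ Q
  tv : vec t = Four.w • vB

namespace Data

variable [Finite G] {z : G} {Q : Subgroup G} {vec : G → V6}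
  {φ : ↥(centralizer ({z} : Set G)) →* Equiv.Perm V6} {o : Outer} (D : Data z Q vec φ o)
include D

theorem exists_frame {g : G} (hgQ : g * z * g⁻¹ ∈ Q) (hne : g * z * g⁻¹ ≠ z) : ∃ g' t, Frame z Q vec g' t := by
  obtain ⟨g', hB⟩ := D.exists_base hgQ hne
  obtain ⟨t, ht, htv⟩ := D.surj (Four.w • vB)
  exact ⟨g', t, hB, ht, htv⟩

theorem t_line {g t : G} (hF : Frame z Q vec g t) : t ∈ lineSub Q vec := D.mem_line.2 ⟨hF.ht, Four.w, hF.tv⟩

theorem pt_mem {g t : G} (hF : Frame z Q vec g t) (a : Fin 3 → ZMod 2) :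
    pt z (g * z * g⁻¹) t a ∈ lineSub Q vec :=
  mul_mem (mul_mem (pow_mem D.z_line _) (pow_mem (D.s_line hF.toBase) _)) (pow_mem (D.t_line hF) _)

theorem pt_add {g t : G} (hF : Frame z Q vec g t) (a b : Fin 3 → ZMod 2) :
    pt z (g * z * g⁻¹) t (a + b) = pt z (g * z * g⁻¹) t a * pt z (g * z * g⁻¹) t b := by
  have hc := D.line_comm hF.toBase
  have hz := D.z_line
  have hs := D.s_line hF.toBase
  have ht := D.t_line hF
  simp only [pt, Pi.add_apply, pow_val_add D.zz, pow_val_add (D.line_sq hF.toBase _ hs),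
    pow_val_add (D.line_sq hF.toBase _ ht)]
  set z0 := z ^ (a 0).val
  set z1 := z ^ (b 0).val
  set s0 := (g * z * g⁻¹) ^ (a 1).val
  set s1 := (g * z * g⁻¹) ^ (b 1).val
  set t0 := t ^ (a 2).val
  set t1 := t ^ (b 2).val
  have e1 : z1 * s0 = s0 * z1 := hc _ (pow_mem hz _) _ (pow_mem hs _)
  have e2 : z1 * t0 = t0 * z1 := hc _ (pow_mem hz _) _ (pow_mem ht _)
  have e3 : s1 * t0 = t0 * s1 := hc _ (pow_mem hs _) _ (pow_mem ht _)
  calc z0 * z1 * (s0 * s1) * (t0 * t1) = z0 * (z1 * s0) * (s1 * t0) * t1 := by group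
    _ = z0 * s0 * (z1 * t0) * s1 * t1 := by rw [e1, e3]; group
    _ = _ := by rw [e2]; group

theorem vec_pt {g t : G} (hF : Frame z Q vec g t) (a : Fin 3 → ZMod 2) :
    vec (pt z (g * z * g⁻¹) t a) = bitF (a 1) • vB + bitF (a 2) • (Four.w • vB) := by
  have hv : ∀ (x : G), x ∈ Q → ∀ b : ZMod 2, vec (x ^ b.val) = bitF b • vec x := fun x hx b => by
    rcases (by decide : ∀ c : ZMod 2, c = 0 ∨ c = 1) b with rfl | rfl
    · rw [show (0 : ZMod 2).val = 0 from rfl, pow_zero, D.vec_one, show bitF 0 = 0 from rfl, zero_smul]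
    · rw [show (1 : ZMod 2).val = 1 from rfl, pow_one, show bitF 1 = 1 from rfl, one_smul]
  have hz := Subgroup.pow_mem Q D.core.mem (a 0).val
  have hs := Subgroup.pow_mem Q hF.mem (a 1).val
  rw [pt, D.add _ (Subgroup.mul_mem Q hz hs) _ (Subgroup.pow_mem Q hF.ht _), D.add _ hz _ hs,
    hv _ D.core.mem, hv _ hF.mem, hv _ hF.ht, D.vec_z, smul_zero, zero_add, hF.vec_eq, hF.tv]

theorem pt_eq_zero {g t : G} (hF : Frame z Q vec g t) {a : Fin 3 → ZMod 2}
    (h : vec (pt z (g * z * g⁻¹) t a) = 0) : a 1 = 0 ∧ a 2 = 0 := by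
  rw [D.vec_pt hF] at h
  rcases (by decide : ∀ c : ZMod 2, c = 0 ∨ c = 1) (a 1) with e1 | e1 <;>
    rcases (by decide : ∀ c : ZMod 2, c = 0 ∨ c = 1) (a 2) with e2 | e2 <;>
    rw [e1, e2] at h ⊢
  · exact ⟨rfl, rfl⟩
  · rw [show bitF 0 = 0 from rfl, show bitF 1 = 1 from rfl, zero_smul, one_smul, zero_add] at h
    exact absurd h line_facts.1
  · rw [show bitF 0 = 0 from rfl, show bitF 1 = 1 from rfl, zero_smul, one_smul, add_zero] at h
    exact absurd h base_facts.2.2.1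
  · rw [show bitF 1 = 1 from rfl, one_smul, one_smul] at h
    refine absurd ?_ line_facts.2.1
    exact add_left_cancel (h.trans (funext fun r => (CfsgLib.Spor.Fi22.U6.add_self (vB r)).symm))

theorem pt_inj {g t : G} (hF : Frame z Q vec g t) : Function.Injective (pt z (g * z * g⁻¹) t) := by
  intro a b e
  have h : pt z (g * z * g⁻¹) t (a + b) = 1 := by
    rw [D.pt_add hF, e]; exact D.line_sq hF.toBase _ (D.pt_mem hF b)
  obtain ⟨h1, h2⟩ := D.pt_eq_zero hF (a := a + b) (by rw [h, D.vec_one])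
  have h0 : (a + b) 0 = 0 := by
    rcases (by decide : ∀ c : ZMod 2, c = 0 ∨ c = 1) ((a + b) 0) with e0 | e0
    · exact e0
    · exfalso
      refine D.z_ne ?_
      rw [pt, h1, h2, e0] at h
      simpa [show (1 : ZMod 2).val = 1 from rfl] using h
  funext i
  have hi : (a + b) i = 0 := by fin_cases i <;> assumption
  exact (by decide : ∀ c d : ZMod 2, c + d = 0 → c = d) _ _ hi

theorem pt_surj {g t : G} (hF : Frame z Q vec g t) {q : G} (hq : q ∈ lineSub Q vec) :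
    ∃ a, pt z (g * z * g⁻¹) t a = q := by
  have hb : Function.Bijective (fun a => (⟨_, D.pt_mem hF a⟩ : lineSub Q vec)) :=
    (Nat.bijective_iff_injective_and_card _).2
      ⟨fun a b e => D.pt_inj hF (congrArg Subtype.val e), by rw [D.card_line]; simp⟩
  obtain ⟨a, ha⟩ := hb.2 ⟨q, hq⟩
  exact ⟨a, congrArg Subtype.val ha⟩

theorem cv_norm : centralizer ((lineSub Q vec : Subgroup G) : Set G) ≤
    normalizer ((lineSub Q vec : Subgroup G) : Set G) := Subgroup.centralizer_le_normalizer _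

theorem norm_cv {l x : G} (hl : l ∈ normalizer ((lineSub Q vec : Subgroup G) : Set G))
    (hx : x ∈ centralizer ((lineSub Q vec : Subgroup G) : Set G)) :
    l * x * l⁻¹ ∈ centralizer ((lineSub Q vec : Subgroup G) : Set G) := by
  refine mem_centralizer_iff.2 fun q hq => ?_
  have h := mem_centralizer_iff.1 hx _ ((mem_normalizer_iff''.1 hl q).1 hq)
  calc q * (l * x * l⁻¹) = l * ((l⁻¹ * q * l) * x) * l⁻¹ := by group
    _ = l * (x * (l⁻¹ * q * l)) * l⁻¹ := by rw [h]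
    _ = _ := by group

theorem norm_R {g l : G} (hB : Base z Q vec g) (hl : l ∈ normalizer ((lineSub Q vec : Subgroup G) : Set G))
    {r : G} (hr : r ∈ lineR z Q vec φ) : l * r * l⁻¹ ∈ lineR z Q vec φ := by
  refine D.lineR_max hB (N := (lineR z Q vec φ).map (MulAut.conj l).toMonoidHom) ?_ ((D.lineR_two hB).map _) ?_
    (mem_map_of_mem _ hr)
  · rintro _ ⟨x, hx, rfl⟩
    exact D.norm_cv hl (D.lineR_le hx)
  · rintro c hc _ ⟨x, hx, rfl⟩
    have hc' := D.norm_cv (inv_mem hl) hc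
    rw [inv_inv] at hc'
    exact ⟨_, D.lineR_normal hB hc' hx, by show l * (l⁻¹ * c * l * x * (l⁻¹ * c * l)⁻¹) * l⁻¹ = c * (l * x * l⁻¹) * c⁻¹; group⟩

/-- Elements of the centralizer of `z` preserving the line normalize the eight-group. -/
theorem mem_norm {g t : G} (hF : Frame z Q vec g t) (c : ↥(centralizer ({z} : Set G)))
    (hv : InL (φ c vB)) (hw : InL (φ c (Four.w • vB))) :
    (c : G) ∈ normalizer ((lineSub Q vec : Subgroup G) : Set G) := by
  have hcz := mem_centralizer_singleton_iff.1 c.2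
  refine mem_normalizer_fintype fun q hq => ?_
  obtain ⟨hqQ, hqL⟩ := D.mem_line.1 hq
  refine D.mem_line.2 ⟨D.core.norm _ hcz q hqQ, ?_⟩
  rw [D.conj c q hqQ]
  rcases inL_cases hqL with e | e | e | e <;> rw [e]
  · exact ⟨0, by rw [(D.good c).zero, zero_smul]⟩
  · exact hv
  · exact hw
  · rw [(D.good c).add]; exact inL_add hw hv

theorem sign_fix {g t : G} (hF : Frame z Q vec g t) {q1 q2 : G}
    (h1 : q1 = g * z * g⁻¹ ∨ q1 = g * z * g⁻¹ * z) (h2 : q2 = t ∨ q2 = t * z) :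
    ∃ y ∈ Q, y * (g * z * g⁻¹) * y⁻¹ = q1 ∧ y * t * y⁻¹ = q2 := by
  obtain ⟨y1, hy1, hy1v⟩ := D.surj (dec 2)
  obtain ⟨y2, hy2, hy2v⟩ := D.surj (dec 1)
  obtain ⟨d1, d2, d3, d4⟩ := dual_vectors
  set s := g * z * g⁻¹
  have hsv : vec s = vB := hF.vec_eq
  have h1s : y1 * s * y1⁻¹ = s * z := D.move_z hy1 hF.mem (by rw [hy1v, hsv, d1]; decide)
  have h1t : y1 * t * y1⁻¹ = t := D.fix_q hy1 hF.ht (by rw [hy1v, hF.tv, d2])
  have h2s : y2 * s * y2⁻¹ = s := D.fix_q hy2 hF.mem (by rw [hy2v, hsv, d3])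
  have h2t : y2 * t * y2⁻¹ = t * z := D.move_z hy2 hF.ht (by rw [hy2v, hF.tv, d4]; decide)
  rcases h1 with rfl | rfl <;> rcases h2 with rfl | rfl
  · exact ⟨1, one_mem _, by group, by group⟩
  · exact ⟨y2, hy2, h2s, h2t⟩
  · exact ⟨y1, hy1, h1s, h1t⟩
  · refine ⟨y1 * y2, Subgroup.mul_mem Q hy1 hy2, ?_, ?_⟩
    · rw [show y1 * y2 * s * (y1 * y2)⁻¹ = y1 * (y2 * s * y2⁻¹) * y1⁻¹ by group, h2s, h1s]
    · rw [show y1 * y2 * t * (y1 * y2)⁻¹ = y1 * (y2 * t * y2⁻¹) * y1⁻¹ by group, h2t,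
        show y1 * (t * z) * y1⁻¹ = (y1 * t * y1⁻¹) * (y1 * z * y1⁻¹) by group, h1t, D.half.cz y1 hy1,
        mul_inv_cancel_right]

/-- The stabilizer of `z` moves the pair as freely as possible. -/
theorem exists_stab {g t : G} (hF : Frame z Q vec g t) {q1 q2 : G} (h1 : q1 ∈ lineSub Q vec)
    (h2 : q2 ∈ lineSub Q vec) (hn1 : vec q1 ≠ 0) (hn2 : vec q2 ≠ 0) (hne : vec q1 ≠ vec q2) :
    ∃ c : ↥(centralizer ({z} : Set G)), (c : G) ∈ normalizer ((lineSub Q vec : Subgroup G) : Set G) ∧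
      (c : G) * (g * z * g⁻¹) * (c : G)⁻¹ = q1 ∧ (c : G) * t * (c : G)⁻¹ = q2 := by
  obtain ⟨hq1, a, ha⟩ := D.mem_line.1 h1
  obtain ⟨hq2, b, hb⟩ := D.mem_line.1 h2
  have ha0 : a ≠ 0 := fun e => hn1 (by rw [ha, e, zero_smul])
  have hb0 : b ≠ 0 := fun e => hn2 (by rw [hb, e, zero_smul])
  have hab : b ≠ a := fun e => hne (by rw [ha, hb, e])
  have ho := D.outer_eq hF.mem hF.ne
  obtain ⟨x, hx, hxs⟩ := exists_scalar ha0
  obtain ⟨d, hd⟩ := D.K1_le _ (lin_mem_KP.2 hx)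
  obtain ⟨c, hcv, hcw⟩ : ∃ c : ↥(centralizer ({z} : Set G)), φ c vB = a • vB ∧
      φ c (Four.w • vB) = b • vB := by
    rcases (by decide : ∀ a b : Four, a ≠ 0 → b ≠ 0 → b ≠ a → b = a * Four.w ∨ b = a * Four.u) a b ha0 hb0 hab
      with rfl | rfl
    · exact ⟨d, by rw [hd, hxs], by rw [hd, hxs, smul_smul]⟩
    · obtain ⟨e, he⟩ := D.adjO_range
      refine ⟨d * e, ?_, ?_⟩ <;> rw [map_mul, hd, he, Equiv.Perm.mul_apply, adjO_apply, ho]
      · rw [adj_facts.1, hxs]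
      · rw [line_facts.2.2.2.2.2.1, hxs, smul_smul]
  have hcz := mem_centralizer_singleton_iff.1 c.2
  have key : ∀ p q : G, p ∈ Q → q ∈ Q → φ c (vec p) = vec q →
      (c : G)⁻¹ * q * c = p ∨ (c : G)⁻¹ * q * c = p * z := by
    intro p q hp hq e
    rcases D.same_class (D.core.norm _ hcz p hp) hq (by rw [D.conj c p hp, e]) with e' | e' <;> rw [e']
    · left; group
    · right
      rw [show (c : G)⁻¹ * ((c : G) * p * (c : G)⁻¹ * z) * c = p * ((c : G)⁻¹ * (z * c)) by group, ← hcz,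
        inv_mul_cancel_left]
  obtain ⟨y, hy, ys, yt⟩ := D.sign_fix hF (key _ q1 hF.mem hq1 (by rw [hF.vec_eq, hcv, ha]))
    (key _ q2 hF.ht hq2 (by rw [hF.tv, hcw, hb]))
  refine ⟨c * ⟨y, D.core.le hy⟩, D.mem_norm hF _ ?_ ?_, ?_, ?_⟩
  · rw [map_mul, (D.kerφ ⟨y, D.core.le hy⟩).2 hy, mul_one, hcv]; exact ⟨a, rfl⟩
  · rw [map_mul, (D.kerφ ⟨y, D.core.le hy⟩).2 hy, mul_one, hcw]; exact ⟨b, rfl⟩
  · show (c : G) * y * _ * ((c : G) * y)⁻¹ = q1
    rw [show (c : G) * y * (g * z * g⁻¹) * ((c : G) * y)⁻¹ = (c : G) * (y * (g * z * g⁻¹) * y⁻¹) * (c : G)⁻¹ by group, ys]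
    group
  · show (c : G) * y * _ * ((c : G) * y)⁻¹ = q2
    rw [show (c : G) * y * t * ((c : G) * y)⁻¹ = (c : G) * (y * t * y⁻¹) * (c : G)⁻¹ by group, yt]
    group

/-- The action on the eight-group is all of SL(3, 2). -/
theorem exists_mu {g t : G} (hF : Frame z Q vec g t) :
    ∃ μ : ↥(normalizer ((lineSub Q vec : Subgroup G) : Set G)) →* SL32,
      (∀ (l : ↥(normalizer ((lineSub Q vec : Subgroup G) : Set G))) a, (l : G) * pt z (g * z * g⁻¹) t a * (l : G)⁻¹ =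
        pt z (g * z * g⁻¹) t ((μ l : Matrix (Fin 3) (Fin 3) (ZMod 2)) *ᵥ a)) ∧
      Function.Surjective μ ∧
      ∀ l : ↥(normalizer ((lineSub Q vec : Subgroup G) : Set G)), μ l = 1 ↔ (l : G) ∈ centralizer ((lineSub Q vec : Subgroup G) : Set G) := by
  classical
  set L := normalizer ((lineSub Q vec : Subgroup G) : Set G) with hL
  set P := pt z (g * z * g⁻¹) t with hP
  have hmem : ∀ (l : L) a, (l : G) * P a * (l : G)⁻¹ ∈ lineSub Q vec := fun l a =>
    (mem_normalizer_iff.1 l.2 _).1 (D.pt_mem hF a)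
  choose f hf' using fun (l : L) a => D.pt_surj hF (hmem l a)
  have hf : ∀ l a, P (f l a) = (l : G) * P a * (l : G)⁻¹ := hf'
  have hadd : ∀ l a b, f l (a + b) = f l a + f l b := fun l a b => D.pt_inj hF (by
    show P _ = P _
    rw [hf, hP, D.pt_add hF, D.pt_add hF, hf', hf', hP]
    group)
  let M : L → Matrix (Fin 3) (Fin 3) (ZMod 2) := fun l =>
    LinearMap.toMatrix' ((AddMonoidHom.mk' (f l) (hadd l)).toZModLinearMap 2)
  have hM : ∀ l a, M l *ᵥ a = f l a := fun l a => by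
    rw [← Matrix.toLin'_apply, Matrix.toLin'_toMatrix']; rfl
  have hact : ∀ l a, P (M l *ᵥ a) = (l : G) * P a * (l : G)⁻¹ := fun l a => by rw [hM, hf]
  have huniq : ∀ A B : Matrix (Fin 3) (Fin 3) (ZMod 2), (∀ a, P (A *ᵥ a) = P (B *ᵥ a)) → A = B := fun A B h =>
    Matrix.toLin'.injective (LinearMap.ext fun a => by
      rw [Matrix.toLin'_apply, Matrix.toLin'_apply]; exact D.pt_inj hF (h a))
  have hmul : ∀ l m, M (l * m) = M l * M m := fun l m => huniq _ _ fun a => by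
    rw [← Matrix.mulVec_mulVec, hact, hact, hact, Subgroup.coe_mul]; group
  have hone : M 1 = 1 := huniq _ _ fun a => by rw [Matrix.one_mulVec, hact, Subgroup.coe_one]; group
  have hdet : ∀ l, (M l).det = 1 := fun l => by
    have h : (M l).det * (M l⁻¹).det = 1 := by rw [← Matrix.det_mul, ← hmul, mul_inv_cancel, hone, Matrix.det_one]
    exact (by decide : ∀ c d : ZMod 2, c * d = 1 → c = 1) _ _ h
  let μ : L →* SL32 := MonoidHom.mk' (fun l => ⟨M l, hdet l⟩) fun l m => Subtype.ext (hmul l m)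
  refine ⟨μ, fun l a => (hact l a).symm, fun A => ?_, fun l => ⟨fun h => ?_, fun h => ?_⟩⟩
  · obtain ⟨b0, b1, b2, -⟩ := pt_basis z (g * z * g⁻¹) t
    have hAinj : ∀ (B : SL32) a, (B : Matrix (Fin 3) (Fin 3) (ZMod 2)) *ᵥ a = 0 → a = 0 := fun B a h => by
      have := congrArg (fun x => ((B⁻¹ : SL32) : Matrix (Fin 3) (Fin 3) (ZMod 2)) *ᵥ x) h
      simp only [Matrix.mulVec_mulVec, Matrix.mulVec_zero, ← Matrix.SpecialLinearGroup.coe_mul, inv_mul_cancel,
        Matrix.SpecialLinearGroup.coe_one, Matrix.one_mulVec] at this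
      exact this
    -- the case fixing the first point
    have hfix : ∀ B : SL32, (B : Matrix (Fin 3) (Fin 3) (ZMod 2)) *ᵥ Pi.single 0 1 = Pi.single 0 1 →
        ∃ l, μ l = B := by
      intro B h0
      set u1 := (B : Matrix (Fin 3) (Fin 3) (ZMod 2)) *ᵥ Pi.single 1 1 with hu1
      set u2 := (B : Matrix (Fin 3) (Fin 3) (ZMod 2)) *ᵥ Pi.single 2 1 with hu2
      have hz : ∀ u : Fin 3 → ZMod 2, vec (P u) = 0 → u = 0 ∨ u = Pi.single 0 1 := fun u hu => by
        obtain ⟨h1, h2⟩ := D.pt_eq_zero hF hu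
        rcases (by decide : ∀ c : ZMod 2, c = 0 ∨ c = 1) (u 0) with e | e
        · exact Or.inl (funext fun i => by fin_cases i <;> assumption)
        · exact Or.inr (funext fun i => by fin_cases i <;> simp_all [Pi.single_apply])
      have hno : ∀ a : Fin 3 → ZMod 2, a ≠ 0 → a ≠ Pi.single 0 1 →
          vec (P ((B : Matrix (Fin 3) (Fin 3) (ZMod 2)) *ᵥ a)) ≠ 0 := by
        intro a ha ha' h
        rcases hz _ h with e | e
        · exact ha (hAinj B a e)
        · refine ha' ((by decide : ∀ a b : Fin 3 → ZMod 2, a + b = 0 → a = b) _ _ (hAinj B _ ?_))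
          rw [Matrix.mulVec_add, e, h0]
          exact (by decide : ∀ b : Fin 3 → ZMod 2, b + b = 0) _
      obtain ⟨c, hcL, hcs, hct⟩ := D.exists_stab hF (D.pt_mem hF u1) (D.pt_mem hF u2)
        (hno _ (by decide) (by decide)) (hno _ (by decide) (by decide)) fun e => by
          refine hno (Pi.single 1 1 + Pi.single 2 1) (by decide) (by decide) ?_
          rw [Matrix.mulVec_add, hP, D.pt_add hF, D.add _ (D.line_le (D.pt_mem hF _)) _ (D.line_le (D.pt_mem hF _)),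
            ← hu1, ← hu2, e]
          exact funext fun r => CfsgLib.Spor.Fi22.U6.add_self _
      refine ⟨⟨c, hcL⟩, Subtype.ext (huniq _ _ fun a => ?_)⟩
      show P (M _ *ᵥ a) = _
      have hgen : ∀ i : Fin 3, P (M ⟨c, hcL⟩ *ᵥ Pi.single i 1) =
          P ((B : Matrix (Fin 3) (Fin 3) (ZMod 2)) *ᵥ Pi.single i 1) := fun i => by
        fin_cases i
        · show P (M ⟨c, hcL⟩ *ᵥ Pi.single 0 1) = P ((B : Matrix (Fin 3) (Fin 3) (ZMod 2)) *ᵥ Pi.single 0 1)
          rw [hact, h0, hP, b0]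
          exact mul_inv_eq_iff_eq_mul.2 (mem_centralizer_singleton_iff.1 c.2)
        · show P (M ⟨c, hcL⟩ *ᵥ Pi.single 1 1) = P u1
          rw [hact, hP, b1]; exact hcs
        · show P (M ⟨c, hcL⟩ *ᵥ Pi.single 2 1) = P u2
          rw [hact, hP, b2]; exact hct
      have hcol : M ⟨c, hcL⟩ = (B : Matrix (Fin 3) (Fin 3) (ZMod 2)) := by
        ext i j
        have := congrFun (D.pt_inj hF (hgen j)) i
        simpa [Matrix.mulVec_single_one] using this
      rw [hcol]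
    obtain ⟨w, hwz, -, -, -, hwL⟩ := D.exists_swap hF.toBase
    set a0 := (A : Matrix (Fin 3) (Fin 3) (ZMod 2)) *ᵥ Pi.single 0 1 with ha0
    obtain ⟨l1, hl1⟩ : ∃ l1 : L, P ((μ l1 : Matrix (Fin 3) (Fin 3) (ZMod 2)) *ᵥ Pi.single 0 1) = P a0 := by
      have ha00 : a0 ≠ 0 := fun h => absurd (hAinj A _ h) (by decide)
      by_cases hvz : vec (P a0) = 0
      · refine ⟨1, ?_⟩
        obtain ⟨h1, h2⟩ := D.pt_eq_zero hF hvz
        rw [map_one, Matrix.SpecialLinearGroup.coe_one, Matrix.one_mulVec]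
        refine congrArg P (funext fun i => ?_)
        rcases (by decide : ∀ c : ZMod 2, c = 0 ∨ c = 1) (a0 0) with e | e
        · exact absurd (funext fun i => by fin_cases i <;> assumption) ha00
        · fin_cases i <;> simp_all [Pi.single_apply]
      · obtain ⟨q2, hq2, hn2, hne⟩ : ∃ q2 ∈ lineSub Q vec, vec q2 ≠ 0 ∧ vec (P a0) ≠ vec q2 := by
          by_cases h : vec (P a0) = vB
          · exact ⟨t, D.t_line hF, by rw [hF.tv]; exact line_facts.1, by rw [h, hF.tv]; exact fun e => line_facts.2.1 e.symm⟩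
          · exact ⟨g * z * g⁻¹, D.s_line hF.toBase, by rw [hF.vec_eq]; exact base_facts.2.2.1, by rw [hF.vec_eq]; exact h⟩
        obtain ⟨c, hcL, hcs, -⟩ := D.exists_stab hF (D.pt_mem hF a0) hq2 hvz hn2 hne
        refine ⟨⟨c, hcL⟩ * ⟨w, hwL⟩, ?_⟩
        show P (M _ *ᵥ _) = _
        rw [hact, Subgroup.coe_mul, hP, b0]
        rw [show (c : G) * w * z * ((c : G) * w)⁻¹ = (c : G) * (w * z * w⁻¹) * (c : G)⁻¹ by group, hwz]
        exact hcs
    obtain ⟨l2, hl2⟩ := hfix ((μ l1)⁻¹ * A) (by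
      rw [Matrix.SpecialLinearGroup.coe_mul, ← Matrix.mulVec_mulVec, ← ha0, ← D.pt_inj hF hl1, Matrix.mulVec_mulVec,
        ← Matrix.SpecialLinearGroup.coe_mul, inv_mul_cancel, Matrix.SpecialLinearGroup.coe_one, Matrix.one_mulVec])
    exact ⟨l1 * l2, by rw [map_mul, hl2, mul_inv_cancel_left]⟩
  · refine mem_centralizer_iff.2 fun q hq => ?_
    obtain ⟨a, rfl⟩ := D.pt_surj hF hq
    have h2 := hact l a
    rw [show M l = 1 from congrArg Subtype.val h, Matrix.one_mulVec, hP] at h2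
    exact (mul_inv_eq_iff_eq_mul.1 h2.symm).symm
  · refine Subtype.ext (huniq _ _ fun a => ?_)
    show P (M l *ᵥ a) = P ((1 : Matrix (Fin 3) (Fin 3) (ZMod 2)) *ᵥ a)
    rw [hact, Matrix.one_mulVec, ← mem_centralizer_iff.1 h _ (D.pt_mem hF a), mul_inv_cancel_right]

/-- The elements centralizing the alternating section. -/
theorem exists_sect {g t : G} (hF : Frame z Q vec g t) :
    ∃ M : Subgroup ↥(normalizer ((lineSub Q vec : Subgroup G) : Set G)), M.Normal ∧
      (∀ l, l ∈ M ↔ ∀ c ∈ centralizer ((lineSub Q vec : Subgroup G) : Set G),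
        (l : G) * c * (l : G)⁻¹ * c⁻¹ ∈ lineR z Q vec φ) ∧
      (∀ l : ↥(normalizer ((lineSub Q vec : Subgroup G) : Set G)), (l : G) ∈ lineR z Q vec φ → l ∈ M) ∧
      (∀ l : ↥(normalizer ((lineSub Q vec : Subgroup G) : Set G)), l ∈ M →
        (l : G) ∈ centralizer ((lineSub Q vec : Subgroup G) : Set G) → (l : G) ∈ lineR z Q vec φ) ∧
      ∀ l, ∃ m ∈ M, ((m⁻¹ * l : ↥(normalizer ((lineSub Q vec : Subgroup G) : Set G))) : G) ∈
        centralizer ((lineSub Q vec : Subgroup G) : Set G) := by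
  set CV := centralizer ((lineSub Q vec : Subgroup G) : Set G) with hCV
  set L := normalizer ((lineSub Q vec : Subgroup G) : Set G) with hL
  set R := lineR z Q vec φ with hR
  have nR : ∀ (a : L) {r : G}, r ∈ R → (a : G) * r * (a : G)⁻¹ ∈ R := fun a r hr => D.norm_R hF.toBase a.2 hr
  let M : Subgroup L :=
    { carrier := {l | ∀ c ∈ CV, (l : G) * c * (l : G)⁻¹ * c⁻¹ ∈ R}
      one_mem' := fun c _ => by simpa using one_mem R
      mul_mem' := fun {a b} ha hb c hc => by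
        have h := mul_mem (nR a (hb c hc)) (ha c hc)
        convert h using 1
        rw [Subgroup.coe_mul]; group
      inv_mem' := fun {a} ha c hc => by
        have hc' := D.norm_cv (inv_mem a.2) hc
        have h := inv_mem (ha _ hc')
        convert h using 1
        rw [Subgroup.coe_inv]; group }
  have hMn : M.Normal := ⟨fun m hm n c hc => by
    have hc' := D.norm_cv (inv_mem n.2) hc
    have h := nR n (hm _ hc')
    convert h using 1
    rw [Subgroup.coe_mul, Subgroup.coe_mul, Subgroup.coe_inv]; group⟩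
  have hRM : ∀ l : L, (l : G) ∈ R → l ∈ M := fun l hl c hc => by
    have h := mul_mem hl (D.lineR_normal hF.toBase hc (inv_mem hl))
    convert h using 1
    group
  refine ⟨M, hMn, fun l => Iff.rfl, hRM, ?_, ?_⟩
  · intro l hl hlc
    obtain ⟨θ, hsurj, hθ⟩ := D.exists_theta hF.toBase
    refine (hθ ⟨l, hlc⟩).1 ?_
    have hcen : θ ⟨l, hlc⟩ ∈ Subgroup.center ↥(alternatingGroup (Fin 6)) := mem_center_iff.2 fun π => by
      obtain ⟨c, rfl⟩ := hsurj π
      have h := (hθ (⟨(l : G), hlc⟩ * c * ⟨(l : G), hlc⟩⁻¹ * c⁻¹)).2 (hl c c.2)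
      rw [map_mul, map_mul, map_mul, map_inv, map_inv] at h
      exact (mul_inv_eq_iff_eq_mul.1 (mul_inv_eq_one.1 h)).symm
    rwa [alternatingGroup.center_eq_bot (by simp), Subgroup.mem_bot] at hcen
  · obtain ⟨μ, hμ, hμs, hμk⟩ := D.exists_mu hF
    obtain ⟨X, hX3, hXw, -⟩ := D.exists_X
    have hXL : (X : G) ∈ L := D.mem_norm hF X (by rw [hXw]; exact ⟨_, rfl⟩)
      (by rw [hXw, smul_smul]; exact ⟨_, rfl⟩)
    set x : L := ⟨X, hXL⟩ with hx
    have hxM : x ∈ M := fun c hc => by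
      let c' : ↥(centralizer ({z} : Set G)) := ⟨c, D.cv_le hc⟩
      have h1 : φ (X * c' * X⁻¹ * c'⁻¹) = 1 := by
        have hk := (D.phi_cv hF.toBase (c := c') hc).1
        have hcomm : φ X * φ c' = φ c' * φ X := Equiv.ext fun v => by
          rw [Equiv.Perm.mul_apply, Equiv.Perm.mul_apply, hXw, hXw, lin_smul hk]
        rw [map_mul, map_mul, map_mul, map_inv, map_inv, hcomm, mul_inv_cancel_right, mul_inv_cancel]
      exact D.cv_Q_le_R ((D.kerφ _).1 h1) (mul_mem (D.norm_cv hXL hc) (inv_mem hc))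
    have hx3 : μ x ^ 3 = 1 := by
      rw [← map_pow, show x ^ 3 = 1 from Subtype.ext (by
        rw [Subgroup.coe_pow, Subgroup.coe_one, pow_three']; exact congrArg Subtype.val hX3), map_one]
    have hx1 : μ x ≠ 1 := fun h => by
      have hcv := (hμk x).1 h
      have := (D.phi_cv hF.toBase (c := X) hcv).2.2
      rw [hXw] at this
      exact line_facts.2.1 this
    haveI := hMn
    have htop := sl_top (hMn.map μ hμs) (mem_map_of_mem μ hxM) hx3 hx1
    intro l
    obtain ⟨m, hm, e⟩ : μ l ∈ M.map μ := htop ▸ mem_top _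
    exact ⟨m, hm, (hμk _).1 (by rw [map_mul, map_inv, e, inv_mul_cancel])⟩

end Data

end CfsgLib.Spor.LargeFischer
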