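import Cfsg.Agent.Lib.Spor.LargeFischer.LineNorm

/-!
# The two-core of the normalizer of the eight-group is special
-/

set_option autoImplicit false
set_option maxRecDepth 100000

namespace CfsgLib.Spor.LargeFischer

open Subgroup Matrix CfsgLib.Spor.U43Six CfsgLib.Spor.Fi22.U6
open scoped commutatorElement

variable {G : Type*} [Group G]

namespace Data

variable [Finite G] {z : G} {Q : Subgroup G} {vec : G → V6}
  {φ : ↥(centralizer ({z} : Set G)) →* Equiv.Perm V6} {o : Outer} (D : Data z Q vec φ o)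
include D

/-- The normalizer modulo the two-group is the direct product. -/
theorem exists_product {g t : G} (hF : Frame z Q vec g t) :
    ∃ Φ : ↥(normalizer ((lineSub Q vec : Subgroup G) : Set G)) →* SL32 × ↥(alternatingGroup (Fin 6)),
      Function.Surjective Φ ∧ Φ.ker = (lineR z Q vec φ).subgroupOf (normalizer ((lineSub Q vec : Subgroup G) : Set G)) := by
  classical
  set CV := centralizer ((lineSub Q vec : Subgroup G) : Set G) with hCV
  set L := normalizer ((lineSub Q vec : Subgroup G) : Set G) with hL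
  obtain ⟨μ, -, hμs, hμk⟩ := D.exists_mu hF
  obtain ⟨M, hMn, -, hRM, hMC, hdec⟩ := D.exists_sect hF
  obtain ⟨θ, hθs, hθ⟩ := D.exists_theta hF.toBase
  haveI := hMn
  choose m hm hc using hdec
  let c : L → CV := fun l => ⟨_, hc l⟩
  have hwd : ∀ (l : L) (d : CV), (⟨(d : G), D.cv_norm d.2⟩ : L) * l⁻¹ ∈ M → θ d = θ (c l) := by
    intro l d hd
    have e : (⟨(d : G), D.cv_norm d.2⟩ : L) * ((m l)⁻¹ * l)⁻¹ ∈ M := by
      rw [_root_.mul_inv_rev, inv_inv, ← mul_assoc]
      exact mul_mem hd (hm l)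
    have h := hMC _ e (mul_mem d.2 (inv_mem (hc l)))
    have h2 := (hθ (d * (c l)⁻¹)).2 h
    rwa [map_mul, map_inv, mul_inv_eq_one] at h2
  have hcl : ∀ l : L, (⟨((c l : CV) : G), D.cv_norm (c l).2⟩ : L) * l⁻¹ ∈ M := fun l => by
    rw [show (⟨((c l : CV) : G), D.cv_norm (c l).2⟩ : L) = (m l)⁻¹ * l from Subtype.ext rfl, mul_inv_cancel_right]
    exact inv_mem (hm l)
  let Φ : L →* SL32 × ↥(alternatingGroup (Fin 6)) := MonoidHom.mk' (fun l => (μ l, θ (c l))) fun a b => by
    refine Prod.ext (map_mul μ a b) ?_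
    show θ (c (a * b)) = θ (c a) * θ (c b)
    rw [← map_mul]
    refine (hwd (a * b) (c a * c b) ?_).symm
    have h1 := hcl a
    have h2 := hMn.conj_mem _ (hcl b) (⟨((c a : CV) : G), D.cv_norm (c a).2⟩ : L)
    have h3 := mul_mem h2 h1
    convert h3 using 1
    refine Subtype.ext ?_
    simp only [Subgroup.coe_mul, Subgroup.coe_inv]
    group
  have hM1 : ∀ x ∈ M, θ (c x) = 1 := fun x hx => by
    rw [← hwd x 1 (mul_mem (one_mem M) (inv_mem hx)), map_one]
  have hCc : ∀ d : CV, θ (c ⟨(d : G), D.cv_norm d.2⟩) = θ d := fun d => (hwd _ d (by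
    rw [mul_inv_cancel]; exact one_mem M)).symm
  refine ⟨Φ, fun p => ?_, ?_⟩
  · obtain ⟨A, π⟩ := p
    obtain ⟨l, rfl⟩ := hμs A
    obtain ⟨d, rfl⟩ := hθs π
    have hm' : μ (m l) = μ l := by
      have := (hμk ((m l)⁻¹ * l)).2 (hc l)
      rwa [map_mul, map_inv, inv_mul_eq_one] at this
    refine ⟨m l * ⟨(d : G), D.cv_norm d.2⟩, ?_⟩
    rw [map_mul]
    refine Prod.ext ?_ ?_
    · show μ (m l) * μ _ = μ l
      rw [(hμk (⟨(d : G), D.cv_norm d.2⟩ : L)).2 d.2, mul_one, hm']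
    · show θ (c (m l)) * θ (c _) = θ d
      rw [hM1 _ (hm l), hCc, one_mul]
  · ext l
    rw [MonoidHom.mem_ker, mem_subgroupOf]
    constructor
    · intro h
      have h1 : μ l = 1 := congrArg Prod.fst h
      have h2 : θ (c l) = 1 := congrArg Prod.snd h
      have hl := (hμk l).1 h1
      rw [show l = ⟨((⟨(l : G), hl⟩ : CV) : G), D.cv_norm hl⟩ from Subtype.ext rfl, hCc] at h2
      exact (hθ _).1 h2
    · intro h
      refine Prod.ext ((hμk l).2 (D.lineR_le h)) ?_
      exact hM1 l (hRM l h)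

/-- A normal two-subgroup of the normalizer is in the two-group. -/
theorem norm_two_le {g t : G} (hF : Frame z Q vec g t)
    {N : Subgroup ↥(normalizer ((lineSub Q vec : Subgroup G) : Set G))} (hn : N.Normal) (h2 : IsPGroup 2 N) :
    N ≤ (lineR z Q vec φ).subgroupOf (normalizer ((lineSub Q vec : Subgroup G) : Set G)) := by
  obtain ⟨Φ, hs, hk⟩ := D.exists_product hF
  rw [← hk, ← Subgroup.map_eq_bot_iff]
  have hN' := hn.map Φ hs
  have h2' := h2.map Φ
  have hA : (N.map Φ).map (MonoidHom.snd SL32 ↥(alternatingGroup (Fin 6))) = ⊥ := by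
    haveI : IsSimpleGroup ↥(alternatingGroup (Fin 6)) :=
      alternatingGroup.isSimpleGroup (by simp [Nat.card_eq_fintype_card])
    refine ((hN'.map _ Prod.snd_surjective).eq_bot_or_eq_top).resolve_right fun ht => ?_
    haveI : Fact (Nat.Prime 2) := ⟨Nat.prime_two⟩
    obtain ⟨k, hk⟩ := (h2'.map (MonoidHom.snd SL32 ↥(alternatingGroup (Fin 6)))).exists_card_eq
    rw [ht, Subgroup.card_top, nat_card_alternatingGroup] at hk
    simp only [Nat.card_eq_fintype_card, Fintype.card_fin] at hk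
    have h3 : 3 ∣ 2 ^ k := hk ▸ by decide
    exact absurd (Nat.Prime.dvd_of_dvd_pow Nat.prime_three h3) (by norm_num)
  have hS : (N.map Φ).map (MonoidHom.fst SL32 ↥(alternatingGroup (Fin 6))) = ⊥ := by
    haveI := hN'.map _ (show Function.Surjective (MonoidHom.fst SL32 ↥(alternatingGroup (Fin 6))) from Prod.fst_surjective)
    exact MonsterType.Seven.sl_normal_two _ (h2'.map _)
  refine (Subgroup.eq_bot_iff_forall _).2 fun x hx => Prod.ext ?_ ?_
  · exact (Subgroup.eq_bot_iff_forall _).1 hS _ (mem_map_of_mem _ hx)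
  · exact (Subgroup.eq_bot_iff_forall _).1 hA _ (mem_map_of_mem _ hx)

theorem line_isTwo {g : G} (hB : Base z Q vec g) : lineSub Q vec ≤ lineR z Q vec φ := fun q hq =>
  D.cv_Q_le_R (D.line_le hq) (mem_centralizer_iff.2 fun r hr => D.line_comm hB r hr q hq)

/-- Elements of all the conjugates of the meet lie over the line. -/
theorem mem_line_of_all {g t : G} (hF : Frame z Q vec g t) {x : G}
    (h : ∀ l ∈ normalizer ((lineSub Q vec : Subgroup G) : Set G), l * x * l⁻¹ ∈ Q) : x ∈ lineSub Q vec := by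
  obtain ⟨w, -, -, -, hQ', hwL⟩ := D.exists_swap hF.toBase
  have hu : ∀ l ∈ normalizer ((lineSub Q vec : Subgroup G) : Set G), InU (vec (l * x * l⁻¹)) := by
    intro l hl
    refine (D.mem_meet hF.toBase (h l hl)).1 ((hQ' _).2 ?_)
    have h2 := h (w * l) (mul_mem hwL hl)
    rwa [show w * (l * x * l⁻¹) * w⁻¹ = w * l * x * (w * l)⁻¹ by group]
  have hx : x ∈ Q := by simpa using h 1 (one_mem _)
  obtain ⟨X, -, hXw, -⟩ := D.exists_X
  have hXL : (X : G) ∈ normalizer ((lineSub Q vec : Subgroup G) : Set G) :=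
    D.mem_norm hF X (by rw [hXw]; exact ⟨_, rfl⟩) (by rw [hXw, smul_smul]; exact ⟨_, rfl⟩)
  have h1 := hu 1 (one_mem _)
  have h2 := hu X hXL
  rw [one_mul, inv_one, mul_one] at h1
  rw [D.conj X x hx, hXw] at h2
  exact D.mem_line.2 ⟨hx, u_two h1 h2⟩

/-- The centre of the two-group is the eight-group. -/
theorem center_lineR {g t : G} (hF : Frame z Q vec g t) {c : G} (hc : c ∈ lineR z Q vec φ)
    (h : ∀ r ∈ lineR z Q vec φ, r * c = c * r) : c ∈ lineSub Q vec := by
  have hcH : c ∈ centralizer ({z} : Set G) := D.cv_le (D.lineR_le hc)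
  let c' : ↥(centralizer ({z} : Set G)) := ⟨c, hcH⟩
  have hfix : ∀ x, hf x vB = 0 → φ c' x = x := by
    intro x hx
    obtain ⟨q, hq, rfl⟩ := D.surj x
    have hqR := D.cv_Q_le_R hq ((D.mem_cv_Q hF.toBase hq).2 hx)
    rw [← D.conj c' q hq, mul_inv_eq_iff_eq_mul.2 (h q hqR).symm]
  obtain ⟨m, hm4, hm⟩ := R16_enum ((D.mem_lineR.1 hc).2 hcH)
  have hm0 : m = fun _ => false := funext (perp_faith m hm4 fun b hb => by
    rw [← prodP_apply, hm]; exact hfix _ (perp_basis b hb))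
  have h1 : φ c' = 1 := by
    rw [← hm, hm0]
    simp [prodP]
  have hcQ : c ∈ Q := (D.kerφ c').1 h1
  refine D.mem_line.2 ⟨hcQ, perp_two fun y hy => ?_⟩
  obtain ⟨q, hq, rfl⟩ := D.surj y
  exact (D.comm c hcQ q hq).2 (h q (D.cv_Q_le_R hq ((D.mem_cv_Q hF.toBase hq).2 hy))).symm

/-- Squares and commutators lie in the eight-group. -/
theorem lineR_sections {g t : G} (hF : Frame z Q vec g t) :
    (∀ r ∈ lineR z Q vec φ, r * r ∈ lineSub Q vec) ∧
      ∀ a ∈ lineR z Q vec φ, ∀ b ∈ lineR z Q vec φ, a * b * a⁻¹ * b⁻¹ ∈ lineSub Q vec := by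
  have hQ : ∀ r ∈ lineR z Q vec φ, ∀ hr : r ∈ centralizer ({z} : Set G), φ ⟨r, hr⟩ ∈ E32 :=
    fun r hr h => R16_le_E32 ((D.mem_lineR.1 hr).2 h)
  have hH : lineR z Q vec φ ≤ centralizer ({z} : Set G) := D.lineR_le.trans D.cv_le
  constructor
  · intro r hr
    refine D.mem_line_of_all hF fun l hl => ?_
    have hl' := D.norm_R hF.toBase hl hr
    rw [show l * (r * r) * l⁻¹ = l * r * l⁻¹ * (l * r * l⁻¹) by group]
    refine (D.kerφ (⟨_, hH hl'⟩ * ⟨_, hH hl'⟩)).1 ?_
    rw [map_mul]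
    exact E32_sq _ (hQ _ hl' _)
  · intro a ha b hb
    refine D.mem_line_of_all hF fun l hl => ?_
    have ha' := D.norm_R hF.toBase hl ha
    have hb' := D.norm_R hF.toBase hl hb
    rw [show l * (a * b * a⁻¹ * b⁻¹) * l⁻¹ =
      l * a * l⁻¹ * (l * b * l⁻¹) * (l * a * l⁻¹)⁻¹ * (l * b * l⁻¹)⁻¹ by group]
    refine (D.kerφ (⟨_, hH ha'⟩ * ⟨_, hH hb'⟩ * ⟨_, hH ha'⟩⁻¹ * ⟨_, hH hb'⟩⁻¹)).1 ?_
    rw [map_mul, map_mul, map_mul, map_inv, map_inv, E32_comm _ (hQ _ ha' _) _ (hQ _ hb' _), mul_inv_cancel_right,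
      mul_inv_cancel]

/-- The two-group is special with centre the eight-group. -/
theorem lineR_special {g t : G} (hF : Frame z Q vec g t) :
    Cfsg.IsSpecial 2 ↥(lineR z Q vec φ) ∧
      (center ↥(lineR z Q vec φ)).map (lineR z Q vec φ).subtype = lineSub Q vec := by
  classical
  haveI : Fact (Nat.Prime 2) := ⟨Nat.prime_two⟩
  set R := lineR z Q vec φ with hR
  set V := lineSub Q vec with hV
  have hVR : V ≤ R := D.line_isTwo hF.toBase
  have hVc : ∀ v ∈ V, ∀ r ∈ R, r * v = v * r := fun v hv r hr =>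
    (mem_centralizer_iff.1 (D.lineR_le hr) v hv).symm
  have hcen : center ↥R = V.subgroupOf R := by
    ext ⟨c, hc⟩
    rw [mem_center_iff, mem_subgroupOf]
    exact ⟨fun h => D.center_lineR hF hc fun r hr => congrArg Subtype.val (h ⟨r, hr⟩),
      fun h r => Subtype.ext (hVc c h r r.2)⟩
  obtain ⟨hsq, hcomm⟩ := D.lineR_sections hF
  have hcl : commutator ↥R ≤ V.subgroupOf R := by
    rw [_root_.commutator_def]
    refine Subgroup.commutator_le.2 fun a _ b _ => ?_
    rw [mem_subgroupOf, commutatorElement_def]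
    exact hcomm a a.2 b b.2
  have hfr : frattini ↥R ≤ V.subgroupOf R := CfsgLib.FrattiniLe.frattini_le_of_pow_of_commutator
    (fun x => by rw [mem_subgroupOf, Subgroup.coe_pow, pow_two]; exact hsq x x.2) hcl
  -- the derived subgroup is invariant and nontrivial
  set C' := (commutator ↥R).map R.subtype with hC'
  have hC'V : C' ≤ V := by
    rintro _ ⟨x, hx, rfl⟩
    exact hcl hx
  have hinv : ∀ l ∈ normalizer (V : Set G), ∀ x ∈ C', l * x * l⁻¹ ∈ C' := by
    intro l hl
    have hle : C' ≤ C'.comap (MulAut.conj l).toMonoidHom := by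
      rw [hC', _root_.commutator_def, map_commutator, ← MonoidHom.range_eq_map, Subgroup.range_subtype,
        Subgroup.commutator_le]
      intro a ha b hb
      rw [mem_comap, map_commutatorElement]
      exact commutator_mem_commutator (D.norm_R hF.toBase hl ha) (D.norm_R hF.toBase hl hb)
    exact fun x hx => hle hx
  have hne : ∃ x ∈ C', x ≠ 1 := by
    by_contra hcon
    push Not at hcon
    have hab : ∀ a ∈ R, ∀ b ∈ R, a * b = b * a := fun a ha b hb => by
      have h := hcon _ ⟨⁅(⟨a, ha⟩ : R), ⟨b, hb⟩⁆, by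
        rw [_root_.commutator_def]; exact commutator_mem_commutator (mem_top _) (mem_top _), rfl⟩
      exact commutatorElement_eq_one_iff_mul_comm.1 h
    have hle : R ≤ V := fun c hc => D.center_lineR hF hc fun r hr => hab r hr c hc
    have := Subgroup.card_le_of_le hle
    rw [D.card_lineR hF.toBase, D.card_line] at this
    norm_num at this
  obtain ⟨μ, hμ, hμs, -⟩ := D.exists_mu hF
  have hVC : V ≤ C' := by
    intro v hv
    obtain ⟨x, hx, hx1⟩ := hne
    obtain ⟨a, rfl⟩ := D.pt_surj hF (hC'V hx)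
    obtain ⟨b, rfl⟩ := D.pt_surj hF hv
    by_cases hb : b = 0
    · rw [hb, (pt_basis z (g * z * g⁻¹) t).2.2.2]; exact one_mem _
    · obtain ⟨A, hA⟩ := sl_trans a b (fun e => hx1 (by rw [e, (pt_basis z (g * z * g⁻¹) t).2.2.2])) hb
      obtain ⟨l, hl⟩ := hμs A
      have := hinv l l.2 _ hx
      rwa [hμ, hl, hA] at this
  have hco : commutator ↥R = V.subgroupOf R := by
    refine le_antisymm hcl fun x hx => ?_
    obtain ⟨y, hy, e⟩ := hVC hx
    exact (show y = x from Subtype.ext e) ▸ hy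
  have hp : IsPGroup 2 ↥R := D.lineR_two hF.toBase
  refine ⟨⟨hp, le_antisymm (hcen ▸ hfr) ?_, hco.trans hcen.symm⟩, ?_⟩
  · rw [hcen, ← hco]
    exact CfsgLib.Coprime.commutator_le_frattini hp
  · rw [hcen]
    exact Subgroup.map_subgroupOf_eq_of_le hVR

/-- The local subgroup. -/
theorem line_local {g : G} (hgQ : g * z * g⁻¹ ∈ Q) (hne : g * z * g⁻¹ ≠ z) :
    ∃ V R : Subgroup G, Cfsg.IsElementaryAbelian 2 V ∧ Nat.card V = 8 ∧ z ∈ V ∧
      R = (Cfsg.pCore 2 ↥(normalizer (V : Set G))).map (normalizer (V : Set G)).subtype ∧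
      Cfsg.IsSpecial 2 ↥R ∧ Nat.card R = 2 ^ 15 ∧ (center ↥R).map R.subtype = V ∧
      ∃ _ : (R.subgroupOf (normalizer (V : Set G))).Normal,
        Nonempty (↥(normalizer (V : Set G)) ⧸ R.subgroupOf (normalizer (V : Set G)) ≃*
          SL32 × ↥(alternatingGroup (Fin 6))) := by
  obtain ⟨g', t, hF⟩ := D.exists_frame hgQ hne
  set V := lineSub Q vec with hV
  set R := lineR z Q vec φ with hR
  set L := normalizer (V : Set G) with hL
  have hRL : R ≤ L := D.lineR_le.trans D.cv_norm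
  obtain ⟨Φ, hs, hk⟩ := D.exists_product hF
  have hn : (R.subgroupOf L).Normal := hk ▸ Φ.normal_ker
  have hp2 : IsPGroup 2 ↥(R.subgroupOf L) :=
    (D.lineR_two hF.toBase).of_equiv (Subgroup.subgroupOfEquivOfLe hRL).symm
  have hcore : Cfsg.pCore 2 ↥L = R.subgroupOf L :=
    le_antisymm (sSup_le fun N hN => D.norm_two_le hF hN.1 hN.2) (le_sSup ⟨hn, hp2⟩)
  obtain ⟨hsp, hc⟩ := D.lineR_special hF
  refine ⟨V, R, ⟨⟨⟨fun a b => Subtype.ext (D.line_comm hF.toBase a a.2 b b.2)⟩⟩, fun a ha => ?_⟩, D.card_line,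
    D.z_line, ?_, hsp, D.card_lineR hF.toBase, hc, hn, ?_⟩
  · rw [pow_two]; exact D.line_sq hF.toBase a ha
  · rw [hcore, Subgroup.map_subgroupOf_eq_of_le hRL]
  · exact ⟨(QuotientGroup.quotientMulEquivOfEq hk.symm).trans (QuotientGroup.quotientKerEquivOfSurjective Φ hs)⟩

end Data

end CfsgLib.Spor.LargeFischer
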