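import Cfsg.Agent.Lib.Spor.U43Six.Main
import Cfsg.Agent.Lib.Spor.LargeFischer.AutoData

/-!
# The linear and semilinear maps normalizing the triple cover, as permutations of the vectors
-/

set_option autoImplicit false
set_option maxRecDepth 100000

namespace CfsgLib.Spor.LargeFischer

open Matrix Subgroup CfsgLib.Spor.U43Six CfsgLib.Spor.Fi22.U6

/-- The action of a unitary element on the vectors. -/
def lin : G6 →* Equiv.Perm V6 where
  toFun g :=
    { toFun := fun v => mat6 g *ᵥ v
      invFun := fun v => mat6 g⁻¹ *ᵥ v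
      left_inv := fun v => by
        show mat6 g⁻¹ *ᵥ (mat6 g *ᵥ v) = v
        rw [mulVec_mulVec, ← mat_mul, inv_mul_cancel, mat_one, one_mulVec]
      right_inv := fun v => by
        show mat6 g *ᵥ (mat6 g⁻¹ *ᵥ v) = v
        rw [mulVec_mulVec, ← mat_mul, mul_inv_cancel, mat_one, one_mulVec] }
  map_one' := Equiv.ext fun v => by
    show mat6 1 *ᵥ v = v
    rw [mat_one, one_mulVec]
  map_mul' g h := Equiv.ext fun v => by
    show mat6 (g * h) *ᵥ v = mat6 g *ᵥ (mat6 h *ᵥ v)
    rw [mat_mul, mulVec_mulVec]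

theorem lin_apply (g : G6) (v : V6) : lin g v = mat6 g *ᵥ v := rfl

theorem lin_injective : Function.Injective lin := fun g h e =>
  mat_inj (ext_iff_mulVec.2 fun v => DFunLike.congr_fun e v)

/-- The field automorphism on vectors. -/
def frob : Equiv.Perm V6 :=
  Function.Involutive.toPerm (fun v r => v r ^ 2) fun v => funext fun r => sq_sq (v r)

theorem frob_apply (v : V6) (r : Fin 6) : frob v r = v r ^ 2 := rfl

theorem frob_sq : frob * frob = 1 := Equiv.ext fun v => funext fun r => sq_sq (v r)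

theorem frob_inv : frob⁻¹ = frob := inv_eq_of_mul_eq_one_right frob_sq

theorem map_sq_sq (A : M6) : (A.map fun x => x ^ 2).map (fun x => x ^ 2) = A := by
  ext i j
  simp [sq_sq]

/-- The field automorphism on unitary elements. -/
def frEl (g : G6) : G6 :=
  mkG ((mat6 g).map fun x => x ^ 2) ⟨by
    have h : ((mat6 g).map fun x => x ^ 2).det = (mat6 g).det ^ 2 := (RingHom.map_det sqh (mat6 g)).symm
    rw [h, g.1.2, one_pow], by
    rw [← transpose_map, ← map_sq_mul, unitary g]
    exact Matrix.map_one (fun x : Four => x ^ 2) (zero_pow two_ne_zero) (one_pow 2)⟩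

theorem mat_frEl (g : G6) : mat6 (frEl g) = (mat6 g).map fun x => x ^ 2 := rfl

theorem frEl_mul (g h : G6) : frEl (g * h) = frEl g * frEl h := mat_inj (by
  rw [mat_mul, mat_frEl, mat_frEl, mat_frEl, mat_mul, map_sq_mul])

theorem frEl_frEl (g : G6) : frEl (frEl g) = g := mat_inj (map_sq_sq (mat6 g))

theorem frob_lin (g : G6) : frob * lin g = lin (frEl g) * frob := Equiv.ext fun v => funext fun r => by
  show (mat6 g *ᵥ v) r ^ 2 = (((mat6 g).map fun x => x ^ 2) *ᵥ fun i => v i ^ 2) r
  simp only [mulVec, dotProduct, map_apply, sq_sum, mul_pow]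

theorem hf_frob (x y : V6) : hf (frob x) (frob y) = hf x y ^ 2 := by
  simp only [hf, Cfsg.hermForm, sq_sum, mul_pow, frob_apply]

theorem auto_ok : ∀ k : Fin 4, (∀ j ∈ (Auto.words.getD k.1 ([], 0)).1, j < 4) ∧
    colsOK Data.abRows (Auto.words.getD k.1 ([], 0)).1 (Auto.trajs.getD k.1 [])
      (ofN (Auto.words.getD k.1 ([], 0)).2 • (if k.1 < 2 then (tmat Data.abRows k.1).map (fun x => x ^ 2)
        else mon (Equiv.swap 0 1) 0 * tmat Data.abRows (k.1 - 2) * mon (Equiv.swap 0 1) 0)) = true := by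
  decide +kernel

theorem auto_mem (k : Fin 4) {g : G6}
    (hg : mat6 g = if k.1 < 2 then (tmat Data.abRows k.1).map (fun x => x ^ 2)
      else mon (Equiv.swap 0 1) 0 * tmat Data.abRows (k.1 - 2) * mon (Equiv.swap 0 1) 0) : g ∈ K1 := by
  obtain ⟨hw, hcols⟩ := auto_ok k
  obtain ⟨x, hx, hm⟩ := word_mem hw
  rw [cols_spec hcols, ← hg] at hm
  exact scalar_mul_mem scalars_le hx hm

theorem mat_sw_inv : mat6 sw⁻¹ = mon (Equiv.swap 0 1) 0 := mat_inv_of (by
  rw [sw, mat_mo, mon_mul, Equiv.swap_mul_self, ← mon_one]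
  exact congrArg _ (funext fun c => by simp))

theorem sw_inv : sw⁻¹ = sw := mat_inj (mat_sw_inv.trans (mat_mo _ _ _).symm)

theorem frEl_mem {g : G6} (hg : g ∈ K1) : frEl g ∈ K1 := by
  let f : G6 →* G6 := MonoidHom.mk' frEl frEl_mul
  have h : K1 ≤ K1.comap f := by
    refine (closure_le _).2 ?_
    rintro x (rfl | rfl)
    · exact auto_mem 0 rfl
    · exact auto_mem 1 rfl
  exact h hg

theorem sw_conj_mem {g : G6} (hg : g ∈ K1) : sw * g * sw⁻¹ ∈ K1 := by
  have h : K1 ≤ K1.comap (MulAut.conj sw).toMonoidHom := by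
    refine (closure_le _).2 ?_
    rintro x (rfl | rfl)
    · refine auto_mem 2 ?_
      show mat6 (sw * gab 0 * sw⁻¹) = _
      rw [mat_mul, mat_mul, mat_sw_inv]
      rfl
    · refine auto_mem 3 ?_
      show mat6 (sw * gab 1 * sw⁻¹) = _
      rw [mat_mul, mat_mul, mat_sw_inv]
      rfl
  exact h hg

/-- The permutations given by the triple cover. -/
def KP : Subgroup (Equiv.Perm V6) := K1.map lin

theorem lin_mem_KP {g : G6} : lin g ∈ KP ↔ g ∈ K1 :=
  ⟨fun ⟨x, hx, e⟩ => lin_injective e ▸ hx, fun h => ⟨g, h, rfl⟩⟩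

/-- The three candidates for the outer map. -/
inductive Outer
  /-- linear -/
  | sw
  /-- field -/
  | fr
  /-- both -/
  | frsw
  deriving DecidableEq

instance : Fintype Outer := ⟨{.sw, .fr, .frsw}, fun o => by cases o <;> simp⟩

/-- The permutation of a candidate. -/
def Outer.perm : Outer → Equiv.Perm V6
  | .sw => lin U43Six.sw
  | .fr => frob
  | .frsw => frob * lin U43Six.sw

theorem Outer.conj_mem (o : Outer) {k : G6} (hk : k ∈ K1) :
    ∃ k' ∈ K1, o.perm * lin k = lin k' * o.perm := by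
  cases o
  · exact ⟨_, sw_conj_mem hk, by
      show lin U43Six.sw * lin k = _ * lin U43Six.sw
      rw [← map_mul, ← map_mul, inv_mul_cancel_right]⟩
  · exact ⟨_, frEl_mem hk, frob_lin k⟩
  · refine ⟨_, frEl_mem (sw_conj_mem hk), ?_⟩
    show frob * lin U43Six.sw * lin k = _ * (frob * lin U43Six.sw)
    rw [← mul_assoc (lin _), ← frob_lin, mul_assoc, mul_assoc, ← map_mul, ← map_mul, inv_mul_cancel_right]

theorem Outer.sq_one (o : Outer) : o.perm * o.perm = 1 := by
  have hsw : lin U43Six.sw * lin U43Six.sw = 1 := by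
    nth_rewrite 1 [← sw_inv]
    rw [map_inv, inv_mul_cancel]
  cases o
  · exact hsw
  · exact frob_sq
  · show frob * lin U43Six.sw * (frob * lin U43Six.sw) = 1
    have h : frEl U43Six.sw = U43Six.sw := mat_inj (by
      rw [mat_frEl, U43Six.sw, mat_mo]
      decide +kernel)
    have h2 : frob * lin U43Six.sw = lin U43Six.sw * frob := by rw [frob_lin, h]
    rw [h2, mul_assoc, ← h2, ← mul_assoc frob frob, frob_sq, one_mul, hsw]

end CfsgLib.Spor.LargeFischer
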