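import Cfsg.Agent.Lib.Spor.U43Six.Main
import Mathlib.LinearAlgebra.Matrix.GeneralLinearGroup.Card

/-!
# The four-dimensional unitary simple group over nine elements has no small representation in characteristic two

A representation of dimension ten would give this group an abelian subgroup of order 243, because the Sylow
subgroups at three of the general linear group have one.
-/

set_option autoImplicit false
set_option maxRecDepth 100000

namespace CfsgLib.Spor.LargeFischer

open Subgroup CfsgLib.Spor.U43Six CfsgLib.Spor.Fi22.U6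

/-- The order of a preimage under a surjection. -/
theorem card_comap_surj {M N : Type*} [Group M] [Group N] (q : M →* N) (hq : Function.Surjective q)
    (Y : Subgroup N) : Nat.card (Y.comap q) = Nat.card q.ker * Nat.card Y := by
  let r : Y.comap q →* Y := q.subgroupComap Y
  have hr : Function.Surjective r := fun y => by
    obtain ⟨x, hx⟩ := hq y.1
    exact ⟨⟨x, by rw [Subgroup.mem_comap, hx]; exact y.2⟩, Subtype.ext hx⟩
  have hle : q.ker ≤ Y.comap q := fun x hx => show q x ∈ Y by
    rw [MonoidHom.mem_ker.1 hx]; exact one_mem _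
  rw [Subgroup.card_eq_card_quotient_mul_card_subgroup r.ker,
    Nat.card_congr (QuotientGroup.quotientKerEquivOfSurjective r hr).toEquiv,
    show r.ker = q.ker.subgroupOf (Y.comap q) by
      ext x; rw [MonoidHom.mem_ker, Subgroup.mem_subgroupOf, MonoidHom.mem_ker, Subtype.ext_iff]; rfl,
    Nat.card_congr (Subgroup.subgroupOfEquivOfLe hle).toEquiv, mul_comm]

theorem gl_three : ∀ k ≤ 11, ¬ 3 ^ 7 ∣ ∏ i : Fin k, (2 ^ k - 2 ^ (i : ℕ)) := by decide +kernel

theorem gl_three_small : ∀ k ≤ 9, ¬ 3 ^ 6 ∣ ∏ i : Fin k, (2 ^ k - 2 ^ (i : ℕ)) := by decide +kernel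

/-- The order of a general linear group over two elements. -/
theorem card_gl (k : ℕ) : Nat.card (GL (Fin k) (ZMod 2)) = ∏ i : Fin k, (2 ^ k - 2 ^ (i : ℕ)) := by
  rw [Matrix.card_GL_field, ZMod.card]

/-- The companion matrix of the primitive cube roots of one. -/
def cw : Matrix (Fin 2) (Fin 2) (ZMod 2) := !![0, 1; 1, 1]

theorem cw_add : ∀ a b : ZMod 3, cw ^ a.val * cw ^ b.val = cw ^ (a + b).val := by decide +kernel

theorem cw_inj : ∀ a b : ZMod 3, cw ^ a.val = cw ^ b.val → a = b := by decide +kernel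

/-- Five commuting blocks. -/
def blocks : Multiplicative (Fin 5 → ZMod 3) →* Matrix (Fin 10) (Fin 10) (ZMod 2) where
  toFun c := Matrix.reindexAlgEquiv (ZMod 2) (ZMod 2) finProdFinEquiv
    (Matrix.blockDiagonal fun i => cw ^ ((Multiplicative.toAdd c) i).val)
  map_one' := by
    rw [show (fun i : Fin 5 => cw ^ ((Multiplicative.toAdd (1 : Multiplicative (Fin 5 → ZMod 3))) i).val) = 1 from
      funext fun i => by simp]
    simp
  map_mul' a b := by
    rw [← map_mul, ← Matrix.blockDiagonal_mul]
    exact congrArg _ (congrArg _ (funext fun i => (cw_add _ _).symm))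

theorem blocks_injective : Function.Injective blocks := fun a b h => by
  have h1 := Matrix.blockDiagonal_injective ((Matrix.reindexAlgEquiv (ZMod 2) (ZMod 2)
    (finProdFinEquiv : Fin 2 × Fin 5 ≃ Fin 10)).injective h)
  exact Multiplicative.toAdd.injective (funext fun i => cw_inj _ _ (congrFun h1 i))

theorem card_coord : ∀ i : Fin 2, (Finset.univ.filter fun c : Fin 5 → ZMod 3 => c i.castSucc.castSucc.castSucc = 0).card = 81 := by
  decide +kernel

variable {F : Type*} [Field F] [Fintype F] (hF : Fintype.card F = 9)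

include hF

/-- No subgroup of order 243 of the simple group is abelian. -/
theorem no_abelian_243 (ω : Multiplicative (Fin 5 → ZMod 3) →* Cfsg.PSU 4 F 3) : ¬ Function.Injective ω := by
  intro hω
  haveI : Finite G6 := Nat.finite_of_card_ne_zero (by rw [card_G6]; norm_num)
  obtain ⟨f, hf, hker⟩ := exists_onto hF
  have hkf : Nat.card f.ker = 3 := by
    rw [hker, Nat.card_congr (subgroupOfEquivOfLe scalars_le).toEquiv, card_scalars]
  let P : Subgroup G6 := (ω.range.comap f).map K1.subtype
  have hcP : Nat.card P = 3 ^ 6 := by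
    rw [← Nat.card_congr ((ω.range.comap f).equivMapOfInjective _ Subtype.val_injective).toEquiv,
      card_comap_surj f hf, hkf, ← Nat.card_congr (MonoidHom.ofInjective hω).toEquiv, Nat.card_eq_fintype_card]
    rfl
  obtain ⟨g, hg⟩ := conj_into_PG (IsPGroup.of_card (p := 3) (n := 6) hcP)
  let π : Fin 2 → (Multiplicative (Fin 5 → ZMod 3) →* Multiplicative (ZMod 3)) := fun i =>
    AddMonoidHom.toMultiplicative (Pi.evalAddMonoidHom (fun _ => ZMod 3) i.castSucc.castSucc.castSucc)
  let B : Fin 2 → Subgroup K1 := fun i => ((π i).ker.map ω).comap f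
  let B' : Fin 2 → Subgroup G6 := fun i => (B i).map ((MulAut.conj g).toMonoidHom.comp K1.subtype)
  have hinj : Function.Injective ((MulAut.conj g).toMonoidHom.comp K1.subtype) :=
    (MulAut.conj g).injective.comp Subtype.val_injective
  have hB : ∀ i, B' i = DG := fun i => by
    refine eq_DG ?_ ?_ ?_
    · rintro _ ⟨x, hx, rfl⟩
      refine hg _ ⟨x, ?_, rfl⟩
      obtain ⟨c, -, hc⟩ := hx
      exact ⟨c, hc⟩
    · rw [← Nat.card_congr ((B i).equivMapOfInjective _ hinj).toEquiv, card_comap_surj f hf, hkf,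
        ← Nat.card_congr ((π i).ker.equivMapOfInjective ω hω).toEquiv]
      have e : Nat.card (π i).ker = 81 := by
        rw [← card_coord i, ← Nat.card_eq_finsetCard]
        exact Nat.card_congr (Equiv.subtypeEquiv Multiplicative.toAdd fun c => by
          simp only [π, MonoidHom.mem_ker, Finset.mem_filter, Finset.mem_univ, true_and]
          rfl)
      rw [e]
    · rintro _ ⟨x, hx, rfl⟩ _ ⟨y, hy, rfl⟩
      obtain ⟨c, -, hc⟩ := hx
      obtain ⟨d, -, hd⟩ := hy
      have hmem : x * y * x⁻¹ * y⁻¹ ∈ f.ker := by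
        rw [MonoidHom.mem_ker, map_mul, map_mul, map_mul, map_inv, map_inv, ← hc, ← hd, ← map_inv, ← map_inv,
          ← map_mul, ← map_mul, ← map_mul, mul_comm c d, mul_inv_cancel_right, mul_inv_cancel, map_one]
      rw [hker] at hmem
      rw [← map_inv, ← map_inv, ← map_mul, ← map_mul, ← map_mul]
      show g * ((x * y * x⁻¹ * y⁻¹ : K1) : G6) * g⁻¹ ∈ scalars
      have hmem' : ((x * y * x⁻¹ * y⁻¹ : K1) : G6) ∈ scalars := hmem
      rw [scalars_comm hmem' g, mul_inv_cancel_right]
      exact hmem'
  have hBB : B 0 = B 1 := Subgroup.map_injective hinj ((hB 0).trans (hB 1).symm)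
  have hKK : (π 0).ker = (π 1).ker := Subgroup.map_injective hω (Subgroup.comap_injective hf hBB)
  have h0 : Multiplicative.ofAdd (Pi.single (1 : Fin 5) (1 : ZMod 3)) ∈ (π 0).ker := by decide
  rw [hKK] at h0
  revert h0
  decide

/-- A representation over two elements of dimension at most ten is trivial. -/
theorem psu_trivial {k : ℕ} (hk : k ≤ 10) (ρ : Cfsg.PSU 4 F 3 →* GL (Fin k) (ZMod 2)) : ρ = 1 := by
  haveI := Fact.mk Nat.prime_three
  haveI := psu43_simple hF
  haveI : Finite (Cfsg.PSU 4 F 3) := Nat.finite_of_card_ne_zero (by rw [card_psu43 hF]; norm_num)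
  rcases IsSimpleGroup.eq_bot_or_eq_top_of_normal _ (MonoidHom.normal_ker ρ) with h | h
  swap
  · exact MonoidHom.ext fun x => MonoidHom.mem_ker.1 (h ▸ Subgroup.mem_top x)
  exfalso
  have hinj := (MonoidHom.ker_eq_bot_iff ρ).1 h
  have hcard : Nat.card ρ.range = 3265920 := by
    rw [← Nat.card_congr (MonoidHom.ofInjective hinj).toEquiv, card_psu43 hF]
  have hdvd := hcard ▸ Subgroup.card_subgroup_dvd_card ρ.range
  rw [card_gl] at hdvd
  have hk10 : k = 10 := by
    by_contra hne
    exact gl_three_small k (by omega) (dvd_trans (by norm_num) hdvd)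
  subst hk10
  obtain ⟨P⟩ : Nonempty (Sylow 3 (Cfsg.PSU 4 F 3)) := inferInstance
  have hP : Nat.card (P : Subgroup (Cfsg.PSU 4 F 3)) = 3 ^ 6 := by
    rw [P.card_eq_multiplicity, card_psu43 hF, show (3265920 : ℕ) = 3 ^ 6 * 4480 by norm_num,
      Nat.factorization_mul (by norm_num) (by norm_num), Finsupp.add_apply,
      Nat.Prime.factorization_pow Nat.prime_three, Finsupp.single_eq_same,
      Nat.factorization_eq_zero_of_not_dvd (by norm_num)]
  have hg10 : (Nat.card (GL (Fin 10) (ZMod 2))).factorization 3 = 6 := by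
    rw [card_gl, show (∏ i : Fin 10, (2 ^ 10 - 2 ^ (i : ℕ))) = 3 ^ 6 * 502661368038337624722636800 by decide +kernel,
      Nat.factorization_mul (by norm_num) (by norm_num), Finsupp.add_apply,
      Nat.Prime.factorization_pow Nat.prime_three, Finsupp.single_eq_same,
      Nat.factorization_eq_zero_of_not_dvd (by norm_num)]
  let S : Sylow 3 (GL (Fin 10) (ZMod 2)) := Sylow.ofCard ((P : Subgroup (Cfsg.PSU 4 F 3)).map ρ) (by
    rw [← Nat.card_congr ((P : Subgroup (Cfsg.PSU 4 F 3)).equivMapOfInjective ρ hinj).toEquiv, hP, hg10])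
  let j : Multiplicative (Fin 5 → ZMod 3) →* GL (Fin 10) (ZMod 2) := blocks.toHomUnits
  have hj : Function.Injective j := fun a b e => blocks_injective (congrArg Units.val e)
  have hj3 : IsPGroup 3 j.range := IsPGroup.of_card (n := 5) (by
    rw [← Nat.card_congr (MonoidHom.ofInjective hj).toEquiv, Nat.card_eq_fintype_card]
    rfl)
  obtain ⟨S', hS'⟩ := hj3.exists_le_sylow
  obtain ⟨g, hg⟩ := MulAction.exists_smul_eq (GL (Fin 10) (ZMod 2)) S' S
  have hmem : ∀ c, g * j c * g⁻¹ ∈ ρ.range := fun c => by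
    have h1 : g * j c * g⁻¹ ∈ (↑(g • S') : Subgroup (GL (Fin 10) (ZMod 2))) := by
      rw [Sylow.smul_def]
      exact ⟨j c, hS' ⟨c, rfl⟩, rfl⟩
    rw [hg] at h1
    obtain ⟨x, -, hx⟩ := h1
    exact ⟨x, hx⟩
  let ω : Multiplicative (Fin 5 → ZMod 3) →* Cfsg.PSU 4 F 3 :=
    ((MonoidHom.ofInjective hinj).symm.toMonoidHom).comp
      (((MulAut.conj g).toMonoidHom.comp j).codRestrict ρ.range hmem)
  refine no_abelian_243 hF ω ((MonoidHom.ofInjective hinj).symm.injective.comp fun a b e => hj ?_)
  exact (MulAut.conj g).injective (congrArg Subtype.val e)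

omit hF in
/-- The order of the triple cover does not divide the order of a general linear group of dimension below twelve. -/
theorem not_embed {M : Type*} [Group M] {k : ℕ} (hk : k ≤ 11) (h : 3 ^ 7 ∣ Nat.card M)
    (ρ : M →* GL (Fin k) (ZMod 2)) : ¬ Function.Injective ρ := fun hinj =>
  gl_three k hk (card_gl k ▸ h.trans (Subgroup.card_dvd_of_injective ρ hinj))

end CfsgLib.Spor.LargeFischer
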