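import Cfsg.Agent.Lib.Spor.LargeFischer.Quad
import Cfsg.Agent.Lib.Spor.LargeFischer.Small

/-!
# The element of order three acts without fixed points

The quadratic space of a large Fischer type centralizer is a module of dimension six over four elements.
-/

set_option autoImplicit false

namespace CfsgLib.Spor.LargeFischer

open Subgroup CfsgLib.Spor.U43Six CfsgLib.Spor.Fi22.U6

universe u

variable {C : Type u} [Group C] [Finite C]

/-- An element outside `Q` generating a normal subgroup of order three modulo `Q` commutes modulo `Q` with `M`. -/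
theorem commutes_mod {Q N M : Subgroup C} [Q.Normal] [N.Normal] [M.Normal] (hQN : Q ≤ N) (hNM : N ≤ M)
    (hcN : Nat.card N = 3 * Nat.card Q) {F : Type*} [Field F] [Fintype F] (hF : Fintype.card F = 9)
    (e : M ⧸ N.subgroupOf M ≃* Cfsg.PSU 4 F 3) :
    ∀ X ∈ N, ∀ m ∈ M, (m * X * m⁻¹)⁻¹ * X ∈ Q := by
  classical
  intro X hX
  let π := QuotientGroup.mk' Q
  let Nb : Subgroup (C ⧸ Q) := N.map π
  have hcNb : Nat.card Nb = 3 := by
    have h1 : Nat.card (Nb.comap π) = Nat.card π.ker * Nat.card Nb :=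
      card_comap_surj π (QuotientGroup.mk'_surjective Q) Nb
    rw [Subgroup.comap_map_eq, QuotientGroup.ker_mk', sup_eq_left.2 hQN, hcN] at h1
    have hQpos : 0 < Nat.card Q := Nat.card_pos
    exact (Nat.eq_of_mul_eq_mul_left hQpos (by rw [← h1, mul_comm])).symm
  haveI : Nb.Normal := Subgroup.Normal.map inferInstance π (QuotientGroup.mk'_surjective Q)
  haveI : IsCyclic Nb := isCyclic_of_prime_card (hp := ⟨Nat.prime_three⟩) hcNb
  let ψ : M →* MulAut Nb := (MulAut.conjNormal.comp π).comp M.subtype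
  have hNker : N.subgroupOf M ≤ ψ.ker := fun m hm => by
    rw [MonoidHom.mem_ker]
    refine MulEquiv.ext fun b => Subtype.ext ?_
    show π (m : C) * b * (π (m : C))⁻¹ = b
    have h := congrArg Subtype.val (mul_comm' (⟨π (m : C), ⟨_, hm, rfl⟩⟩ : Nb) b)
    rw [show π (m : C) * (b : C ⧸ Q) = b * π (m : C) from h, mul_inv_cancel_right]
  have hcard : Nat.card (MulAut Nb) ≤ 2 := by
    haveI : Fintype Nb := Fintype.ofFinite _
    obtain ⟨a, ha⟩ := IsCyclic.exists_generator (α := Nb)
    have ha1 : a ≠ 1 := fun h => by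
      have h2 : ∀ x : Nb, x = 1 := fun x => by
        obtain ⟨n, hn⟩ := mem_zpowers_iff.1 (ha x)
        rw [← hn, h, one_zpow]
      haveI : Subsingleton Nb := ⟨fun x y => (h2 x).trans (h2 y).symm⟩
      rw [Nat.card_unique] at hcNb
      omega
    let f : MulAut Nb → {x : Nb // x ≠ 1} := fun σ => ⟨σ a, fun h => ha1 (σ.injective (h.trans (map_one σ).symm))⟩
    have hf : Function.Injective f := fun σ τ h => MulEquiv.ext fun x => by
      obtain ⟨n, hn⟩ := mem_zpowers_iff.1 (ha x)
      rw [← hn, map_zpow, map_zpow, show σ a = τ a from congrArg (fun y : {x : Nb // x ≠ 1} => y.1) h]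
    refine (Nat.card_le_card_of_injective f hf).trans ?_
    rw [Nat.card_eq_fintype_card, Fintype.card_subtype_compl, Fintype.card_subtype_eq, ← Nat.card_eq_fintype_card,
      hcNb]
  haveI := psu43_simple hF
  haveI : Finite (Cfsg.PSU 4 F 3) := Nat.finite_of_card_ne_zero (by rw [card_psu43 hF]; norm_num)
  let ψ' : Cfsg.PSU 4 F 3 →* MulAut Nb := (QuotientGroup.lift _ ψ hNker).comp e.symm.toMonoidHom
  have htriv : ψ' = 1 := by
    rcases IsSimpleGroup.eq_bot_or_eq_top_of_normal _ (MonoidHom.normal_ker ψ') with h | h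
    · have h1 := Nat.card_le_card_of_injective ψ' ((MonoidHom.ker_eq_bot_iff ψ').1 h)
      rw [card_psu43 hF] at h1
      omega
    · exact MonoidHom.ext fun x => MonoidHom.mem_ker.1 (h ▸ Subgroup.mem_top x)
  intro m hm
  have h1 : ψ ⟨m, hm⟩ = 1 := by
    have h2 := DFunLike.congr_fun htriv (e (QuotientGroup.mk ⟨m, hm⟩))
    simp only [ψ', MonoidHom.comp_apply, MulEquiv.coe_toMonoidHom, MulEquiv.symm_apply_apply,
      QuotientGroup.lift_mk, MonoidHom.one_apply] at h2
    exact h2
  have h2 := congrArg Subtype.val (DFunLike.congr_fun h1 (⟨π X, ⟨X, hX, rfl⟩⟩ : Nb))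
  have h3 : π m * π X * (π m)⁻¹ = π X := h2
  rw [← map_inv, ← map_mul, ← map_mul] at h3
  exact QuotientGroup.eq.1 h3

/-- The endomorphism of a four-element scalar from a fixed-point-free map of order three. -/
def scalEnd {V : Type u} [AddCommGroup V] (T : AddMonoid.End V) : Four → AddMonoid.End V
  | .o => 0
  | .e => 1
  | .w => T
  | .u => 1 + T

/-- The scalars as a ring homomorphism. -/
noncomputable def scalHom {V : Type u} [AddCommGroup V] (T : AddMonoid.End V) (h2 : ∀ v : V, v + v = 0)
    (hT : T * T = 1 + T) : Four →+* AddMonoid.End V where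
  toFun := scalEnd T
  map_one' := rfl
  map_zero' := rfl
  map_mul' a b := by
    have hE : ∀ f : AddMonoid.End V, f + f = 0 := fun f => AddMonoidHom.ext fun v => h2 (f v)
    cases a <;> cases b <;>
      simp only [scalEnd, show ∀ x, Four.o * x = Four.o from by decide, show ∀ x, x * Four.o = Four.o from by decide,
        show ∀ x, Four.e * x = x from by decide, show ∀ x, x * Four.e = x from by decide,
        show Four.w * Four.w = Four.u from rfl, show Four.w * Four.u = Four.e from rfl,
        show Four.u * Four.w = Four.e from rfl, show Four.u * Four.u = Four.w from rfl,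
        zero_mul, mul_zero, one_mul, mul_one, mul_add, add_mul, hT]
    all_goals
      have hE' : ∀ f g : AddMonoid.End V, f + (f + g) = g := fun f g => by rw [← add_assoc, hE, zero_add]
      simp [hE, hE', add_comm, add_left_comm, add_assoc]
  map_add' a b := by
    have hE : ∀ f : AddMonoid.End V, f + f = 0 := fun f => AddMonoidHom.ext fun v => h2 (f v)
    cases a <;> cases b <;>
      simp only [scalEnd, show ∀ x, Four.o + x = x from by decide, show ∀ x, x + Four.o = x from by decide,
        show Four.e + Four.e = Four.o from rfl, show Four.e + Four.w = Four.u from rfl,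
        show Four.e + Four.u = Four.w from rfl, show Four.w + Four.e = Four.u from rfl,
        show Four.w + Four.w = Four.o from rfl, show Four.w + Four.u = Four.e from rfl,
        show Four.u + Four.e = Four.w from rfl, show Four.u + Four.w = Four.e from rfl,
        show Four.u + Four.u = Four.o from rfl, zero_add, add_zero, hE]
    all_goals
      have hE' : ∀ f g : AddMonoid.End V, f + (f + g) = g := fun f g => by rw [← add_assoc, hE, zero_add]
      simp [hE, hE', add_comm, add_left_comm]

/-- The element of order three modulo `Q` acts on the quadratic space without fixed points. -/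
theorem fixed_point_free {Q N M : Subgroup C} [Q.Normal] [N.Normal] [M.Normal] (hQN : Q ≤ N) (hNM : N ≤ M)
    (hcN : Nat.card N = 3 * Nat.card Q) (hcQ : Nat.card Q = 2 ^ 13) {F : Type*} [Field F] [Fintype F]
    (hF : Fintype.card F = 9) (e : M ⧸ N.subgroupOf M ≃* Cfsg.PSU 4 F 3) {V : Type u} [AddCommGroup V]
    (D : QuadSpace Q V) :
    ∃ X ∈ N, X ∉ Q ∧ X ^ 3 ∈ Q ∧ D.φ X * D.φ X = 1 + D.φ X ∧ (∀ m ∈ M, D.φ m * D.φ X = D.φ X * D.φ m) ∧
      ∀ n ∈ N, D.φ n = 1 ∨ D.φ n = D.φ X ∨ D.φ n = D.φ X * D.φ X := by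
  classical
  haveI : Finite V := Finite.of_surjective D.p D.surj
  obtain ⟨X, hXN, hXQ⟩ : ∃ X ∈ N, X ∉ Q := by
    by_contra hcon
    push Not at hcon
    have h := Subgroup.card_le_of_le (show N ≤ Q from hcon)
    rw [hcN, hcQ] at h
    omega
  let π := QuotientGroup.mk' Q
  let Nb : Subgroup (C ⧸ Q) := N.map π
  have hcNb : Nat.card Nb = 3 := by
    have h1 : Nat.card (Nb.comap π) = Nat.card π.ker * Nat.card Nb :=
      card_comap_surj π (QuotientGroup.mk'_surjective Q) Nb
    rw [Subgroup.comap_map_eq, QuotientGroup.ker_mk', sup_eq_left.2 hQN, hcN, hcQ] at h1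
    omega
  have hX3 : X ^ 3 ∈ Q := by
    have h := congrArg Subtype.val (pow_card_eq_one' (G := Nb) (x := ⟨π X, ⟨X, hXN, rfl⟩⟩))
    rw [hcNb] at h
    exact (QuotientGroup.eq_one_iff _).1 h
  have hcM : ∀ m ∈ M, D.φ m * D.φ X = D.φ X * D.φ m := fun m hm => by
    have h := (D.kerφ _).2 (commutes_mod hQN hNM hcN hF e X hXN m hm)
    calc D.φ m * D.φ X = D.φ (m * X * m⁻¹) * D.φ m := by rw [← map_mul, ← map_mul, inv_mul_cancel_right]
      _ = D.φ (m * X * m⁻¹) * D.φ ((m * X * m⁻¹)⁻¹ * X) * D.φ m := by rw [h, mul_one]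
      _ = D.φ X * D.φ m := by rw [← map_mul (D.φ) (m * X * m⁻¹), mul_inv_cancel_left]
  have hgen : ∀ n ∈ N, D.φ n = 1 ∨ D.φ n = D.φ X ∨ D.φ n = D.φ X * D.φ X := by
    intro n hn
    have h1 : (⟨π n, ⟨n, hn, rfl⟩⟩ : Nb) ∈ zpowers (⟨π X, ⟨X, hXN, rfl⟩⟩ : Nb) :=
      mem_zpowers_of_prime_card (hp := ⟨Nat.prime_three⟩) hcNb (fun h => hXQ
        ((QuotientGroup.eq_one_iff _).1 (congrArg Subtype.val h)))
    haveI : Fintype Nb := Fintype.ofFinite _
    rw [mem_zpowers_iff_mem_range_orderOf, Finset.mem_image] at h1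
    obtain ⟨i, hi, hin⟩ := h1
    have h2 : π (X ^ i) = π n := by
      have := congrArg Subtype.val hin
      rw [SubgroupClass.coe_pow] at this
      rw [map_pow]
      exact this
    have h3 : D.φ n = D.φ X ^ i := by
      rw [← map_pow]
      have h4 := (D.kerφ _).2 (QuotientGroup.eq.1 h2)
      calc D.φ n = D.φ (X ^ i) * D.φ ((X ^ i)⁻¹ * n) := by rw [← map_mul, mul_inv_cancel_left]
        _ = _ := by rw [h4, mul_one]
    have hord : orderOf (⟨π X, ⟨X, hXN, rfl⟩⟩ : Nb) ≤ 3 := by
      have := orderOf_dvd_natCard (⟨π X, ⟨X, hXN, rfl⟩⟩ : Nb)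
      rw [hcNb] at this
      exact Nat.le_of_dvd (by norm_num) this
    have hi3 : i < 3 := (Finset.mem_range.1 hi).trans_le hord
    interval_cases i
    · exact Or.inl (h3.trans (pow_zero _))
    · exact Or.inr (Or.inl (h3.trans (pow_one _)))
    · exact Or.inr (Or.inr (h3.trans (pow_two _)))
  refine ⟨X, hXN, hXQ, hX3, ?_, hcM, hgen⟩
  -- the fixed points form a trivial module
  set T := D.φ X with hT
  have hT1 : T ≠ 1 := fun h => hXQ ((D.kerφ _).1 h)
  have hT3 : T * T * T = 1 := by
    rw [hT, ← map_mul, ← map_mul, ← pow_three', (D.kerφ _).2 hX3]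
  have hT3' : ∀ v, T (T (T v)) = v := fun v => DFunLike.congr_fun hT3 v
  letI : Module (ZMod 2) V := AddCommGroup.zmodModule fun v => by rw [two_nsmul]; exact D.two v
  let V0 : Submodule (ZMod 2) V :=
    { carrier := {v | T v = v}
      add_mem' := fun {a b} ha hb => show T (a + b) = a + b by
        rw [map_add, show T a = a from ha, show T b = b from hb]
      zero_mem' := map_zero T
      smul_mem' := fun c v hv => show T (c • v) = c • v by
        rw [ZMod.map_smul, show T v = v from hv] }
  let V1 : Submodule (ZMod 2) V :=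
    { carrier := {v | v + T v + T (T v) = 0}
      add_mem' := fun {a b} ha hb => show a + b + T (a + b) + T (T (a + b)) = 0 by
        rw [map_add, map_add, show a + b + (T a + T b) + (T (T a) + T (T b)) =
          (a + T a + T (T a)) + (b + T b + T (T b)) by abel, show a + T a + T (T a) = 0 from ha,
          show b + T b + T (T b) = 0 from hb, add_zero]
      zero_mem' := show (0 : V) + T 0 + T (T 0) = 0 by simp
      smul_mem' := fun c v hv => show c • v + T (c • v) + T (T (c • v)) = 0 by
        rw [ZMod.map_smul, ZMod.map_smul, ← smul_add, ← smul_add, show v + T v + T (T v) = 0 from hv, smul_zero] }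
  have hsplit : ∀ v : V, ∃ a ∈ V0, ∃ b ∈ V1, v = a + b := by
    intro v
    refine ⟨v + T v + T (T v), ?_, T v + T (T v), ?_, ?_⟩
    · show T (v + T v + T (T v)) = _
      rw [map_add, map_add, hT3']; abel
    · show T v + T (T v) + T (T v + T (T v)) + T (T (T v + T (T v))) = 0
      rw [map_add, map_add, hT3',
        show T v + T (T v) + (T (T v) + v) + (v + T v) = (T v + T v) + (T (T v) + T (T v)) + (v + v) by abel]
      simp only [D.two, add_zero]
    · rw [show v + T v + T (T v) + (T v + T (T v)) = v + (T v + T v) + (T (T v) + T (T v)) by abel, D.two, D.two,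
        add_zero, add_zero]
  have hdisj : ∀ v : V, v ∈ V0 → v ∈ V1 → v = 0 := fun v h0 h1 => by
    have h0' : T v = v := h0
    have h1' : v + T v + T (T v) = 0 := h1
    rw [h0', h0', D.two, zero_add] at h1'
    exact h1'
  have hcV : Nat.card V0 * Nat.card V1 = 2 ^ 12 := by
    have h := D.card
    rw [hcQ] at h
    rw [← Nat.card_prod]
    have hb : Function.Bijective fun q : V0 × V1 => (q.1 : V) + q.2 := by
      refine ⟨fun a b hab => ?_, fun v => ?_⟩
      · have hab' : (a.1 : V) + a.2 = b.1 + b.2 := hab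
        have hd : (a.1 : V) - b.1 = b.2 - a.2 := by rw [sub_eq_sub_iff_add_eq_add, hab', add_comm]
        have h0 : (a.1 : V) - b.1 = 0 := hdisj _ (sub_mem a.1.2 b.1.2) (hd ▸ sub_mem b.2.2 a.2.2)
        exact Prod.ext (Subtype.ext (sub_eq_zero.1 h0)) (Subtype.ext (sub_eq_zero.1 (hd ▸ h0)).symm)
      · obtain ⟨a, ha, b, hb, rfl⟩ := hsplit v
        exact ⟨(⟨a, ha⟩, ⟨b, hb⟩), rfl⟩
    rw [Nat.card_congr (Equiv.ofBijective _ hb)]
    omega
  have hdim : ∀ U : Submodule (ZMod 2) V, Nat.card U = 2 ^ Module.finrank (ZMod 2) U := fun U => by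
    rw [Module.natCard_eq_pow_finrank (K := ZMod 2), Nat.card_zmod]
  have hV1ne : ∃ v ∈ V1, v ≠ 0 := by
    by_contra hcon
    push Not at hcon
    refine hT1 (AddMonoidHom.ext fun v => ?_)
    obtain ⟨a, ha, b, hb, rfl⟩ := hsplit v
    rw [hcon b hb, add_zero]
    exact ha
  have hd1 : 2 ≤ Module.finrank (ZMod 2) V1 := by
    obtain ⟨v, hv, hv0⟩ := hV1ne
    have hTv : T v ∈ V1 := show T v + T (T v) + T (T (T v)) = 0 by
      rw [← map_add, ← map_add, show v + T v + T (T v) = 0 from hv, map_zero]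
    by_contra hlt
    have h2 : Nat.card V1 ≤ 2 := by
      rw [hdim]
      calc 2 ^ Module.finrank (ZMod 2) V1 ≤ 2 ^ 1 := Nat.pow_le_pow_right (by norm_num) (by omega)
        _ = 2 := pow_one 2
    have hne : T v ≠ v := fun h => hv0 (hdisj v h hv)
    have hne0 : T v ≠ 0 := fun h => hv0 (by rw [← hT3' v, h, map_zero, map_zero])
    have h3 : 3 ≤ Nat.card V1 := by
      haveI := Fintype.ofFinite V1
      rw [Nat.card_eq_fintype_card]
      calc 3 = ({(0 : V1), ⟨v, hv⟩, ⟨T v, hTv⟩} : Finset V1).card := (Finset.card_eq_three.2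
            ⟨_, _, _, fun h => hv0 (congrArg Subtype.val h).symm, fun h => hne0 (congrArg Subtype.val h).symm,
              fun h => hne (congrArg Subtype.val h).symm, rfl⟩).symm
        _ ≤ _ := Finset.card_le_univ _
    omega
  have hsum : Module.finrank (ZMod 2) V0 + Module.finrank (ZMod 2) V1 = 12 := by
    rw [hdim, hdim, ← pow_add] at hcV
    exact Nat.pow_right_injective le_rfl hcV
  have hcommT : ∀ m ∈ M, ∀ v, D.φ m (T v) = T (D.φ m v) := fun m hm v => DFunLike.congr_fun (hcM m hm) v
  have hV0M : ∀ m ∈ M, ∀ v ∈ V0, D.φ m v ∈ V0 := fun m hm v hv => by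
    show T (D.φ m v) = D.φ m v
    rw [← hcommT m hm, show T v = v from hv]
  have hV1M : ∀ m ∈ M, ∀ v ∈ V1, D.φ m v ∈ V1 := fun m hm v hv => by
    show D.φ m v + T (D.φ m v) + T (T (D.φ m v)) = 0
    rw [← hcommT m hm, ← hcommT m hm, ← map_add, ← map_add, show v + T v + T (T v) = 0 from hv, map_zero]
  -- representations
  have hrep : ∀ U : Submodule (ZMod 2) V, (∀ m ∈ M, ∀ v ∈ U, D.φ m v ∈ U) →
      ∃ ρ : M →* GL (Fin (Module.finrank (ZMod 2) U)) (ZMod 2), ∀ m, ρ m = 1 ↔ ∀ v ∈ U, D.φ (m : C) v = v := by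
    intro U hU
    let act : M →* Module.End (ZMod 2) U :=
      { toFun := fun m =>
          { toFun := fun v => ⟨D.φ (m : C) v, hU _ m.2 _ v.2⟩
            map_add' := fun a b => Subtype.ext (map_add (D.φ (m : C)) (a : V) b)
            map_smul' := fun c a => Subtype.ext (ZMod.map_smul (D.φ (m : C)) c (a : V)) }
        map_one' := LinearMap.ext fun v => Subtype.ext (show D.φ ((1 : M) : C) v = v by simp)
        map_mul' := fun a b => LinearMap.ext fun v => Subtype.ext
          (show D.φ ((a * b : M) : C) v = D.φ (a : C) (D.φ (b : C) v) by simp) }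
    let b := Module.finBasis (ZMod 2) U
    refine ⟨(Units.mapEquiv (LinearMap.toMatrixAlgEquiv b).toMulEquiv).toMonoidHom.comp act.toHomUnits, fun m => ?_⟩
    constructor
    · intro h v hv
      have h1 : act m = 1 := (LinearMap.toMatrixAlgEquiv b).injective
        ((congrArg Units.val h).trans (map_one _).symm)
      exact congrArg Subtype.val (LinearMap.congr_fun h1 ⟨v, hv⟩)
    · intro h
      refine Units.ext ?_
      have h1 : act m = 1 := LinearMap.ext fun v => Subtype.ext (h v v.2)
      show LinearMap.toMatrixAlgEquiv b (act m) = 1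
      rw [h1, map_one]
  obtain ⟨ρ0, hρ0⟩ := hrep V0 hV0M
  obtain ⟨ρ1, hρ1⟩ := hrep V1 hV1M
  have hN0 : N.subgroupOf M ≤ ρ0.ker := fun n hn => by
    refine (hρ0 n).2 fun v hv => ?_
    rcases hgen (n : C) hn with h | h | h <;> rw [h]
    · rfl
    · exact hv
    · show T (T v) = v
      rw [show T v = v from hv, show T v = v from hv]
  have htriv : ∀ m ∈ M, ∀ v ∈ V0, D.φ m v = v := fun m hm => by
    have h := psu_trivial hF (k := Module.finrank (ZMod 2) V0) (by omega)
      ((QuotientGroup.lift _ ρ0 hN0).comp e.symm.toMonoidHom)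
    refine (hρ0 ⟨m, hm⟩).1 ?_
    have h2 := DFunLike.congr_fun h (e (QuotientGroup.mk ⟨m, hm⟩))
    simp only [MonoidHom.comp_apply, MulEquiv.coe_toMonoidHom, MulEquiv.symm_apply_apply, QuotientGroup.lift_mk,
      MonoidHom.one_apply] at h2
    exact h2
  have hker : ρ1.ker = Q.subgroupOf M := by
    ext m
    rw [MonoidHom.mem_ker, hρ1, Subgroup.mem_subgroupOf, ← D.kerφ]
    refine ⟨fun h => AddMonoidHom.ext fun v => ?_, fun h v _ => by rw [h]; rfl⟩
    obtain ⟨a, ha, b, hb, rfl⟩ := hsplit v
    show D.φ (m : C) (a + b) = a + b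
    rw [map_add, htriv _ m.2 a ha, h b hb]
  have hcardM : Nat.card (M ⧸ ρ1.ker) = 9797760 := by
    rw [hker]
    have h1 := Subgroup.card_eq_card_quotient_mul_card_subgroup (Q.subgroupOf M)
    have h2 := Subgroup.card_eq_card_quotient_mul_card_subgroup (N.subgroupOf M)
    rw [Nat.card_congr (subgroupOfEquivOfLe (hQN.trans hNM)).toEquiv, hcQ] at h1
    rw [Nat.card_congr (subgroupOfEquivOfLe hNM).toEquiv, Nat.card_congr e.toEquiv, card_psu43 hF, hcN, hcQ] at h2
    omega
  have h12 : Module.finrank (ZMod 2) V0 = 0 := by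
    by_contra hne
    refine not_embed (k := Module.finrank (ZMod 2) V1) (by omega) (M := M ⧸ ρ1.ker) (by rw [hcardM]; norm_num)
      (QuotientGroup.kerLift ρ1) (QuotientGroup.kerLift_injective ρ1)
  refine AddMonoidHom.ext fun v => ?_
  obtain ⟨a, ha, b, hb, rfl⟩ := hsplit v
  have ha0 : a = 0 := by
    have hc0 := hdim V0
    rw [h12, pow_zero, Nat.card_eq_one_iff_unique] at hc0
    haveI := hc0.1
    exact congrArg Subtype.val (Subsingleton.elim (⟨a, ha⟩ : V0) 0)
  rw [ha0, zero_add]
  show T (T b) = b + T b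
  have hb' : b + T b + T (T b) = 0 := hb
  calc T (T b) = (b + T b + T (T b)) + (b + T b) := by
        rw [show b + T b + T (T b) + (b + T b) = (b + b) + (T b + T b) + T (T b) by abel, D.two, D.two, add_zero,
          zero_add]
    _ = b + T b := by rw [hb', zero_add]

end CfsgLib.Spor.LargeFischer
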