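import Cfsg.Agent.Lib.Spor.LargeFischer.StabX
import Cfsg.Agent.Lib.Spor.LargeFischer.Elliptic

/-!
# The stabilizer of a vector of the small orbit is the orthogonal group of minus type
-/

set_option autoImplicit false
set_option maxRecDepth 100000

namespace CfsgLib.Spor.LargeFischer

open Subgroup Matrix CfsgLib.Spor.U43Six CfsgLib.Spor.Fi22.U6

/-- A point of the forty five. -/
def op (k : Fin 45) : V6 := pv (opt k.1)

/-- The number of a point. -/
def pix (x : V6) : Fin 45 := Fin.ofNat 45 (SU27.codes.idxOf (enc (nrm x)))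

theorem op_ok : (∀ k : Fin 45, pix (op k) = k) ∧ (∀ i : Fin 126, InO i → op (pix (pv i)) = pv i) := by
  decide +kernel

/-- Orthogonality of two of the points. -/
def O2 (i j : Fin 45) : Bool := (SU27.orthMask.getD i.1 0).testBit j.1

/-- A point lies on a line. -/
def onL (c : Fin 27) (i : Fin 45) : Bool := (SU27.lineMask.getD c.1 0).testBit i.1

theorem o2_ok : ∀ i j : Fin 45, O2 i j = true ↔ hf (op i) (op j) = 0 := by decide +kernel

/-- The line through two points. -/
def lineOf (i j : Fin 45) : Fin 27 := Fin.ofNat 27 (SU27.lineOf.getD (45 * i.1 + j.1) 0)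

/-- A point of a line. -/
def lA (c : Fin 27) : Fin 45 := Fin.ofNat 45 (SU27.reps.getD c.1 (0, 0)).1

/-- Another point of a line. -/
def lB (c : Fin 27) : Fin 45 := Fin.ofNat 45 (SU27.reps.getD c.1 (0, 0)).2

/-- Two lines through a point. -/
def tA (k : Fin 45) : Fin 27 := Fin.ofNat 27 (SU27.twoLines.getD k.1 (0, 0)).1

/-- Two lines through a point. -/
def tB (k : Fin 45) : Fin 27 := Fin.ofNat 27 (SU27.twoLines.getD k.1 (0, 0)).2

theorem reps_ok : ∀ c, lA c ≠ lB c ∧ onL c (lA c) = true ∧ onL c (lB c) = true := by decide +kernel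

theorem line_ok : ∀ i j : Fin 45, i ≠ j → O2 i j = true → onL (lineOf i j) i = true ∧ onL (lineOf i j) j = true := by
  decide +kernel

theorem line_pair : ∀ c : Fin 27, ∀ i : Fin 45, onL c i = true → ∀ j : Fin 45, onL c j = true → i ≠ j →
    O2 i j = true ∧ lineOf i j = c ∧ ∀ x : Fin 45, (onL c x = true ↔ O2 x i = true ∧ O2 x j = true) := by
  decide +kernel

theorem adj_ok : ∀ c d : Fin 27, Ell.Adj c d ↔ ∃ i, onL c i = true ∧ onL d i = true := by decide +kernel

theorem two_ok : ∀ k : Fin 45, onL (tA k) k = true ∧ onL (tB k) k = true ∧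
    ∀ x, onL (tA k) x = true → onL (tB k) x = true → x = k := by decide +kernel

/-- The semilinear permutations fixing the base vector of the small orbit. -/
def GU : Subgroup (Equiv.Perm V6) where
  carrier := {f | Good f ∧ f uA = uA}
  one_mem' := ⟨good_one, rfl⟩
  mul_mem' := fun {f g} hf hg => ⟨hf.1.mul hg.1, by rw [Equiv.Perm.mul_apply, hg.2, hf.2]⟩
  inv_mem' := fun {f} hf => by
    have hp : ∀ n : ℕ, f ^ n ∈ {f : Equiv.Perm V6 | Good f ∧ f uA = uA} := by
      intro n
      induction n with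
      | zero => exact ⟨good_one, rfl⟩
      | succ n ih =>
        rw [pow_succ]
        exact ⟨ih.1.mul hf.1, by rw [Equiv.Perm.mul_apply, hf.2, ih.2]⟩
    have e : f⁻¹ = f ^ (orderOf f - 1) := inv_eq_of_mul_eq_one_right (by
      rw [← pow_succ', Nat.sub_add_cancel (orderOf_pos f), pow_orderOf_eq_one])
    exact e ▸ hp _

/-- The image of a point. -/
def imO (f : Equiv.Perm V6) (k : Fin 45) : Fin 45 := pix (f (op k))

theorem imO_spec {f : Equiv.Perm V6} (hfU : f ∈ GU) (k : Fin 45) :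
    ∃ c : Four, c ≠ 0 ∧ f (op k) = c • op (imO f k) := by
  obtain ⟨hG, hu⟩ := hfU
  obtain ⟨c, hc, i, hi⟩ := inA_iff.1 ((hG.pts (op k)).2 (by
    have := inA_pv one_ne_zero (opt k.1)
    rwa [one_smul] at this))
  have hO : InO i := by
    refine ⟨fun h0 => (o_tree k.1 k.2).1.1 ?_, ?_⟩
    · have hi0 : pv i = uA := by rw [uA_eq, show i = 0 from Fin.ext h0]
      have hinv : f⁻¹ ∈ GU := inv_mem (show f ∈ GU from ⟨hG, hu⟩)
      obtain ⟨c', hc', e⟩ := hinv.1.scal c uA
      rw [hinv.2, ← hi0, ← hi] at e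
      have e2 : op k = c' • pv i := (f.symm_apply_apply (op k)).symm.trans e
      rw [show i = 0 from Fin.ext h0] at e2
      exact congrArg Fin.val (pv_smul_eq (hc' hc) e2.symm).symm
    · have h1 : hf (f (op k)) (f uA) = 0 := (hG.orth _ _).2 (o_tree k.1 k.2).1.2
      rw [hu, hi, hf_smul_left, mul_eq_zero] at h1
      exact h1.resolve_left hc
  refine ⟨c, hc, ?_⟩
  have e : imO f k = pix (pv i) := by
    rw [imO, hi, pix, nrm_smul hc, pix]
  rw [hi, e, op_ok.2 i hO]

theorem imO_mul {f g : Equiv.Perm V6} (hfU : f ∈ GU) (hg : g ∈ GU) (k : Fin 45) :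
    imO (f * g) k = imO f (imO g k) := by
  obtain ⟨c, hc, e⟩ := imO_spec hg k
  obtain ⟨c', hc', e'⟩ := hfU.1.scal c (op (imO g k))
  rw [imO, Equiv.Perm.mul_apply, e, e', pix, nrm_smul (hc' hc)]
  rfl

theorem imO_inj {f : Equiv.Perm V6} (hfU : f ∈ GU) : Function.Injective (imO f) := fun i j h => by
  have h2 := congrArg (imO f⁻¹) h
  rw [← imO_mul (inv_mem hfU) hfU, ← imO_mul (inv_mem hfU) hfU, inv_mul_cancel] at h2
  exact (op_ok.1 i).symm.trans (h2.trans (op_ok.1 j))

theorem imO_orth {f : Equiv.Perm V6} (hfU : f ∈ GU) (i j : Fin 45) : O2 (imO f i) (imO f j) = O2 i j := by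
  obtain ⟨c, hc, e⟩ := imO_spec hfU i
  obtain ⟨d, hd, e'⟩ := imO_spec hfU j
  have h1 := hfU.1.orth (op i) (op j)
  rw [e, e', hf_smul_left] at h1
  have h2 : ∀ (c : Four) (x y : V6), hf x (c • y) = c ^ 2 * hf x y := fun c x y => by
    simp only [hf, Cfsg.hermForm, Pi.smul_apply, smul_eq_mul, mul_pow, Finset.mul_sum]
    exact Finset.sum_congr rfl fun r _ => mul_left_comm _ _ _
  rw [h2, ← mul_assoc, mul_eq_zero, or_iff_right (mul_ne_zero hc (pow_ne_zero _ hd)), ← o2_ok, ← o2_ok] at h1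
  exact Bool.eq_iff_iff.2 h1

/-- The image of a line. -/
def actC (f : Equiv.Perm V6) (c : Fin 27) : Fin 27 := lineOf (imO f (lA c)) (imO f (lB c))

theorem actC_mem {f : Equiv.Perm V6} (hfU : f ∈ GU) {c : Fin 27} {x : Fin 45} :
    onL (actC f c) (imO f x) = true ↔ onL c x = true := by
  obtain ⟨hne, ha, hb⟩ := reps_ok c
  obtain ⟨hab, -, hx⟩ := line_pair c _ ha _ hb hne
  have hne' := (imO_inj hfU).ne hne
  have hab' : O2 (imO f (lA c)) (imO f (lB c)) = true := (imO_orth hfU _ _).trans hab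
  obtain ⟨ha', hb'⟩ := line_ok _ _ hne' hab'
  obtain ⟨-, -, hx'⟩ := line_pair _ _ ha' _ hb' hne'
  show onL (lineOf (imO f (lA c)) (imO f (lB c))) _ = true ↔ _
  rw [hx', imO_orth hfU, imO_orth hfU, ← hx]

theorem actC_mul {f g : Equiv.Perm V6} (hfU : f ∈ GU) (hg : g ∈ GU) (c : Fin 27) :
    actC (f * g) c = actC f (actC g c) := by
  obtain ⟨hne, ha, hb⟩ := reps_ok c
  show lineOf _ _ = _
  rw [imO_mul hfU hg, imO_mul hfU hg]
  exact (line_pair (actC f (actC g c)) _ ((actC_mem hfU).2 ((actC_mem hg).2 ha)) _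
    ((actC_mem hfU).2 ((actC_mem hg).2 hb)) ((imO_inj hfU).ne ((imO_inj hg).ne hne))).2.1

theorem actC_one (c : Fin 27) : actC 1 c = c := by
  obtain ⟨hne, ha, hb⟩ := reps_ok c
  show lineOf (pix (op (lA c))) (pix (op (lB c))) = c
  rw [op_ok.1, op_ok.1]
  exact (line_pair c _ ha _ hb hne).2.1

/-- The action on the lines. -/
def lineH : GU →* Equiv.Perm (Fin 27) where
  toFun f :=
    { toFun := actC f.1
      invFun := actC f.1⁻¹
      left_inv := fun k => by rw [← actC_mul (inv_mem f.2) f.2, inv_mul_cancel, actC_one]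
      right_inv := fun k => by rw [← actC_mul f.2 (inv_mem f.2), mul_inv_cancel, actC_one] }
  map_one' := Equiv.ext actC_one
  map_mul' f g := Equiv.ext fun k => actC_mul f.2 g.2 k

theorem lineH_mem (f : GU) : lineH f ∈ Ell.Aut27 := fun c d => by
  rw [adj_ok, adj_ok]
  constructor
  · rintro ⟨j, hc, hd⟩
    obtain ⟨i, rfl⟩ := Finite.injective_iff_surjective.1 (imO_inj f.2) j
    exact ⟨i, (actC_mem f.2).1 hc, (actC_mem f.2).1 hd⟩
  · rintro ⟨i, hc, hd⟩
    exact ⟨imO f.1 i, (actC_mem f.2).2 hc, (actC_mem f.2).2 hd⟩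

theorem lineH_ker {f : GU} (h : lineH f = 1) : ∀ i, InO i → ∃ c : Four, f.1 (pv i) = c • pv i := by
  intro i hi
  obtain ⟨ha, hb, huniq⟩ := two_ok (pix (pv i))
  have hfix : ∀ c, actC f.1 c = c := fun c => DFunLike.congr_fun h c
  have h1 := (actC_mem f.2).2 ha
  have h2 := (actC_mem f.2).2 hb
  rw [hfix] at h1 h2
  obtain ⟨c, -, e⟩ := imO_spec f.2 (pix (pv i))
  rw [huniq _ h1 h2, op_ok.2 i hi] at e
  exact ⟨c, e⟩

/-! ### The kernel -/

/-- Two such elements agreeing on the outside vector are equal. -/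
theorem fix_hyper_eq {a b : G6} (ha : lin a uA = uA) (ha' : ∀ i, InO i → ∃ c : Four, lin a (pv i) = c • pv i)
    (hb : lin b uA = uA) (hb' : ∀ i, InO i → ∃ c : Four, lin b (pv i) = c • pv i)
    (hw : lin a (dec SU45.wOut) = lin b (dec SU45.wOut)) : a = b := by
  obtain ⟨hO, hVU, hUV, -⟩ := base_ok
  have hcols : mat6 a * baseU = mat6 b * baseU := by
    ext r k
    by_cases hk : k.1 < 5
    · exact (congrFun (fix_hyper ha ha' k hk) r).trans (congrFun (fix_hyper hb hb' k hk) r).symm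
    · have e : (fun r => baseU r k) = dec SU45.wOut := funext fun r => if_neg hk
      show (mat6 a *ᵥ fun r => baseU r k) r = (mat6 b *ᵥ fun r => baseU r k) r
      rw [e]
      exact congrFun hw r
  have h3 := congrArg (fun A : M6 => A * ofRows SU45.inv) hcols
  simp only [mul_assoc, hUV, mul_one] at h3
  exact mat_inj h3

/-- The transvection at the base point. -/
noncomputable def tU : G6 := U43Six.sw * el 13

/-- The transvection as a map. -/
def tF (x : V6) : V6 := lin U43Six.sw (eM 13 *ᵥ x)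

theorem tU_apply (x : V6) : lin tU x = tF x := by
  rw [tU, map_mul, Equiv.Perm.mul_apply, el_apply]
  rfl

theorem tF_ok : tF uA = uA ∧ (∀ i, InO i → ∃ c : Four, tF (pv i) = c • pv i) ∧
    (∀ d : V6, (∀ k : Fin 5, hf d (pv (Fin.ofNat 126 (SU45.base.getD k.1 0))) = 0) →
      hf (dec SU45.wOut + d) (dec SU45.wOut + d) = hf (dec SU45.wOut) (dec SU45.wOut) →
      d = 0 ∨ dec SU45.wOut + d = tF (dec SU45.wOut)) := by decide +kernel

theorem lin_ker_trivial {g : G6} (hg : g ∈ K1) (hu : lin g uA = uA)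
    (hfix : ∀ i, InO i → ∃ c : Four, lin g (pv i) = c • pv i) : g = 1 := by
  obtain ⟨hO, -⟩ := base_ok
  set w := dec SU45.wOut with hw
  have hb : ∀ k : Fin 5, lin g (pv (Fin.ofNat 126 (SU45.base.getD k.1 0))) =
      pv (Fin.ofNat 126 (SU45.base.getD k.1 0)) := fun k => by
    have h := fix_hyper hu hfix k.castSucc k.2
    have e : (fun r => baseU r k.castSucc) = pv (Fin.ofNat 126 (SU45.base.getD k.1 0)) := funext fun r => if_pos k.2
    rw [e] at h
    exact h
  have hd : ∀ k : Fin 5, hf (lin g w + w) (pv (Fin.ofNat 126 (SU45.base.getD k.1 0))) = 0 := fun k => by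
    rw [hf_add_left]
    have h2 := hf_lin g w (pv (Fin.ofNat 126 (SU45.base.getD k.1 0)))
    rw [hb k] at h2
    rw [h2]
    exact CfsgLib.Spor.Fi22.U6.add_self _
  have he : w + (lin g w + w) = lin g w := by
    rw [add_comm (lin g w) w, ← add_assoc, show w + w = 0 from funext fun r => CfsgLib.Spor.Fi22.U6.add_self _,
      zero_add]
  rcases tF_ok.2.2 _ hd (by rw [← hw, he, hf_lin]) with h | h
  · refine fix_hyper_eq hu hfix (by rw [map_one]; rfl) (fun i _ => ⟨1, by rw [map_one, one_smul]; rfl⟩) ?_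
    rw [map_one, Equiv.Perm.one_apply, ← he, h, add_zero]
  · exfalso
    rw [← hw, he, ← tU_apply] at h
    have e := fix_hyper_eq hu hfix (by rw [tU_apply]; exact tF_ok.1)
      (fun i hi => by rw [tU_apply]; exact tF_ok.2.1 i hi) h
    refine sw_not_mem card_F9 (lin_mem_KP.2 ?_)
    have := mul_mem hg (inv_mem (el_mem 13))
    rwa [e, tU, mul_inv_cancel_right] at this

theorem semi_witness : ∀ (e : Fin 6 → Four) (c6 : Four),
    (∀ k : Fin 6, k.1 < 5 →
      (ofRows SU45.inv *ᵥ pv bSix) k ^ 2 * e k = c6 * (ofRows SU45.inv *ᵥ pv bSix) k) →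
    (∀ k : Fin 6, k.1 < 5 → (ofRows SU45.inv *ᵥ uA) k ^ 2 * e k = (ofRows SU45.inv *ᵥ uA) k) → False := by
  intro e c6 h1 h2
  obtain ⟨v1, v3, w1, w3⟩ : (ofRows SU45.inv *ᵥ pv bSix) 1 = Four.e ∧ (ofRows SU45.inv *ᵥ pv bSix) 3 = Four.u ∧
      (ofRows SU45.inv *ᵥ uA) 1 = Four.e ∧ (ofRows SU45.inv *ᵥ uA) 3 = Four.w := by decide +kernel
  have key : ∀ a c c6 : Four, Four.e ^ 2 * a = c6 * Four.e → Four.e ^ 2 * a = Four.e →
      Four.u ^ 2 * c = c6 * Four.u → Four.w ^ 2 * c = Four.w → False := by decide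
  have a1 := h1 1 (by decide)
  have a2 := h2 1 (by decide)
  have a3 := h1 3 (by decide)
  have a4 := h2 3 (by decide)
  rw [v1] at a1; rw [w1] at a2; rw [v3] at a3; rw [w3] at a4
  exact key _ _ _ a1 a2 a3 a4

/-- A semilinear element does not fix all forty five points. -/
theorem semi_ker {f : Equiv.Perm V6} (hG : Good f) (hs : ∀ (c : Four) (x : V6), f (c • x) = c ^ 2 • f x)
    (hu : f uA = uA) (hfix : ∀ i, InO i → ∃ c : Four, f (pv i) = c • pv i) : False := by
  obtain ⟨hO, hVU, hUV, hu5, h65, -⟩ := base_ok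
  choose c hc using fun k : Fin 6 => hfix _ (hO k)
  obtain ⟨c6, hc6⟩ := hfix _ (hO 5)
  let e : Fin 6 → Four := fun k => if k.1 < 5 then c k else 0
  let F : V6 →+ V6 := AddMonoidHom.mk' f hG.add
  have hlinear : ∀ a : V6, a 5 = 0 → f (baseU *ᵥ a) = baseU *ᵥ fun k => a k ^ 2 * e k := by
    intro a ha
    have e1 : ∀ b : V6, baseU *ᵥ b = ∑ k, b k • fun r => baseU r k := fun b => funext fun r => by
      simp only [mulVec, dotProduct, Finset.sum_apply, Pi.smul_apply, smul_eq_mul]
      exact Finset.sum_congr rfl fun k _ => mul_comm _ _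
    rw [e1, e1]
    show F _ = _
    rw [map_sum]
    refine Finset.sum_congr rfl fun k _ => ?_
    show f _ = _
    rw [hs]
    by_cases hk : k.1 < 5
    · have : (fun r => baseU r k) = pv (Fin.ofNat 126 (SU45.base.getD k.1 0)) := funext fun r => if_pos hk
      rw [this, hc k, smul_smul]
      simp only [e, if_pos hk]
    · rw [show k = 5 from Fin.ext (by have := k.2; simp; omega), ha, zero_pow two_ne_zero, zero_smul, zero_mul,
        zero_smul]
  have key : ∀ (x : V6) (d : Four), (ofRows SU45.inv *ᵥ x) 5 = 0 → f x = d • x →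
      ∀ k : Fin 6, k.1 < 5 → (ofRows SU45.inv *ᵥ x) k ^ 2 * e k = d * (ofRows SU45.inv *ᵥ x) k := by
    intro x d hx he k _
    have h := hlinear _ hx
    rw [mulVec_mulVec _ baseU, hUV, one_mulVec, he] at h
    have h2 := congrArg (fun v => ofRows SU45.inv *ᵥ v) h
    simp only [mulVec_mulVec _ (ofRows SU45.inv) baseU, hVU, one_mulVec, mulVec_smul] at h2
    exact (congrFun h2 k).symm
  refine semi_witness e c6 (key _ c6 h65 hc6) fun k hk => ?_
  have := key uA 1 hu5 (by rw [one_smul]; exact hu) k hk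
  rwa [one_mul] at this

namespace Data

variable {G : Type*} [Group G] [Finite G] {z : G} {Q : Subgroup G} {vec : G → V6}
  {φ : ↥(centralizer ({z} : Set G)) →* Equiv.Perm V6} {o : Outer} (D : Data z Q vec φ o)
include D

theorem card_range : Nat.card φ.range = 19595520 := by
  classical
  have hKP : Nat.card KP = 9797760 := by
    rw [KP, ← Nat.card_congr (K1.equivMapOfInjective _ lin_injective).toEquiv, card_K1 card_F9]
  have hle : KP ≤ φ.range := fun k hk => by
    obtain ⟨c, hc⟩ := D.K1_le k hk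
    exact ⟨c, hc⟩
  obtain ⟨d, hd⟩ := D.outer_mem
  let f : Fin 2 × KP → φ.range := fun p =>
    if p.1 = 0 then ⟨p.2.1, hle p.2.2⟩ else ⟨p.2.1 * o.perm, mul_mem (hle p.2.2) ⟨d, hd⟩⟩
  have hf : Function.Injective f := by
    rintro ⟨i, a⟩ ⟨j, b⟩ e
    have e' := congrArg Subtype.val e
    by_cases hi : i = 0 <;> by_cases hj : j = 0 <;>
      simp only [f, hi, hj, if_true, if_false] at e'
    · exact Prod.ext (hi.trans hj.symm) (Subtype.ext e')
    · refine absurd ?_ D.not_mem
      have := mul_mem (inv_mem b.2) (e' ▸ a.2)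
      rwa [inv_mul_cancel_left] at this
    · refine absurd ?_ D.not_mem
      have := mul_mem (inv_mem a.2) (e'.symm ▸ b.2)
      rwa [inv_mul_cancel_left] at this
    · exact Prod.ext ((Fin.eq_one_of_ne_zero i hi).trans (Fin.eq_one_of_ne_zero j hj).symm) (Subtype.ext (mul_right_cancel e'))
  have h1 := Nat.card_le_card_of_injective f hf
  rw [Nat.card_prod, Nat.card_fin, hKP] at h1
  have h2 := D.half_KP φ.range le_rfl
  have h3 : Nat.card ↥(φ.range ⊓ KP) ≤ Nat.card KP := Subgroup.card_le_of_le inf_le_right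
  omega

theorem card_stab : Nat.card ↥(φ.range ⊓ GU) = 51840 := by
  have horb : MulAction.orbit φ.range uA = {x | InA x} := by
    ext x
    constructor
    · rintro ⟨⟨_, c, rfl⟩, rfl⟩
      exact ((D.good c).pts _).2 base_facts.1
    · intro hx
      obtain ⟨g, hg, e⟩ := trans_A hx
      obtain ⟨c, hc⟩ := D.K1_le _ (lin_mem_KP.2 hg)
      exact ⟨⟨_, c, rfl⟩, by show φ c uA = x; rw [hc, e]⟩
  have hcard : Nat.card ↥{x : V6 | InA x} = 378 := by
    let f : {c : Four // c ≠ 0} × Fin 126 → ↥{x : V6 | InA x} := fun p => ⟨p.1.1 • pv p.2, inA_pv p.1.2 p.2⟩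
    have hinj : Function.Injective f := fun p q e => by
      have e' : p.1.1 • pv p.2 = q.1.1 • pv q.2 := congrArg Subtype.val e
      have h1 := congrArg lead e'
      rw [lead_smul _ p.1.2, lead_smul _ q.1.2, (pts_ok.1 _).1, (pts_ok.1 _).1, mul_one, mul_one] at h1
      rw [h1] at e'
      refine Prod.ext (Subtype.ext h1) (pv_smul_eq one_ne_zero ?_)
      rw [one_smul]
      exact smul_right_injective V6 q.1.2 e'
    have hsurj : Function.Surjective f := by
      rintro ⟨x, hx⟩
      obtain ⟨c, hc, i, rfl⟩ := inA_iff.1 hx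
      exact ⟨(⟨c, hc⟩, i), rfl⟩
    rw [← Nat.card_eq_of_bijective f ⟨hinj, hsurj⟩, Nat.card_prod, Nat.card_fin, Nat.card_eq_fintype_card]
    rfl
  have h := MulAction.index_stabilizer φ.range uA
  rw [horb] at h
  have h2 := (MulAction.stabilizer φ.range uA).card_mul_index
  rw [h, D.card_range, ← Nat.card_coe_set_eq, hcard] at h2
  have e : Nat.card (MulAction.stabilizer φ.range uA) = Nat.card ↥(φ.range ⊓ GU) := Nat.card_congr
    { toFun := fun k => ⟨k.1.1, k.1.2, (by obtain ⟨c, hc⟩ := k.1.2; exact hc ▸ D.good c), k.2⟩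
      invFun := fun k => ⟨⟨k.1, k.2.1⟩, k.2.2.2⟩
      left_inv := fun k => rfl
      right_inv := fun k => rfl }
  rw [e] at h2
  omega

/-- The stabilizer of the base vector is the orthogonal group of minus type. -/
theorem stab_iso (ho : o = .frsw) :
    Nonempty (↥(φ.range ⊓ GU) ≃* Cfsg.isometryGroup (ZMod 2) Ell.qf) := by
  obtain ⟨emb, hemb⟩ := Ell.exists_embed
  let lh : ↥(φ.range ⊓ GU) →* Ell.Aut27 :=
    (lineH.comp (Subgroup.inclusion inf_le_right)).codRestrict _ fun f => lineH_mem _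
  have hinj : Function.Injective (emb.comp lh) := by
    refine hemb.comp ((injective_iff_map_eq_one lh).2 fun f hf => Subtype.ext ?_)
    have hfix := lineH_ker (f := ⟨f.1, f.2.2⟩) (congrArg Subtype.val hf)
    have hu : f.1 uA = uA := f.2.2.2
    obtain ⟨c, hc⟩ := f.2.1
    rcases D.range_le c with hk | ⟨k, ⟨g, hg, rfl⟩, hk⟩
    · rw [hc] at hk
      obtain ⟨g, hg, hge⟩ := hk
      rw [← hge] at hfix hu ⊢
      rw [lin_ker_trivial hg hu hfix, map_one]
      rfl
    · exfalso
      rw [hc, ho] at hk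
      refine semi_ker f.2.2.1 (fun a x => ?_) hu hfix
      rw [hk]
      show lin g (frob (lin U43Six.sw (a • x))) = a ^ 2 • lin g (frob (lin U43Six.sw x))
      rw [lin_apply U43Six.sw (a • x), mulVec_smul, show frob (a • (mat6 U43Six.sw *ᵥ x)) =
        a ^ 2 • frob (mat6 U43Six.sw *ᵥ x) from funext fun r => mul_pow _ _ 2, lin_apply g, mulVec_smul]
      rfl
  exact ⟨MulEquiv.ofBijective _ ((Nat.bijective_iff_injective_and_card _).2
    ⟨hinj, by rw [D.card_stab, Ell.card_isometry]⟩)⟩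

end Data

end CfsgLib.Spor.LargeFischer
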