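import Mathlib.Init

/-!
The stabilizer of a point of the small orbit on the points orthogonal to it.
-/

set_option autoImplicit false

namespace CfsgLib.Spor.LargeFischer.SU45

/-- The orthogonal points in the order of a tree. -/
def orb : List Nat := [15, 39, 70, 98, 40, 25, 76, 97, 68, 122, 116, 118, 112, 47, 16, 72, 93, 28, 29, 41, 37, 43, 17, 53, 64, 101, 87, 58, 36, 123, 83, 102, 82, 106, 38, 27, 42, 24, 77, 89, 57, 63, 51, 26, 108]

/-- Parent and letter. -/
def par : List (Nat × Nat) := [(0, 0), (0, 0), (0, 1), (1, 0), (1, 1), (2, 0), (2, 1), (3, 1), (4, 0), (5, 0), (5, 1), (6, 0), (6, 1), (7, 0), (7, 1), (8, 0), (8, 1), (9, 1), (10, 0), (10, 1), (11, 0), (12, 0), (13, 0), (13, 1), (14, 0), (15, 0), (15, 1), (17, 0), (18, 0), (18, 1), (19, 0), (19, 1), (20, 0), (22, 1), (23, 0), (24, 0), (27, 0), (29, 0), (30, 0), (30, 1), (32, 0), (34, 0), (36, 0), (37, 1), (38, 0)]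

/-- Five independent points and one in general position. -/
def base : List Nat := [108, 43, 63, 123, 116, 17]

/-- A vector outside the hyperplane. -/
def wOut : Nat := 256

/-- The inverse of the base matrix. -/
def inv : List Nat := [204, 1123, 1133, 2221, 2158, 1280]

end CfsgLib.Spor.LargeFischer.SU45
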