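import Cfsg.Agent.Lib.Spor.LargeFischer.Central
import Cfsg.Agent.Lib.Spor.LargeFischer.Elts
import Cfsg.Agent.Lib.Spor.LargeFischer.StabUData

/-!
# No conjugate of the central involution lies over the small orbit
-/

set_option autoImplicit false
set_option maxRecDepth 100000

namespace CfsgLib.Spor.LargeFischer

open Subgroup Matrix CfsgLib.Spor.U43Six CfsgLib.Spor.Fi22.U6

/-- A point orthogonal to the base point and different from it. -/
def InO (i : Fin 126) : Prop := i.1 ≠ 0 ∧ hf (pv i) uA = 0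

instance (i : Fin 126) : Decidable (InO i) := inferInstanceAs (Decidable (_ ∧ _))

theorem card_O : (Finset.univ.filter InO).card = 45 := by decide +kernel

theorem uA_eq : uA = pv 0 := by decide +kernel

/-- The points of the tree. -/
def opt (k : ℕ) : Fin 126 := Fin.ofNat 126 (SU45.orb.getD k 0)

/-- The two letters. -/
def lett (k : ℕ) : Fin 22 := if k = 0 then 0 else 1

theorem o_tree : ∀ k < 45, InO (opt k) ∧ (k = 0 ∨ ((SU45.par.getD k (0, 0)).1 < k ∧
    ∃ c : Four, c ≠ 0 ∧ eM (lett (SU45.par.getD k (0, 0)).2) *ᵥ pv (opt (SU45.par.getD k (0, 0)).1) =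
      c • pv (opt k))) := by
  decide +kernel

theorem o_all : ∀ i : Fin 126, InO i → ∃ k : Fin 45, opt k = i := by decide +kernel

theorem lett_fix : eM 0 *ᵥ uA = uA ∧ eM 1 *ᵥ uA = uA := by decide +kernel

theorem pv_ne (i : Fin 126) : pv i ≠ 0 := fun h => by
  have := (pts_ok.1 i).1
  rw [h] at this
  exact absurd this (by decide)

theorem maps_lin {g : G6} {i j : Fin 126} : Maps g i j ↔ ∃ c : Four, c ≠ 0 ∧ lin g (pv i) = c • pv j := Iff.rfl

theorem inO_im {g : K1} (hg : lin g.1 uA = uA) {i : Fin 126} (hi : InO i) : InO (im g i) := by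
  obtain ⟨c, hc, e⟩ := im_spec g i
  refine ⟨fun h0 => hi.1 ?_, ?_⟩
  · have hz : im g i = 0 := Fin.ext h0
    rw [hz, ← uA_eq] at e
    refine congrArg Fin.val (pv_smul_eq (j := 0) (inv_ne_zero hc) (i := i) ?_)
    rw [← uA_eq]
    refine (lin g.1).injective ?_
    show mat6 g.1 *ᵥ (c⁻¹ • pv i) = lin g.1 uA
    rw [mulVec_smul, e, inv_smul_smul₀ hc, hg]
  · have h2 : hf (lin g.1 (pv i)) (lin g.1 uA) = 0 := by rw [hf_lin]; exact hi.2
    rw [hg, lin_apply, e, hf_smul_left, mul_eq_zero] at h2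
    exact h2.resolve_left hc

/-- The base matrix. -/
def baseU : M6 := fun r k => if k.1 < 5 then pv (Fin.ofNat 126 (SU45.base.getD k.1 0)) r else dec SU45.wOut r

/-- The sixth point. -/
def bSix : Fin 126 := Fin.ofNat 126 (SU45.base.getD 5 0)

theorem base_ok : (∀ k : Fin 6, InO (Fin.ofNat 126 (SU45.base.getD k.1 0))) ∧
    ofRows SU45.inv * baseU = 1 ∧ baseU * ofRows SU45.inv = 1 ∧ (ofRows SU45.inv *ᵥ uA) 5 = 0 ∧
    (ofRows SU45.inv *ᵥ pv bSix) 5 = 0 ∧ ∀ k : Fin 6, k.1 < 5 → (ofRows SU45.inv *ᵥ pv bSix) k ≠ 0 := by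
  decide +kernel

theorem perp_four : (Finset.univ.filter fun d : V6 => ∀ k : Fin 5,
    hf d (pv (Fin.ofNat 126 (SU45.base.getD k.1 0))) = 0).card = 4 := by decide +kernel

/-- An element fixing the base point and all points orthogonal to it fixes the hyperplane pointwise. -/
theorem fix_hyper {g : G6} (hgu : lin g uA = uA)
    (hfix : ∀ i, InO i → ∃ c : Four, lin g (pv i) = c • pv i) :
    ∀ k : Fin 6, k.1 < 5 → mat6 g *ᵥ (fun r => baseU r k) = fun r => baseU r k := by
  obtain ⟨hO, hVU, hUV, hu5, h65, h6⟩ := base_ok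
  choose c hc using fun k : Fin 6 => hfix _ (hO k)
  obtain ⟨c6, hc6⟩ := hfix _ (hO 5)
  let d : Fin 6 → Four := fun k => if k.1 < 5 then c k else 0
  have hcol : ∀ k : Fin 6, k.1 < 5 → mat6 g *ᵥ (fun r => baseU r k) = c k • fun r => baseU r k := by
    intro k hk
    have : (fun r => baseU r k) = pv (Fin.ofNat 126 (SU45.base.getD k.1 0)) := funext fun r => if_pos hk
    rw [this]
    exact hc k
  have hlinear : ∀ a : V6, a 5 = 0 → mat6 g *ᵥ (baseU *ᵥ a) = baseU *ᵥ fun k => d k * a k := by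
    intro a ha
    rw [mulVec_mulVec]
    funext r
    simp only [mulVec, dotProduct]
    refine Finset.sum_congr rfl fun k _ => ?_
    by_cases hk : k.1 < 5
    · have := congrFun (hcol k hk) r
      simp only [mulVec, dotProduct, Pi.smul_apply, smul_eq_mul] at this
      rw [Matrix.mul_apply, this]
      simp only [d, if_pos hk]
      ring
    · rw [show k = 5 from Fin.ext (by have := k.2; simp; omega), ha, mul_zero, mul_zero, mul_zero]
  have key : ∀ (x : V6) (e : Four), (ofRows SU45.inv *ᵥ x) 5 = 0 → mat6 g *ᵥ x = e • x →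
      ∀ k : Fin 6, k.1 < 5 → d k * (ofRows SU45.inv *ᵥ x) k = e * (ofRows SU45.inv *ᵥ x) k := by
    intro x e hx he k _
    have h := hlinear _ hx
    rw [mulVec_mulVec _ baseU, hUV, one_mulVec, he] at h
    have h2 := congrArg (fun v => ofRows SU45.inv *ᵥ v) h
    simp only [mulVec_mulVec _ (ofRows SU45.inv) baseU, hVU, one_mulVec, mulVec_smul] at h2
    exact (congrFun h2 k).symm
  have hall : ∀ k : Fin 6, k.1 < 5 → d k = c6 := fun k hk =>
    mul_right_cancel₀ (h6 k hk) (key _ c6 h65 hc6 k hk)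
  have hu := key uA 1 hu5 (by rw [one_smul]; exact hgu)
  obtain ⟨k0, hk0, hk0ne⟩ : ∃ k : Fin 6, k.1 < 5 ∧ (ofRows SU45.inv *ᵥ uA) k ≠ 0 := by decide +kernel
  have hc61 : c6 = 1 := (hall k0 hk0).symm.trans (mul_right_cancel₀ hk0ne (hu k0 hk0))
  intro k hk
  have h1 : c k = 1 := by
    have := hall k hk
    rw [hc61] at this
    simpa [d, hk] using this
  rw [hcol k hk, h1, one_smul]

/-- Such an element is determined by the image of one further vector, which moves by a multiple of the base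
point. -/
theorem fix_hyper_card {N : Subgroup G6} (hN : ∀ g ∈ N, lin g uA = uA ∧ ∀ i, InO i → ∃ c : Four, lin g (pv i) = c • pv i) :
    Nat.card N ≤ 4 := by
  classical
  obtain ⟨hO, hVU, hUV, -⟩ := base_ok
  let P := {d : V6 // ∀ k : Fin 5, hf d (pv (Fin.ofNat 126 (SU45.base.getD k.1 0))) = 0}
  have hP : Nat.card P = 4 := by rw [Nat.card_eq_fintype_card, Fintype.card_subtype]; exact perp_four
  have hb : ∀ g ∈ N, ∀ k : Fin 5, lin g (pv (Fin.ofNat 126 (SU45.base.getD k.1 0))) =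
      pv (Fin.ofNat 126 (SU45.base.getD k.1 0)) := fun g hg k => by
    have h := fix_hyper (hN g hg).1 (hN g hg).2 k.castSucc k.2
    have e : (fun r => baseU r k.castSucc) = pv (Fin.ofNat 126 (SU45.base.getD k.1 0)) := funext fun r => if_pos k.2
    rw [e] at h
    exact h
  let f : N → P := fun g => ⟨lin g.1 (dec SU45.wOut) + dec SU45.wOut, fun k => by
    rw [hf_add_left]
    have h2 := hf_lin g.1 (dec SU45.wOut) (pv (Fin.ofNat 126 (SU45.base.getD k.1 0)))
    rw [hb g.1 g.2 k] at h2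
    rw [h2]
    exact CfsgLib.Spor.Fi22.U6.add_self _⟩
  have hf : Function.Injective f := fun a b h => by
    have hw : lin a.1 (dec SU45.wOut) = lin b.1 (dec SU45.wOut) := add_right_cancel (congrArg Subtype.val h)
    have hcols : mat6 a.1 * baseU = mat6 b.1 * baseU := by
      ext r k
      by_cases hk : k.1 < 5
      · exact (congrFun (fix_hyper (hN _ a.2).1 (hN _ a.2).2 k hk) r).trans
          (congrFun (fix_hyper (hN _ b.2).1 (hN _ b.2).2 k hk) r).symm
      · have e : (fun r => baseU r k) = dec SU45.wOut := funext fun r => if_neg hk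
        show (mat6 a.1 *ᵥ fun r => baseU r k) r = (mat6 b.1 *ᵥ fun r => baseU r k) r
        rw [e]
        exact congrFun hw r
    have h3 := congrArg (fun A : M6 => A * ofRows SU45.inv) hcols
    simp only [mul_assoc, hUV, mul_one] at h3
    exact Subtype.ext (mat_inj h3)
  exact (Nat.card_le_card_of_injective f hf).trans hP.le

/-- A two-subgroup normalized by the stabilizer of the base point fixes all the orthogonal points. -/
theorem two_fix {N : Subgroup G6} (hN1 : N ≤ K1) (hNu : ∀ g ∈ N, lin g uA = uA) (h2 : IsPGroup 2 N)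
    (hn : ∀ k : Fin 2, ∀ g ∈ N, (el (lett k))⁻¹ * g * el (lett k) ∈ N) :
    ∀ g ∈ N, ∀ i, InO i → ∃ c : Four, lin g (pv i) = c • pv i := by
  haveI : Fact (Nat.Prime 2) := ⟨Nat.prime_two⟩
  let α := {i : Fin 126 // InO i}
  letI : MulAction N α :=
    { smul := fun g i => ⟨im ⟨g.1, hN1 g.2⟩ i.1, inO_im (g := ⟨g.1, hN1 g.2⟩) (hNu _ g.2) i.2⟩
      one_smul := fun i => Subtype.ext (im_one i.1)
      mul_smul := fun g h i => Subtype.ext (im_mul ⟨g.1, hN1 g.2⟩ ⟨h.1, hN1 h.2⟩ i.1) }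
  have hα : Nat.card α = 45 := by rw [Nat.card_eq_fintype_card, Fintype.card_subtype, card_O]
  obtain ⟨a, ha⟩ := h2.nonempty_fixed_point_of_prime_not_dvd_card α (by rw [hα]; norm_num)
  have hF : ∀ i : α, ∀ k : Fin 2, i ∈ MulAction.fixedPoints N α → ∀ j : α,
      Maps (el (lett k)) i.1 j.1 → j ∈ MulAction.fixedPoints N α := by
    intro i k hi j hij g
    refine Subtype.ext ?_
    have h1 := congrArg Subtype.val (hi ⟨_, hn k g.1 g.2⟩)
    have h3 := im_spec ⟨(el (lett k))⁻¹ * g.1 * el (lett k), hN1 (hn k g.1 g.2)⟩ i.1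
    rw [show im ⟨(el (lett k))⁻¹ * g.1 * el (lett k), hN1 (hn k g.1 g.2)⟩ i.1 = i.1 from h1] at h3
    have h4 := h3.mul hij
    rw [← mul_assoc, ← mul_assoc, mul_inv_cancel, one_mul] at h4
    exact (hij.mul (im_spec ⟨g.1, hN1 g.2⟩ j.1)).unique h4
  -- every tree point is fixed once the root is
  have hdown : ∀ k, k < 45 → ∀ hk : InO (opt k), (⟨opt k, hk⟩ : α) ∈ MulAction.fixedPoints N α →
      (⟨opt 0, (o_tree 0 (by norm_num)).1⟩ : α) ∈ MulAction.fixedPoints N α := by
    intro k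
    induction k using Nat.strong_induction_on with
    | _ k ih =>
      intro hk45 hk hfx
      rcases (o_tree k hk45).2 with rfl | ⟨hp, c, hc, e⟩
      · exact hfx
      · set l : ℕ := (SU45.par.getD k (0, 0)).2
        set p : ℕ := (SU45.par.getD k (0, 0)).1
        refine ih p hp (hp.trans hk45) (o_tree p (hp.trans hk45)).1 fun g => Subtype.ext ?_
        have hij : Maps (el (lett l)) (opt p) (opt k) := ⟨c, hc, by rw [mat_el]; exact e⟩
        obtain ⟨k2, hk2⟩ : ∃ k2 : Fin 2, lett k2 = lett l := by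
          by_cases hl : l = 0
          · exact ⟨0, by rw [hl]; rfl⟩
          · exact ⟨1, by simp [lett, hl]⟩
        rw [← hk2] at hij
        -- the conjugate lies in the group as well
        have hmem : el (lett k2) * g.1 * (el (lett k2))⁻¹ ∈ N := by
          have hconj : ∀ x : N, (el (lett k2))⁻¹ * x.1 * el (lett k2) ∈ N := fun x => hn k2 x.1 x.2
          haveI : Finite G6 := Nat.finite_of_card_ne_zero (by rw [card_G6]; norm_num)
          let φc : N → N := fun x => ⟨_, hconj x⟩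
          have hφ : Function.Injective φc := fun x y h => Subtype.ext (by
            have := congrArg Subtype.val h
            simpa [φc] using this)
          obtain ⟨x, hx⟩ := (Finite.injective_iff_surjective.1 hφ) g
          have := congrArg Subtype.val hx
          simp only [φc] at this
          rw [← this]
          group
          exact x.2
        have h1 := congrArg Subtype.val (hfx ⟨_, hmem⟩)
        have h3 := im_spec ⟨el (lett k2) * g.1 * (el (lett k2))⁻¹, hN1 hmem⟩ (opt k)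
        rw [show im ⟨el (lett k2) * g.1 * (el (lett k2))⁻¹, hN1 hmem⟩ (opt k) = opt k from h1] at h3
        have h4 := hij.mul h3
        rw [inv_mul_cancel_right] at h4
        have h5 := (im_spec ⟨g.1, hN1 g.2⟩ (opt p)).mul (show Maps (el (lett k2)) _ _ from
          im_spec ⟨el (lett k2), el_mem _⟩ (im ⟨g.1, hN1 g.2⟩ (opt p)))
        have h6 := h5.unique h4
        have h7 : im ⟨el (lett k2), el_mem _⟩ (opt p) = opt k :=
          (im_spec ⟨el (lett k2), el_mem _⟩ (opt p)).unique hij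
        rw [← h7] at h6
        exact (rho ⟨el (lett k2), el_mem _⟩).injective h6
  obtain ⟨k, hk⟩ := o_all a.1 a.2
  have hroot := hdown k.1 k.2 (hk ▸ a.2) (by
    rw [show (⟨opt k.1, hk ▸ a.2⟩ : α) = a from Subtype.ext hk]; exact ha)
  have hup : ∀ k, k < 45 → ∀ hk : InO (opt k), (⟨opt k, hk⟩ : α) ∈ MulAction.fixedPoints N α := by
    intro k
    induction k using Nat.strong_induction_on with
    | _ k ih =>
      intro hk45 hk
      rcases (o_tree k hk45).2 with rfl | ⟨hp, c, hc, e⟩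
      · exact hroot
      · obtain ⟨k2, hk2⟩ : ∃ k2 : Fin 2, lett k2 = lett (SU45.par.getD k (0, 0)).2 := by
          by_cases hl : (SU45.par.getD k (0, 0)).2 = 0
          · exact ⟨0, by rw [hl]; rfl⟩
          · exact ⟨1, by rw [lett, lett, if_neg (show ¬((1 : Fin 2) : ℕ) = 0 by decide), if_neg hl]⟩
        exact hF ⟨_, (o_tree _ (hp.trans hk45)).1⟩ k2 (ih _ hp (hp.trans hk45) _) ⟨_, hk⟩
          ⟨c, hc, by rw [hk2, mat_el]; exact e⟩
  intro g hg i hi
  obtain ⟨k, rfl⟩ := o_all i hi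
  have h1 := congrArg Subtype.val (hup k.1 k.2 hi ⟨g, hg⟩)
  obtain ⟨c, -, e⟩ := im_spec ⟨g, hN1 hg⟩ (opt k.1)
  rw [show im ⟨g, hN1 hg⟩ (opt k.1) = opt k.1 from h1] at e
  exact ⟨c, e⟩

namespace Data

variable {G : Type*} [Group G] [Finite G] {z : G} {Q : Subgroup G} {vec : G → V6}
  {φ : ↥(centralizer ({z} : Set G)) →* Equiv.Perm V6} {o : Outer} (D : Data z Q vec φ o)
include D

theorem outer_two {a b : Equiv.Perm V6} (ha : a ∈ φ.range) (hb : b ∈ φ.range) (ha' : a ∉ KP) (hb' : b ∉ KP) :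
    a * b ∈ KP := by
  obtain ⟨c, rfl⟩ := ha
  obtain ⟨d, rfl⟩ := hb
  obtain ⟨k, hk, e⟩ := (D.range_le c).resolve_left ha'
  obtain ⟨k', hk', e'⟩ := (D.range_le d).resolve_left hb'
  obtain ⟨k₀, hk₀, rfl⟩ := hk'
  obtain ⟨k'', hk'', e''⟩ := o.conj_mem hk₀
  rw [e, e', mul_assoc, ← mul_assoc o.perm, e'', mul_assoc (lin k''), o.sq_one, mul_one]
  exact mul_mem hk (lin_mem_KP.2 hk'')

theorem half_KP (H : Subgroup (Equiv.Perm V6)) (hH : H ≤ φ.range) : Nat.card H ≤ 2 * Nat.card ↥(H ⊓ KP) := by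
  classical
  by_cases hall : H ≤ KP
  · rw [inf_of_le_left hall]; omega
  obtain ⟨y, hy, hyK⟩ := SetLike.not_le_iff_exists.1 hall
  have hyK' : y⁻¹ ∉ KP := fun h => hyK (by simpa using inv_mem h)
  let f : H → Fin 2 × ↥(H ⊓ KP) := fun a =>
    if ha : (a : Equiv.Perm V6) ∈ KP then (0, ⟨a, a.2, ha⟩)
    else (1, ⟨y⁻¹ * a, Subgroup.mem_inf.2 ⟨H.mul_mem (H.inv_mem hy) a.2, D.outer_two (hH (H.inv_mem hy)) (hH a.2) hyK' ha⟩⟩)
  have hf : Function.Injective f := by
    intro a b hab
    simp only [f] at hab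
    split_ifs at hab with h1 h2 h3
    · exact Subtype.ext (congrArg (fun p : Fin 2 × ↥(H ⊓ KP) => (p.2 : Equiv.Perm V6)) hab)
    · exact absurd (congrArg Prod.fst hab) (by simp)
    · exact absurd (congrArg Prod.fst hab) (by simp)
    · exact Subtype.ext (mul_left_cancel (congrArg (fun p : Fin 2 × ↥(H ⊓ KP) => (p.2 : Equiv.Perm V6)) hab))
  have := Nat.card_le_card_of_injective f hf
  rwa [Nat.card_prod, Nat.card_fin] at this

/-- The conjugates of the central involution lie over the large orbit. -/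
theorem conj_inB {g : G} (hgQ : g * z * g⁻¹ ∈ Q) (hne : g * z * g⁻¹ ≠ z) : InB (vec (g * z * g⁻¹)) := by
  have hs1 : g * z * g⁻¹ ≠ 1 := fun e => D.z_ne (by simpa using e)
  have hss : g * z * g⁻¹ * (g * z * g⁻¹) = 1 := by
    rw [show g * z * g⁻¹ * (g * z * g⁻¹) = g * (z * z) * g⁻¹ by group, D.zz]; group
  refine (D.two_cases hgQ hs1 hne hss).resolve_left fun hA => ?_
  obtain ⟨k, hk, hku⟩ := trans_A hA
  obtain ⟨c, hc⟩ := D.K1_le (lin k⁻¹) (lin_mem_KP.2 (inv_mem hk))
  obtain ⟨hgQ', hne', hv⟩ := D.shift hgQ hne c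
  have hv' : vec (((c : G) * g) * z * ((c : G) * g)⁻¹) = uA := by
    rw [hv, hc, ← hku, ← Equiv.Perm.mul_apply, ← map_mul, inv_mul_cancel, map_one, Equiv.Perm.one_apply]
  clear hv hA hku
  generalize (c : G) * g = g' at hgQ' hne' hv'
  let N : Subgroup G6 := (imE Q φ g' ⊓ KP).comap lin
  have hNK : N ≤ K1 := fun x hx => lin_mem_KP.1 hx.2
  have hNu : ∀ x ∈ N, lin x uA = uA := fun x hx => hv' ▸ D.imE_fix hgQ' hx.1
  have hN2 : IsPGroup 2 N :=
    ((D.imE_pGroup g').to_le inf_le_left).comap_of_injective lin lin_injective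
  have hn : ∀ j : Fin 2, ∀ x ∈ N, (el (lett j))⁻¹ * x * el (lett j) ∈ N := by
    intro j x hx
    have he : lin (el (lett j))⁻¹ ∈ φ.range := by
      obtain ⟨d, hd⟩ := D.K1_le _ (lin_mem_KP.2 (inv_mem (el_mem (lett j))))
      exact ⟨d, hd⟩
    have hfix : lin (el (lett j)) uA = uA := by
      rw [el_apply]
      by_cases hj : j.1 = 0
      · simpa [lett, hj] using lett_fix.1
      · simpa [lett, hj] using lett_fix.2
    have h2 := D.imE_norm hgQ' hne' he (by
      rw [hv']
      conv_lhs => rw [← hfix]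
      rw [← Equiv.Perm.mul_apply, ← map_mul, inv_mul_cancel, map_one, Equiv.Perm.one_apply]) hx.1
    rw [← map_inv, ← map_mul, ← map_mul, inv_inv] at h2
    exact ⟨h2, lin_mem_KP.2 (mul_mem (mul_mem (inv_mem (el_mem _)) (hNK hx)) (el_mem _))⟩
  have h4 : Nat.card N ≤ 4 := fix_hyper_card fun x hx => ⟨hNu x hx, two_fix hNK hNu hN2 hn x hx⟩
  have hN : Nat.card N = Nat.card ↥(imE Q φ g' ⊓ KP) := by
    have hle : imE Q φ g' ⊓ KP ≤ lin.range := fun x hx => by
      obtain ⟨y, -, rfl⟩ := hx.2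
      exact ⟨y, rfl⟩
    have e := Subgroup.map_comap_eq_self hle
    conv_rhs => rw [← e]
    exact Nat.card_congr (N.equivMapOfInjective lin lin_injective).toEquiv
  have h1 := D.half_KP _ (D.imE_le_range g')
  have h2 := D.card_imE_ge hgQ' hne'
  omega

theorem one_orbit {s t : G} (hs : s ∈ Q) (ht : t ∈ Q) (hzs : IsConj z s) (hzt : IsConj z t) (hs1 : s ≠ z)
    (ht1 : t ≠ z) : ∃ h ∈ centralizer ({z} : Set G), h * s * h⁻¹ = t := by
  obtain ⟨g, rfl⟩ := isConj_iff.1 hzs
  obtain ⟨g', rfl⟩ := isConj_iff.1 hzt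
  obtain ⟨c, hc⟩ := D.orbit_B hs ht (D.conj_inB hs hs1) (D.conj_inB ht ht1)
  exact ⟨c, c.2, hc⟩

end Data

end CfsgLib.Spor.LargeFischer
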