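import Mathlib.Init

/-!
The fifteen classes at a point of the large orbit, labelled by pairs from six letters.
-/

set_option autoImplicit false

namespace CfsgLib.Spor.LargeFischer.SV15

/-- A point in each class. -/
def cls : List Nat := [0, 2, 80, 74, 55, 1, 82, 76, 57, 81, 15, 24, 75, 27, 56]

/-- The class of each vector in the spans. -/
def tab : List (Nat × Nat) := [(5, 10), (10, 10), (15, 10), (17, 11), (20, 13), (34, 11), (40, 13), (51, 11), (60, 13), (65, 13),
  (68, 11), (80, 10), (90, 10), (95, 10), (102, 11), (105, 13), (119, 11), (125, 13), (130, 13), (136, 11),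
  (150, 13), (153, 11), (160, 10), (165, 10), (175, 10), (187, 11), (190, 13), (195, 13), (204, 11), (215, 13),
  (221, 11), (235, 13), (238, 11), (240, 10), (245, 10), (250, 10), (1280, 0), (1285, 8), (1297, 7), (1300, 6),
  (1345, 6), (1348, 7), (1360, 8), (1365, 0), (1450, 0), (1455, 8), (1467, 7), (1470, 6), (1515, 6), (1518, 7),
  (1530, 8), (1535, 0), (1536, 1), (1551, 14), (1587, 12), (1596, 9), (1621, 1), (1626, 14), (1638, 12), (1641, 9),
  (1686, 9), (1689, 12), (1701, 14), (1706, 1), (1731, 9), (1740, 12), (1776, 14), (1791, 1), (1792, 5), (1802, 4),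
  (1826, 3), (1832, 2), (1877, 5), (1887, 4), (1911, 3), (1917, 2), (1922, 2), (1928, 3), (1952, 4), (1962, 5),
  (2007, 2), (2013, 3), (2037, 4), (2047, 5), (2304, 5), (2319, 4), (2355, 3), (2364, 2), (2389, 5), (2394, 4),
  (2406, 3), (2409, 2), (2454, 2), (2457, 3), (2469, 4), (2474, 5), (2499, 2), (2508, 3), (2544, 4), (2559, 5),
  (2560, 0), (2570, 8), (2594, 7), (2600, 6), (2645, 0), (2655, 8), (2679, 7), (2685, 6), (2690, 6), (2696, 7),
  (2720, 8), (2730, 0), (2775, 6), (2781, 7), (2805, 8), (2815, 0), (2816, 1), (2821, 14), (2833, 12), (2836, 9),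
  (2881, 9), (2884, 12), (2896, 14), (2901, 1), (2986, 1), (2991, 14), (3003, 12), (3006, 9), (3051, 9), (3054, 12),
  (3066, 14), (3071, 1), (3328, 1), (3338, 14), (3362, 12), (3368, 9), (3413, 1), (3423, 14), (3447, 12), (3453, 9),
  (3458, 9), (3464, 12), (3488, 14), (3498, 1), (3543, 9), (3549, 12), (3573, 14), (3583, 1), (3584, 5), (3589, 4),
  (3601, 3), (3604, 2), (3649, 2), (3652, 3), (3664, 4), (3669, 5), (3754, 5), (3759, 4), (3771, 3), (3774, 2),
  (3819, 2), (3822, 3), (3834, 4), (3839, 5), (3840, 0), (3855, 8), (3891, 7), (3900, 6), (3925, 0), (3930, 8),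
  (3942, 7), (3945, 6), (3990, 6), (3993, 7), (4005, 8), (4010, 0), (4035, 6), (4044, 7), (4080, 8), (4095, 0)]

/-- The pair of each class. -/
def pairs : List (Nat × Nat) := [(0, 1), (1, 2), (1, 3), (1, 4), (1, 5), (0, 2), (2, 3), (2, 4), (2, 5), (0, 3), (3, 4), (3, 5), (0, 4), (4, 5), (0, 5)]

/-- The class of each pair. -/
def pairIdx : List Nat := [0, 0, 5, 9, 12, 14, 0, 0, 1, 2, 3, 4, 5, 1, 0, 6, 7, 8, 9, 2, 6, 0, 10, 11, 12, 3, 7, 10, 0, 13, 14, 4, 8, 11, 13, 0]

/-- A tree for the action. -/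
def par : List (Nat × Nat) := [(0, 0), (0, 0), (0, 1), (0, 2), (0, 3), (1, 0), (1, 1), (1, 2), (1, 3), (2, 1), (2, 2), (2, 3), (3, 2), (3, 3), (4, 3)]

end CfsgLib.Spor.LargeFischer.SV15
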