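import Cfsg.Agent.Lib.Spor.LargeFischer.Elts
import Cfsg.Agent.Lib.Spor.LargeFischer.StabVData

/-!
# The stabilizer of a vector of the large orbit and its action on fifteen classes
-/

set_option autoImplicit false
set_option maxRecDepth 100000

namespace CfsgLib.Spor.LargeFischer

open Matrix CfsgLib.Spor.U43Six CfsgLib.Spor.Fi22.U6

/-- The unit vectors and their multiples by `w`. -/
def bas (t : Fin 6 × Bool) : V6 := Pi.single t.1 (if t.2 then Four.w else 1)

theorem single_cases (i : Fin 6) (c : Four) : Pi.single i c = (0 : V6) ∨ (∃ b, Pi.single i c = bas (i, b)) ∨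
    Pi.single i c = bas (i, false) + bas (i, true) := by
  cases c
  · exact Or.inl (Pi.single_zero i)
  · exact Or.inr (Or.inl ⟨false, rfl⟩)
  · exact Or.inr (Or.inl ⟨true, rfl⟩)
  · exact Or.inr (Or.inr ((congrArg (Pi.single i) (show Four.u = (1 : Four) + Four.w from rfl)).trans (Pi.single_add (f := fun _ : Fin 6 => Four) i (1 : Four) Four.w)))

/-- Additive permutations agree when they agree on the twelve basic vectors. -/
theorem Good.ext {f g : Equiv.Perm V6} (hf : Good f) (hg : Good g) (h : ∀ t, f (bas t) = g (bas t)) : f = g := by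
  refine Equiv.ext fun x => ?_
  have hs : ∀ i c, f (Pi.single i c) = g (Pi.single i c) := fun i c => by
    rcases single_cases i c with e | ⟨b, e⟩ | e
    · rw [e, hf.zero, hg.zero]
    · rw [e, h]
    · rw [e, hf.add, hg.add, h, h]
  have hx : x = ∑ i, Pi.single i (x i) := (Finset.univ_sum_single x).symm
  let F : V6 →+ V6 := AddMonoidHom.mk' f hf.add
  let H : V6 →+ V6 := AddMonoidHom.mk' g hg.add
  show F x = H x
  rw [hx, map_sum, map_sum]
  exact Finset.sum_congr rfl fun i _ => hs i (x i)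

theorem good_one : Good 1 :=
  ⟨fun _ _ => rfl, fun c _ => ⟨c, id, rfl⟩, fun _ _ => Iff.rfl, fun _ => Iff.rfl⟩

/-- The semilinear permutations fixing the base vector of the large orbit. -/
def GV : Subgroup (Equiv.Perm V6) where
  carrier := {f | Good f ∧ f vB = vB}
  one_mem' := ⟨good_one, rfl⟩
  mul_mem' := fun {f g} hf hg => ⟨hf.1.mul hg.1, by rw [Equiv.Perm.mul_apply, hg.2, hf.2]⟩
  inv_mem' := fun {f} hf => by
    have hp : ∀ n : ℕ, f ^ n ∈ {f : Equiv.Perm V6 | Good f ∧ f vB = vB} := by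
      intro n
      induction n with
      | zero => exact ⟨good_one, rfl⟩
      | succ n ih =>
        rw [pow_succ]
        exact ⟨ih.1.mul hf.1, by rw [Equiv.Perm.mul_apply, hf.2, ih.2]⟩
    have e : f⁻¹ = f ^ (orderOf f - 1) := inv_eq_of_mul_eq_one_right (by
      rw [← pow_succ', Nat.sub_add_cancel (orderOf_pos f), pow_orderOf_eq_one])
    exact e ▸ hp _

/-- A point in each class. -/
def cp (k : Fin 15) : V6 := pv (Fin.ofNat 126 (SV15.cls.getD k.1 0))

/-- The class of a vector. -/
def clsOf (x : V6) : Fin 15 := Fin.ofNat 15 ((SV15.tab.lookup (enc x)).getD 0)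

theorem cls_ok : ∀ k : Fin 15, hf (cp k) vB = 0 ∧ InA (cp k) ∧
    ∀ a b : Four, b ≠ 0 → clsOf (a • vB + b • cp k) = k := by decide +kernel

theorem cls_all : ∀ i : Fin 126, hf (pv i) vB = 0 →
    ∃ k : Fin 15, ∃ a b : Four, b ≠ 0 ∧ pv i = a • vB + b • cp k := by decide +kernel

/-- The image of a class. -/
def actV (f : Equiv.Perm V6) (k : Fin 15) : Fin 15 := clsOf (f (cp k))

theorem actV_spec {f : Equiv.Perm V6} (hfV : f ∈ GV) (k : Fin 15) :
    ∃ a b : Four, b ≠ 0 ∧ f (cp k) = a • vB + b • cp (actV f k) := by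
  obtain ⟨hG, hv⟩ := hfV
  have h1 : hf (f (cp k)) vB = 0 := by
    rw [← hv]
    exact (hG.orth _ _).2 (cls_ok k).1
  obtain ⟨c, hc, i, hi⟩ := inA_iff.1 ((hG.pts _).2 (cls_ok k).2.1)
  rw [hi, hf_smul_left, mul_eq_zero] at h1
  obtain ⟨l, a, b, hb, e⟩ := cls_all i (h1.resolve_left hc)
  have he : f (cp k) = (c * a) • vB + (c * b) • cp l := by rw [hi, e, smul_add, smul_smul, smul_smul]
  have hl : actV f k = l := by rw [actV, he, (cls_ok l).2.2 _ _ (mul_ne_zero hc hb)]
  exact ⟨c * a, c * b, mul_ne_zero hc hb, hl ▸ he⟩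

theorem actV_mul {f g : Equiv.Perm V6} (hfV : f ∈ GV) (hg : g ∈ GV) (k : Fin 15) :
    actV (f * g) k = actV f (actV g k) := by
  obtain ⟨a, b, hb, e⟩ := actV_spec hg k
  obtain ⟨c, d, hd, e'⟩ := actV_spec hfV (actV g k)
  obtain ⟨a', -, ha⟩ := hfV.1.scal a vB
  obtain ⟨b', hb', hbe⟩ := hfV.1.scal b (cp (actV g k))
  rw [hfV.2] at ha
  show clsOf (f (g (cp k))) = _
  rw [e, hfV.1.add, ha, hbe, e', smul_add, smul_smul, smul_smul, ← add_assoc, ← add_smul]
  exact (cls_ok _).2.2 _ _ (mul_ne_zero (hb' hb) hd)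

theorem actV_one (k : Fin 15) : actV 1 k = k := by
  have h := (cls_ok k).2.2 0 1 one_ne_zero
  rwa [zero_smul, zero_add, one_smul] at h

/-- The action on the fifteen classes. -/
def actH : GV →* Equiv.Perm (Fin 15) where
  toFun f :=
    { toFun := actV f.1
      invFun := actV f.1⁻¹
      left_inv := fun k => by rw [← actV_mul (inv_mem f.2) f.2, inv_mul_cancel, actV_one]
      right_inv := fun k => by rw [← actV_mul f.2 (inv_mem f.2), mul_inv_cancel, actV_one] }
  map_one' := Equiv.ext actV_one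
  map_mul' f g := Equiv.ext fun k => actV_mul f.2 g.2 k

theorem actH_apply (f : GV) (k : Fin 15) : actH f k = clsOf (f.1 (cp k)) := rfl

/-! ### The pairs -/

/-- The class of a pair. -/
def pairOf (i j : Fin 6) : Fin 15 := Fin.ofNat 15 (SV15.pairIdx.getD (6 * i.1 + j.1) 0)

/-- The first member. -/
def pA (k : Fin 15) : Fin 6 := Fin.ofNat 6 (SV15.pairs.getD k.1 (0, 0)).1

/-- The second member. -/
def pB (k : Fin 15) : Fin 6 := Fin.ofNat 6 (SV15.pairs.getD k.1 (0, 0)).2

theorem pair_ok : (∀ k, pA k ≠ pB k ∧ pairOf (pA k) (pB k) = k) ∧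
    ∀ i j : Fin 6, i ≠ j → pairOf j i = pairOf i j ∧
      ((pA (pairOf i j) = i ∧ pB (pairOf i j) = j) ∨ (pA (pairOf i j) = j ∧ pB (pairOf i j) = i)) := by
  decide +kernel

/-- The image of a pair. -/
def pairImg (π : Equiv.Perm (Fin 6)) (k : Fin 15) : Fin 15 := pairOf (π (pA k)) (π (pB k))

theorem pairImg_mul (π ρ : Equiv.Perm (Fin 6)) (k : Fin 15) : pairImg (π * ρ) k = pairImg π (pairImg ρ k) := by
  have hne : ρ (pA k) ≠ ρ (pB k) := ρ.injective.ne (pair_ok.1 k).1
  rcases (pair_ok.2 _ _ hne).2 with ⟨h1, h2⟩ | ⟨h1, h2⟩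
  · simp only [pairImg] at h1 h2 ⊢
    rw [h1, h2]; rfl
  · simp only [pairImg] at h1 h2 ⊢
    rw [h1, h2, (pair_ok.2 _ _ (π.injective.ne hne)).1]; rfl

theorem pairImg_one (k : Fin 15) : pairImg 1 k = k := (pair_ok.1 k).2

/-- The action of the six letters on the pairs. -/
def pairHom : Equiv.Perm (Fin 6) →* Equiv.Perm (Fin 15) where
  toFun π :=
    { toFun := pairImg π
      invFun := pairImg π⁻¹
      left_inv := fun k => by rw [← pairImg_mul, inv_mul_cancel, pairImg_one]
      right_inv := fun k => by rw [← pairImg_mul, mul_inv_cancel, pairImg_one] }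
  map_one' := Equiv.ext pairImg_one
  map_mul' π ρ := Equiv.ext (pairImg_mul π ρ)

/-- The alternating group on the pairs. -/
def PA6 : Subgroup (Equiv.Perm (Fin 15)) := (alternatingGroup (Fin 6)).map pairHom

theorem pairHom_injective : Function.Injective pairHom := by
  have h : ∀ π : Equiv.Perm (Fin 6), (∀ k, pairImg π k = k) → π = 1 := by decide +kernel
  exact (injective_iff_map_eq_one pairHom).2 fun π e => h π fun k => DFunLike.congr_fun e k

theorem card_PA6 : Nat.card PA6 = 360 := by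
  rw [PA6, ← Nat.card_congr ((alternatingGroup (Fin 6)).equivMapOfInjective _ pairHom_injective).toEquiv, card_alt]

/-! ### Explicit elements -/

/-- An element fixing the base vector, from the list. -/
theorem el_GV (i : Fin 22) (h : eM i *ᵥ vB = vB) : lin (el i) ∈ GV :=
  ⟨good_lin (el_mem i), by rw [el_apply]; exact h⟩

/-- The index of the adjusting element. -/
def adjIdx : Outer → Fin 22
  | .sw => 10
  | .fr => 11
  | .frsw => 12

/-- The adjusted outer map. -/
noncomputable def adjO (o : Outer) : Equiv.Perm V6 :=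
  lin (el (adjIdx o)) * o.perm

/-- The adjusted outer map as a function. -/
def adjF (o : Outer) (x : V6) : V6 :=
  eM (adjIdx o) *ᵥ o.perm x

theorem adjO_apply (o : Outer) (x : V6) : adjO o x = adjF o x := by
  rw [adjO.eq_def, Equiv.Perm.mul_apply, el_apply, adjF.eq_def]

theorem adj_facts : (∀ o, adjF o vB = vB) ∧ (∀ k, clsOf (adjF .frsw (cp k)) = k) := by decide +kernel

theorem good_adjO (o : Outer) : Good (adjO o) := (good_lin (el_mem _)).mul (good_outer o)

theorem adjO_GV (o : Outer) : adjO o ∈ GV := ⟨good_adjO o, by rw [adjO_apply]; exact adj_facts.1 o⟩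

theorem adj_odd : ∀ o : Outer, o ≠ .frsw → ∀ π : Equiv.Perm (Fin 6), Equiv.Perm.sign π = 1 →
    ∃ k, pairImg π k ≠ clsOf (adjF o (cp k)) := by decide +kernel

theorem letters_ok : ∀ j : Fin 4, eM (6 + j.1) *ᵥ vB = vB ∧
    ∀ k, clsOf (eM (6 + j.1) *ᵥ cp k) = pairImg (cyc j.1) k := by decide +kernel

/-- The lift of a three-cycle. -/
noncomputable def hgen (j : Fin 4) : Equiv.Perm V6 := lin (el ⟨6 + j.1, by omega⟩)

theorem hgen_GV (j : Fin 4) : hgen j ∈ GV := el_GV _ (letters_ok j).1

theorem hgen_KP (j : Fin 4) : hgen j ∈ KP := el_KP _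

theorem act_hgen (j : Fin 4) : actH ⟨hgen j, hgen_GV j⟩ = pairHom (cyc j.1) := Equiv.ext fun k => by
  rw [actH_apply]
  show clsOf (lin (el _) (cp k)) = pairImg _ k
  rw [el_apply]
  exact (letters_ok j).2 k

/-- A group with the four lifts acts at least as the alternating group. -/
theorem PA6_le {X : Subgroup GV} (h : ∀ j, (⟨hgen j, hgen_GV j⟩ : GV) ∈ X) : PA6 ≤ X.map actH := by
  refine Subgroup.map_le_iff_le_comap.2 (alt_le fun k hk => ?_)
  exact ⟨_, h ⟨k, hk⟩, act_hgen ⟨k, hk⟩⟩

/-- The five generators of the kernel. -/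
noncomputable def kgen (i : Fin 5) : Equiv.Perm V6 :=
  if h : i.1 < 4 then lin (el ⟨2 + i.1, by omega⟩) else adjO .frsw

/-- The five generators as functions. -/
def kgenF (i : Fin 5) (x : V6) : V6 := if i.1 < 4 then eM (2 + i.1) *ᵥ x else adjF .frsw x

theorem kgen_apply (i : Fin 5) (x : V6) : kgen i x = kgenF i x := by
  unfold kgen kgenF
  split
  · rw [el_apply]
  · rw [adjO_apply]

theorem kgen_facts : (∀ i, kgenF i vB = vB) ∧ (∀ i k, clsOf (kgenF i (cp k)) = k) ∧
    (∀ i t, kgenF i (kgenF i (bas t)) = bas t) ∧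
    ∀ i j t, kgenF i (kgenF j (bas t)) = kgenF j (kgenF i (bas t)) := by decide +kernel

theorem good_kgen (i : Fin 5) : Good (kgen i) := by
  unfold kgen
  split
  · exact good_lin (el_mem _)
  · exact good_adjO _

theorem kgen_GV (i : Fin 5) : kgen i ∈ GV := ⟨good_kgen i, by rw [kgen_apply]; exact kgen_facts.1 i⟩

theorem act_kgen (i : Fin 5) : actH ⟨kgen i, kgen_GV i⟩ = 1 := Equiv.ext fun k => by
  rw [actH_apply, Equiv.Perm.one_apply]
  show clsOf (kgen i (cp k)) = k
  rw [kgen_apply]
  exact kgen_facts.2.1 i k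

theorem kgen_sq (i : Fin 5) : kgen i * kgen i = 1 :=
  ((good_kgen i).mul (good_kgen i)).ext good_one fun t => by
    rw [Equiv.Perm.mul_apply, kgen_apply, kgen_apply, Equiv.Perm.one_apply]
    exact kgen_facts.2.2.1 i t

theorem kgen_comm (i j : Fin 5) : kgen i * kgen j = kgen j * kgen i :=
  ((good_kgen i).mul (good_kgen j)).ext ((good_kgen j).mul (good_kgen i)) fun t => by
    simp only [Equiv.Perm.mul_apply, kgen_apply]
    exact kgen_facts.2.2.2 i j t

/-- The kernel inside the triple cover. -/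
noncomputable def R16 : Subgroup (Equiv.Perm V6) := Subgroup.closure (Set.range fun i : Fin 4 => kgen i.castSucc)

/-- The kernel. -/
noncomputable def E32 : Subgroup (Equiv.Perm V6) := Subgroup.closure (Set.range kgen)

theorem E32_comm : ∀ a ∈ E32, ∀ b ∈ E32, a * b = b * a := by
  intro a ha b hb
  have h : E32 ≤ Subgroup.centralizer (Set.range kgen) := (Subgroup.closure_le _).2 (by
    rintro _ ⟨i, rfl⟩
    exact Subgroup.mem_centralizer_iff.2 (by rintro _ ⟨j, rfl⟩; exact kgen_comm j i))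
  have h2 : E32 ≤ Subgroup.centralizer (E32 : Set (Equiv.Perm V6)) := (Subgroup.closure_le _).2 (by
    rintro _ ⟨i, rfl⟩
    exact Subgroup.mem_centralizer_iff.2 fun x hx =>
      ((Subgroup.mem_centralizer_iff.1 (h hx)) _ ⟨i, rfl⟩).symm)
  exact (Subgroup.mem_centralizer_iff.1 (h2 ha) b hb).symm

theorem E32_sq : ∀ a ∈ E32, a * a = 1 := by
  intro a ha
  induction ha using Subgroup.closure_induction with
  | mem x hx => obtain ⟨i, rfl⟩ := hx; exact kgen_sq i
  | one => exact one_mul 1
  | mul x y hx hy ix iy =>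
    calc x * y * (x * y) = x * (y * x) * y := by group
      _ = x * (x * y) * y := by rw [E32_comm y hy x hx]
      _ = (x * x) * (y * y) := by group
      _ = 1 := by rw [ix, iy, one_mul]
  | inv x _ ix => rw [← _root_.mul_inv_rev, ix, inv_one]

/-- A product of the generators, as a function. -/
def prodF (m : Fin 5 → Bool) (x : V6) : V6 :=
  let s : Fin 5 → V6 → V6 := fun i y => if m i then kgenF i y else y
  s 0 (s 1 (s 2 (s 3 (s 4 x))))

/-- A product of the generators. -/
noncomputable def prodP (m : Fin 5 → Bool) : Equiv.Perm V6 :=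
  let s : Fin 5 → Equiv.Perm V6 := fun i => if m i then kgen i else 1
  s 0 * (s 1 * (s 2 * (s 3 * s 4)))

theorem prodP_apply (m : Fin 5 → Bool) (x : V6) : prodP m x = prodF m x := by
  have h : ∀ i y, (if m i then kgen i else 1 : Equiv.Perm V6) y = if m i then kgenF i y else y := fun i y => by
    split <;> simp [kgen_apply]
  simp only [prodP, prodF, Equiv.Perm.mul_apply, h]

theorem prod_distinct : (Finset.univ.image fun m : Fin 5 → Bool =>
    ((List.finRange 6).map fun i => (enc (prodF m (bas (i, false))), enc (prodF m (bas (i, true)))))).card = 32 := by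
  decide +kernel

theorem prodP_mem (m : Fin 5 → Bool) : prodP m ∈ E32 := by
  have h : ∀ i, (if m i then kgen i else 1 : Equiv.Perm V6) ∈ E32 := fun i => by
    split
    · exact Subgroup.subset_closure ⟨i, rfl⟩
    · exact one_mem _
  simp only [prodP]
  exact mul_mem (h 0) (mul_mem (h 1) (mul_mem (h 2) (mul_mem (h 3) (h 4))))

theorem prodP_injective : Function.Injective prodP := by
  intro a b e
  have hinj := Finset.injOn_of_card_image_eq (prod_distinct.trans (by simp))
  refine hinj (Finset.mem_univ a) (Finset.mem_univ b) (List.map_congr_left fun i _ => ?_)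
  rw [← prodP_apply, ← prodP_apply, ← prodP_apply, ← prodP_apply, e]

theorem card_E32_ge : 32 ≤ Nat.card E32 := by
  have h := Nat.card_le_card_of_injective (fun m => (⟨prodP m, prodP_mem m⟩ : E32)) fun a b e =>
    prodP_injective (congrArg Subtype.val e)
  simpa using h

theorem card_R16_ge : 16 ≤ Nat.card R16 := by
  let up : (Fin 4 → Bool) → Fin 5 → Bool := fun m i => if h : i.1 < 4 then m ⟨i.1, h⟩ else false
  have hmem : ∀ m, prodP (up m) ∈ R16 := fun m => by
    have h : ∀ i : Fin 5, (if up m i then kgen i else 1 : Equiv.Perm V6) ∈ R16 := fun i => by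
      split
      · rename_i hi
        have h4 : i.1 < 4 := by
          by_contra hh
          simp [up, hh] at hi
        exact Subgroup.subset_closure ⟨⟨i.1, h4⟩, rfl⟩
      · exact one_mem _
    simp only [prodP]
    exact mul_mem (h 0) (mul_mem (h 1) (mul_mem (h 2) (mul_mem (h 3) (h 4))))
  have hup : Function.Injective up := fun a b e => funext fun i => by
    have := congrFun e ⟨i.1, by omega⟩
    simpa [up] using this
  have h := Nat.card_le_card_of_injective (fun m => (⟨prodP (up m), hmem m⟩ : R16)) fun a b e =>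
    hup (prodP_injective (congrArg Subtype.val e))
  simpa using h

theorem R16_le : R16 ≤ KP ⊓ GV := (Subgroup.closure_le _).2 (by
  rintro _ ⟨i, rfl⟩
  refine Subgroup.mem_inf.2 ⟨?_, kgen_GV _⟩
  show kgen i.castSucc ∈ KP
  rw [kgen, dif_pos (show i.castSucc.1 < 4 from i.2)]
  exact el_KP _)

theorem E32_le : E32 ≤ GV := (Subgroup.closure_le _).2 (by rintro _ ⟨i, rfl⟩; exact kgen_GV i)

theorem R16_le_E32 : R16 ≤ E32 := Subgroup.closure_mono (Set.range_comp_subset_range _ kgen)

theorem act_E32 {f : GV} (hf : f.1 ∈ E32) : actH f = 1 := by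
  have h : ∀ x, x ∈ E32 → ∀ hx : x ∈ GV, actH ⟨x, hx⟩ = 1 := by
    intro x hx
    induction hx using Subgroup.closure_induction with
    | mem x hx => obtain ⟨i, rfl⟩ := hx; exact fun _ => act_kgen i
    | one => exact fun _ => map_one actH
    | mul x y hx hy ix iy =>
      intro hxy
      rw [show (⟨x * y, hxy⟩ : GV) = ⟨x, E32_le hx⟩ * ⟨y, E32_le hy⟩ from rfl, map_mul, ix, iy, one_mul]
    | inv x hx ix =>
      intro hxi
      rw [show (⟨x⁻¹, hxi⟩ : GV) = (⟨x, E32_le hx⟩ : GV)⁻¹ from rfl, map_inv, ix, inv_one]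
  exact h f.1 hf f.2

/-! ### The stabilizer in the triple cover -/

theorem bPts_nodup : Orb.bPts.Nodup := by decide +kernel

theorem card_InB : Nat.card {x : V6 // InB x} = 1701 := by
  let f : {c : Four // c ≠ 0} × Fin 567 → {x : V6 // InB x} := fun p =>
    ⟨p.1.1 • dec (Orb.bPts.getD p.2.1 0), by
      obtain ⟨h0, h1, h2, h3⟩ := b_singular p.2.1 p.2.2
      have hne : dec (Orb.bPts.getD p.2.1 0) ≠ 0 := fun h => by
        rw [h] at h1; exact absurd h1 (by decide)
      refine ⟨smul_ne p.1.2 hne, by rw [hf_smul_self p.1.2]; exact h0, fun h => h3 ?_⟩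
      have h4 := h.2
      rwa [nrm_smul p.1.2, nrm, h1, one_pow, one_smul, h2] at h4⟩
  have hinj : Function.Injective f := by
    intro p q e
    have e' := congrArg Subtype.val e
    obtain ⟨-, p1, p2, -⟩ := b_singular p.2.1 p.2.2
    obtain ⟨-, q1, q2, -⟩ := b_singular q.2.1 q.2.2
    have hl := congrArg lead e'
    simp only [f] at hl e'
    rw [lead_smul _ p.1.2, lead_smul _ q.1.2, p1, q1, mul_one, mul_one] at hl
    have h5 := congrArg nrm e'
    rw [nrm_smul p.1.2, nrm_smul q.1.2, nrm, nrm, p1, q1, one_pow, one_smul, one_smul] at h5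
    have h6 := congrArg enc h5
    rw [p2, q2, List.getD_eq_getElem _ _ (by rw [pts_lists.2.2.2]; exact p.2.2),
      List.getD_eq_getElem _ _ (by rw [pts_lists.2.2.2]; exact q.2.2), bPts_nodup.getElem_inj_iff] at h6
    exact Prod.ext (Subtype.ext hl) (Fin.ext h6)
  have hsurj : Function.Surjective f := by
    rintro ⟨x, hx0, hs, hA⟩
    rcases classify _ (enc_lt x) (by rw [dec_enc]; exact hs) with h | h | h <;> rw [dec_enc] at h
    · exact absurd h hx0
    · exact absurd ⟨hx0, h⟩ hA
    obtain ⟨i, hi, e⟩ := List.getElem_of_mem h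
    refine ⟨(⟨lead x, lead_ne hx0⟩, ⟨i, pts_lists.2.2.2 ▸ hi⟩), Subtype.ext ?_⟩
    simp only [f]
    rw [List.getD_eq_getElem _ _ hi, e, dec_enc]
    exact (smul_nrm hx0).symm
  rw [← Nat.card_eq_of_bijective f ⟨hinj, hsurj⟩, Nat.card_prod, Nat.card_fin, Nat.card_eq_fintype_card]
  rfl

theorem card_S0 {F : Type*} [Field F] [Fintype F] (hF : Fintype.card F = 9) :
    Nat.card ↥(KP ⊓ GV) = 5760 := by
  have hKP : Nat.card KP = 9797760 := by
    rw [KP, ← Nat.card_congr (K1.equivMapOfInjective _ lin_injective).toEquiv, card_K1 hF]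
  have horb : MulAction.orbit KP vB = {x | InB x} := by
    ext x
    constructor
    · rintro ⟨⟨k, hk⟩, rfl⟩
      exact (good_KP hk).inB.2 inB_vB
    · intro hx
      obtain ⟨g, hg, e⟩ := trans_B hx
      exact ⟨⟨lin g, lin_mem_KP.2 hg⟩, e⟩
  have h := MulAction.index_stabilizer KP vB
  rw [horb] at h
  have h2 := (MulAction.stabilizer KP vB).card_mul_index
  rw [h, hKP, ← Nat.card_coe_set_eq, show Nat.card ↥{x : V6 | InB x} = 1701 from card_InB] at h2
  have e : Nat.card (MulAction.stabilizer KP vB) = Nat.card ↥(KP ⊓ GV) := Nat.card_congr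
    { toFun := fun k => ⟨k.1.1, k.1.2, good_KP k.1.2, k.2⟩
      invFun := fun k => ⟨⟨k.1, k.2.1⟩, k.2.2.2⟩
      left_inv := fun k => rfl
      right_inv := fun k => rfl }
  rw [e] at h2
  omega

/-- Orders: image times kernel. -/
theorem card_act (X : Subgroup (Equiv.Perm V6)) (hX : X ≤ GV) :
    Nat.card ↥((X.subgroupOf GV).map actH) * Nat.card (actH.comp (X.subgroupOf GV).subtype).ker = Nat.card X := by
  have h := Subgroup.card_eq_card_quotient_mul_card_subgroup (actH.comp (X.subgroupOf GV).subtype).ker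
  rw [Nat.card_congr (QuotientGroup.quotientKerEquivRange _).toEquiv, MonoidHom.range_comp,
    Subgroup.range_subtype, Nat.card_congr (Subgroup.subgroupOfEquivOfLe hX).toEquiv] at h
  exact h.symm

/-- A subgroup acting trivially lies in the kernel. -/
theorem card_ker_ge (X : Subgroup (Equiv.Perm V6)) (hX : X ≤ GV) (Y : Subgroup (Equiv.Perm V6)) (hY : Y ≤ X)
    (htriv : ∀ f : GV, f.1 ∈ Y → actH f = 1) : Nat.card Y ≤ Nat.card (actH.comp (X.subgroupOf GV).subtype).ker :=
  Nat.card_le_card_of_injective (fun y => ⟨⟨⟨y.1, hX (hY y.2)⟩, hY y.2⟩, htriv _ y.2⟩) fun a b e => Subtype.ext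
    (congrArg (fun p : (actH.comp (X.subgroupOf GV).subtype).ker => ((p.1 : GV) : Equiv.Perm V6)) e)

theorem act_S0 {F : Type*} [Field F] [Fintype F] (hF : Fintype.card F = 9) :
    ((KP ⊓ GV).subgroupOf GV).map actH = PA6 := by
  have hle : PA6 ≤ ((KP ⊓ GV).subgroupOf GV).map actH := PA6_le fun j => ⟨hgen_KP j, hgen_GV j⟩
  refine (Subgroup.eq_of_le_of_card_ge hle ?_).symm
  have h := card_act (KP ⊓ GV) inf_le_right
  have h2 := card_ker_ge (KP ⊓ GV) inf_le_right R16 R16_le fun f hf => act_E32 (R16_le_E32 hf)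
  have h3 := card_R16_ge
  rw [card_S0 hF] at h
  rw [card_PA6]
  by_contra hcon
  push Not at hcon
  have := Nat.mul_le_mul (show 361 ≤ _ from hcon) (h3.trans h2)
  omega

/-- An adjusted outer map with odd image lies outside the triple cover. -/
theorem adj_not_mem {F : Type*} [Field F] [Fintype F] (hF : Fintype.card F = 9) {o : Outer} (ho : o ≠ .frsw)
    {k : Equiv.Perm V6} (hk : k ∈ KP ⊓ GV) : actH ⟨adjO o, adjO_GV o⟩ ≠ actH ⟨k, hk.2⟩ := by
  intro e
  have hm : actH ⟨k, hk.2⟩ ∈ ((KP ⊓ GV).subgroupOf GV).map actH := ⟨_, hk, rfl⟩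
  rw [← e, act_S0 hF] at hm
  obtain ⟨π, hπ, hπe⟩ := hm
  obtain ⟨t, ht⟩ := adj_odd o ho π (Equiv.Perm.mem_alternatingGroup.1 hπ)
  refine ht ?_
  have h := DFunLike.congr_fun hπe t
  rw [actH_apply] at h
  rw [← adjO_apply]
  exact h

theorem sw_not_mem {F : Type*} [Field F] [Fintype F] (hF : Fintype.card F = 9) : lin U43Six.sw ∉ KP := fun h =>
  adj_not_mem hF (o := .sw) (by decide) (Subgroup.mem_inf.2
    ⟨mul_mem (el_KP _) h, adjO_GV .sw⟩ : adjO .sw ∈ KP ⊓ GV) rfl

end CfsgLib.Spor.LargeFischer
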