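import Cfsg.Agent.Lib.Spor.LargeFischer.StabU
import Cfsg.Agent.Lib.Spor.LargeFischer.StabV

/-!
# The stabilizer of a conjugate of the central involution
-/

set_option autoImplicit false
set_option maxRecDepth 100000

namespace CfsgLib.Spor.LargeFischer

open Subgroup CfsgLib.Spor.U43Six CfsgLib.Spor.Fi22.U6

/-- The field with nine elements used for orders. -/
abbrev F9 : Type := CfsgLib.Lie.MultExc.UFourThree.Nine

theorem card_F9 : Fintype.card F9 = 9 := CfsgLib.Lie.MultExc.UFourThree.Nine.card_nine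

theorem class_tree : ∀ k : Fin 15, k.1 = 0 ∨ ((SV15.par.getD k.1 (0, 0)).1 < k.1 ∧
    (SV15.par.getD k.1 (0, 0)).2 < 4 ∧
    (pairImg (cyc (SV15.par.getD k.1 (0, 0)).2) (Fin.ofNat 15 (SV15.par.getD k.1 (0, 0)).1) = k ∧
    pairImg (cyc (SV15.par.getD k.1 (0, 0)).2) (pairImg (cyc (SV15.par.getD k.1 (0, 0)).2) k) =
      Fin.ofNat 15 (SV15.par.getD k.1 (0, 0)).1)) := by decide +kernel

/-- A two-subgroup normalized by the lifts of the three-cycles fixes every class. -/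
theorem two_trivial {I : Subgroup (Equiv.Perm V6)} (hI : I ≤ GV) (h2 : IsPGroup 2 I)
    (hn : ∀ j, ∀ a ∈ I, (hgen j)⁻¹ * a * hgen j ∈ I) : ∀ f : GV, f.1 ∈ I → actH f = 1 := by
  haveI : Fact (Nat.Prime 2) := ⟨Nat.prime_two⟩
  let θ : I →* Equiv.Perm (Fin 15) := actH.comp (Subgroup.inclusion hI)
  letI : MulAction I (Fin 15) := MulAction.compHom _ θ
  obtain ⟨k0, hk0⟩ := h2.nonempty_fixed_point_of_prime_not_dvd_card (Fin 15) (by rw [Nat.card_fin]; norm_num)
  have step : ∀ (j : Fin 4) (i : Fin 15), i ∈ MulAction.fixedPoints I (Fin 15) →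
      pairImg (cyc j.1) i ∈ MulAction.fixedPoints I (Fin 15) := by
    intro j i hi a
    have h1 : actH ⟨_, hI (hn j a.1 a.2)⟩ i = i := hi ⟨_, hn j a.1 a.2⟩
    have e : (⟨_, hI (hn j a.1 a.2)⟩ : GV) =
        (⟨hgen j, hgen_GV j⟩ : GV)⁻¹ * ⟨a.1, hI a.2⟩ * ⟨hgen j, hgen_GV j⟩ := rfl
    rw [e, map_mul, map_mul, map_inv, act_hgen, Equiv.Perm.mul_apply, Equiv.Perm.mul_apply] at h1
    show actH ⟨a.1, hI a.2⟩ _ = _
    have h2 := congrArg (pairHom (cyc j.1)) h1
    rw [← Equiv.Perm.mul_apply, mul_inv_cancel, Equiv.Perm.one_apply] at h2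
    exact h2
  have down : ∀ n, ∀ k : Fin 15, k.1 = n → k ∈ MulAction.fixedPoints I (Fin 15) →
      (0 : Fin 15) ∈ MulAction.fixedPoints I (Fin 15) := by
    intro n
    induction n using Nat.strong_induction_on with
    | _ n ih =>
      intro k hk hfx
      rcases class_tree k with h | ⟨hp, hj, -, e⟩
      · rwa [show k = 0 from Fin.ext h] at hfx
      · have h2 := step ⟨_, hj⟩ _ (step ⟨_, hj⟩ k hfx)
        rw [e] at h2
        refine ih _ ?_ _ rfl h2
        simp only [Fin.val_ofNat]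
        have := k.2
        rw [Nat.mod_eq_of_lt (by omega)]
        omega
  have h0 := down k0.1 k0 rfl hk0
  have up : ∀ n, ∀ k : Fin 15, k.1 = n → k ∈ MulAction.fixedPoints I (Fin 15) := by
    intro n
    induction n using Nat.strong_induction_on with
    | _ n ih =>
      intro k hk
      rcases class_tree k with h | ⟨hp, hj, e, -⟩
      · rwa [show k = 0 from Fin.ext h]
      · rw [← e]
        refine step ⟨_, hj⟩ _ (ih _ ?_ _ rfl)
        simp only [Fin.val_ofNat]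
        have := k.2
        rw [Nat.mod_eq_of_lt (by omega)]
        omega
  intro f hf
  exact Equiv.ext fun k => up k.1 k rfl ⟨f.1, hf⟩

namespace Data

variable {G : Type*} [Group G] [Finite G] {z : G} {Q : Subgroup G} {vec : G → V6}
  {φ : ↥(centralizer ({z} : Set G)) →* Equiv.Perm V6} {o : Outer} (D : Data z Q vec φ o)
include D

theorem mem_XV {f : Equiv.Perm V6} (hf : f ∈ φ.range) (hv : f vB = vB) : f ∈ φ.range ⊓ GV := by
  refine Subgroup.mem_inf.2 ⟨hf, ?_, hv⟩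
  obtain ⟨c, rfl⟩ := hf
  exact D.good c

theorem hgen_range (j : Fin 4) : hgen j ∈ φ.range := by
  obtain ⟨c, hc⟩ := D.K1_le _ (hgen_KP j)
  exact ⟨c, hc⟩

theorem adjO_range : adjO o ∈ φ.range := by
  obtain ⟨c, hc⟩ := D.K1_le _ (el_KP (adjIdx o))
  obtain ⟨d, hd⟩ := D.outer_mem
  exact ⟨c * d, by rw [map_mul, hc, hd]; rfl⟩

theorem adjO_not_mem : adjO o ∉ KP := fun h => D.not_mem (by
  have := mul_mem (inv_mem (el_KP (adjIdx o))) h
  rwa [adjO, inv_mul_cancel_left] at this)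

/-- The structure of the stabilizer of the base vector. -/
theorem conj_stab {g : G} (hgQ : g * z * g⁻¹ ∈ Q) (hne : g * z * g⁻¹ ≠ z) (hv : vec (g * z * g⁻¹) = vB) :
    o = .frsw ∧ imE Q φ g = E32 ∧ ((φ.range ⊓ GV).subgroupOf GV).map actH = PA6 ∧
      (∀ f : GV, f.1 ∈ φ.range → actH f = 1 → f.1 ∈ E32) ∧ Nat.card ↥(φ.range ⊓ GV) = 11520 := by
  classical
  set X := φ.range ⊓ GV with hXdef
  set I := imE Q φ g with hIdef
  have hIX : I ≤ X := fun f hf => D.mem_XV (D.imE_le_range g hf) (hv ▸ D.imE_fix hgQ hf)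
  have hItriv := two_trivial (hIX.trans inf_le_right) (D.imE_pGroup g) fun j a ha => by
    have h := D.imE_norm hgQ hne (inv_mem (D.hgen_range j)) (by
      rw [hv]
      exact (inv_mem (hgen_GV j)).2) ha
    rwa [inv_inv] at h
  have hPA : PA6 ≤ (X.subgroupOf GV).map actH := PA6_le fun j =>
    Subgroup.mem_inf.2 ⟨D.hgen_range j, hgen_GV j⟩
  have hI32 : 32 ≤ Nat.card I := D.card_imE_ge hgQ hne
  have hker := card_ker_ge X inf_le_right I hIX hItriv
  have hact := card_act X inf_le_right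
  have hS0 : Nat.card ↥(X ⊓ KP) ≤ 5760 := by
    rw [← card_S0 card_F9]
    exact Subgroup.card_le_of_le fun f hf => Subgroup.mem_inf.2 ⟨hf.2, hf.1.2⟩
  have hX := D.half_KP X inf_le_left
  have hA := Subgroup.card_le_of_le hPA
  rw [card_PA6] at hA
  have arith : ∀ a b t : ℕ, a * b = t → 360 ≤ a → 32 ≤ b → t ≤ 11520 → b = 32 ∧ a = 360 := by
    intro a b t h1 h2 h3 h4
    constructor <;> by_contra hcon
    · have := Nat.mul_le_mul h2 (show 33 ≤ b by omega)
      omega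
    · have := Nat.mul_le_mul (show 361 ≤ a by omega) h3
      omega
  have hb := arith _ _ _ hact hA (hI32.trans hker) (hX.trans (by omega))
  have hPeq : (X.subgroupOf GV).map actH = PA6 := (Subgroup.eq_of_le_of_card_ge hPA (by
    rw [card_PA6]; exact hb.2.le)).symm
  -- the kernel
  let K : Subgroup (Equiv.Perm V6) :=
    (actH.comp (X.subgroupOf GV).subtype).ker.map (GV.subtype.comp (X.subgroupOf GV).subtype)
  have hK : Nat.card K = 32 := by
    rw [← Nat.card_congr (Subgroup.equivMapOfInjective _ (GV.subtype.comp (X.subgroupOf GV).subtype)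
      (GV.subtype_injective.comp (X.subgroupOf GV).subtype_injective)).toEquiv]
    exact hb.1
  have hmemK : ∀ f : GV, f.1 ∈ φ.range → actH f = 1 → f.1 ∈ K := fun f hf h1 =>
    ⟨⟨f, Subgroup.mem_inf.2 ⟨hf, f.2⟩⟩, h1, rfl⟩
  have hIK : I = K := Subgroup.eq_of_le_of_card_ge
    (fun f hf => hmemK ⟨f, (hIX hf).2⟩ (hIX hf).1 (hItriv ⟨f, (hIX hf).2⟩ hf)) (by rw [hK]; exact hI32)
  -- an element outside the triple cover
  obtain ⟨f, hfI, hfK⟩ : ∃ f ∈ I, f ∉ KP := by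
    by_contra hcon
    push Not at hcon
    have hle : I ≤ KP ⊓ GV := fun f hf => Subgroup.mem_inf.2 ⟨hcon f hf, (hIX hf).2⟩
    have h1 := card_ker_ge (KP ⊓ GV) inf_le_right I hle hItriv
    have h2 := card_act (KP ⊓ GV) inf_le_right
    rw [act_S0 card_F9, card_PA6, card_S0 card_F9] at h2
    omega
  have hadj : (adjO o)⁻¹ ∉ KP := fun h => D.adjO_not_mem (by simpa using inv_mem h)
  have hs : f * (adjO o)⁻¹ ∈ KP ⊓ GV := Subgroup.mem_inf.2
    ⟨D.outer_two (hIX hfI).1 (inv_mem D.adjO_range) hfK hadj, mul_mem (hIX hfI).2 (inv_mem (adjO_GV o))⟩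
  have ho : o = .frsw := by
    by_contra hne'
    refine adj_not_mem card_F9 hne' (inv_mem hs) ?_
    rw [show (⟨(f * (adjO o)⁻¹)⁻¹, _⟩ : GV) = ⟨adjO o, adjO_GV o⟩ * (⟨f, (hIX hfI).2⟩ : GV)⁻¹ from
      Subtype.ext (by simp), map_mul, map_inv, hItriv ⟨f, (hIX hfI).2⟩ hfI, inv_one, mul_one]
  have hE : E32 ≤ K := (Subgroup.closure_le _).2 (by
    rintro _ ⟨i, rfl⟩
    refine hmemK ⟨kgen i, kgen_GV i⟩ ?_ (act_kgen i)
    show kgen i ∈ φ.range
    unfold kgen
    split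
    · obtain ⟨c, hc⟩ := D.K1_le _ (el_KP _)
      exact ⟨c, hc⟩
    · exact ho ▸ D.adjO_range)
  have hEK : E32 = K := Subgroup.eq_of_le_of_card_ge hE (by rw [hK]; exact card_E32_ge)
  refine ⟨ho, hIK.trans hEK.symm, hPeq, fun f hf h1 => hEK ▸ hmemK f hf h1, ?_⟩
  rw [← hact, hb.1, hb.2]

theorem conj_to_base {g : G} (hgQ : g * z * g⁻¹ ∈ Q) (hne : g * z * g⁻¹ ≠ z) :
    ∃ c : ↥(centralizer ({z} : Set G)), φ c (vec (g * z * g⁻¹)) = vB := by
  obtain ⟨k, hk, e⟩ := trans_B (D.conj_inB hgQ hne)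
  obtain ⟨c, hc⟩ := D.K1_le (lin k⁻¹) (lin_mem_KP.2 (inv_mem hk))
  exact ⟨c, by rw [hc, ← e, ← Equiv.Perm.mul_apply, ← map_mul, inv_mul_cancel, map_one, Equiv.Perm.one_apply]⟩

theorem imE_shift (g : G) (c : ↥(centralizer ({z} : Set G))) :
    imE Q φ ((c : G) * g) = (imE Q φ g).map (MulAut.conj (φ c)).toMonoidHom := by
  ext f
  constructor
  · rintro ⟨e, ⟨q, hq, he⟩, rfl⟩
    refine ⟨φ (c⁻¹ * e * c), ⟨c⁻¹ * e * c, ⟨q, hq, ?_⟩, rfl⟩, ?_⟩
    · show g * q * g⁻¹ = (c : G)⁻¹ * (e : G) * c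
      rw [← show (c : G) * g * q * ((c : G) * g)⁻¹ = (e : G) from he]
      group
    · show φ c * φ (c⁻¹ * e * c) * (φ c)⁻¹ = φ e
      rw [map_mul, map_mul, map_inv]
      group
  · rintro ⟨_, ⟨e, ⟨q, hq, he⟩, rfl⟩, rfl⟩
    refine ⟨c * e * c⁻¹, ⟨q, hq, ?_⟩, by rw [map_mul, map_mul, map_inv]; rfl⟩
    show (c : G) * g * q * ((c : G) * g)⁻¹ = (c : G) * e * (c : G)⁻¹
    rw [← show g * q * g⁻¹ = (e : G) from he]
    group

/-- A group of this type has the outer map with both twists. -/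
theorem outer_eq {g : G} (hgQ : g * z * g⁻¹ ∈ Q) (hne : g * z * g⁻¹ ≠ z) : o = .frsw := by
  obtain ⟨c, hc⟩ := D.conj_to_base hgQ hne
  obtain ⟨h1, h2, h3⟩ := D.shift hgQ hne c
  exact (D.conj_stab h1 h2 (h3.trans hc)).1

/-- The image is elementary abelian of order thirty two and the two subgroups meet in order `2 ^ 7`. -/
theorem conj_image {g : G} (hgQ : g * z * g⁻¹ ∈ Q) (hne : g * z * g⁻¹ ≠ z) :
    Nat.card ↥(imE Q φ g) = 32 ∧ (∀ a ∈ imE Q φ g, ∀ b ∈ imE Q φ g, a * b = b * a) ∧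
      (∀ a ∈ imE Q φ g, a * a = 1) ∧ Nat.card ↥(Q ⊓ Q.map (MulAut.conj g).toMonoidHom) = 2 ^ 7 := by
  obtain ⟨c, hc⟩ := D.conj_to_base hgQ hne
  obtain ⟨h1, h2, h3⟩ := D.shift hgQ hne c
  obtain ⟨-, hE, hPA, hker, hX⟩ := D.conj_stab h1 h2 (h3.trans hc)
  rw [D.imE_shift] at hE
  have hinj : Function.Injective (MulAut.conj (φ c)).toMonoidHom := (MulAut.conj (φ c)).injective
  have hcard : Nat.card ↥(imE Q φ g) = Nat.card E32 := by
    rw [← hE]; exact Nat.card_congr (Subgroup.equivMapOfInjective _ _ hinj).toEquiv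
  have hm : ∀ a ∈ imE Q φ g, MulAut.conj (φ c) a ∈ E32 := fun a ha => hE ▸ ⟨a, ha, rfl⟩
  have h32 : Nat.card ↥(imE Q φ g) = 32 := by
    have h5 := D.half_KP E32 (hE ▸ Subgroup.map_le_iff_le_comap.2 (fun f hf => by
      obtain ⟨d, rfl⟩ := D.imE_le_range g hf
      exact ⟨c * d * c⁻¹, by rw [map_mul, map_mul, map_inv]; rfl⟩))
    have hle : E32 ⊓ KP ≤ KP ⊓ GV := fun f hf => Subgroup.mem_inf.2 ⟨hf.2, E32_le hf.1⟩
    have h6 := card_ker_ge (KP ⊓ GV) inf_le_right (E32 ⊓ KP) hle fun f hf => act_E32 hf.1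
    have h7 := card_act (KP ⊓ GV) inf_le_right
    rw [act_S0 card_F9, card_PA6, card_S0 card_F9] at h7
    have h8 := card_E32_ge
    omega
  refine ⟨h32, fun a ha b hb => ?_, fun a ha => ?_, ?_⟩
  · apply (MulAut.conj (φ c)).injective
    rw [map_mul, map_mul]
    exact E32_comm _ (hm a ha) _ (hm b hb)
  · apply (MulAut.conj (φ c)).injective
    rw [map_mul, map_one]
    exact E32_sq _ (hm a ha)
  · have h4 := D.card_imE g
    have h5 := D.card_inter_le hgQ hne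
    have h6 := D.card_E hgQ hne
    rw [h32] at h4
    omega

end Data

end CfsgLib.Spor.LargeFischer
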