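import Cfsg.Agent.Lib.Spor.LargeFischer.StabV
import Cfsg.Agent.Lib.Spor.LargeFischer.Hermitian
import Cfsg.Agent.Lib.Spor.LargeFischer.SylData

/-!
# A Sylow two-subgroup of the outer quotient and its large elementary abelian subgroup
-/

set_option autoImplicit false
set_option maxRecDepth 100000

namespace CfsgLib.Spor.LargeFischer

open Matrix CfsgLib.Spor.U43Six CfsgLib.Spor.Fi22.U6

/-- Additive maps agree when they agree on the twelve basic vectors. -/
theorem add_ext {f g : V6 → V6} (hf : ∀ x y, f (x + y) = f x + f y) (hg : ∀ x y, g (x + y) = g x + g y)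
    (h : ∀ t, f (bas t) = g (bas t)) (x : V6) : f x = g x := by
  let F : V6 →+ V6 := AddMonoidHom.mk' f hf
  let H : V6 →+ V6 := AddMonoidHom.mk' g hg
  have hs : ∀ i c, F (Pi.single i c) = H (Pi.single i c) := fun i c => by
    rcases single_cases i c with e | ⟨b, e⟩ | e
    · rw [e, map_zero, map_zero]
    · rw [e]; exact h _
    · rw [e, map_add, map_add]
      exact congrArg₂ (· + ·) (h _) (h _)
  show F x = H x
  rw [(Finset.univ_sum_single x).symm, map_sum, map_sum]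
  exact Finset.sum_congr rfl fun i _ => hs i (x i)

theorem enc_dec : ∀ n < 4096, enc (dec n) = n := by decide +kernel

theorem ofN_xor : ∀ a < 4, ∀ b < 4, ofN (a ^^^ b) = ofN a + ofN b := by decide +kernel

theorem dec_xor (a b : ℕ) : dec (a ^^^ b) = dec a + dec b := funext fun i => by
  show ofN (((a ^^^ b) >>> (2 * i.1)) &&& 3) = ofN ((a >>> (2 * i.1)) &&& 3) + ofN ((b >>> (2 * i.1)) &&& 3)
  rw [Nat.shiftRight_xor_distrib, Nat.and_xor_distrib_right]
  exact ofN_xor _ (Nat.lt_succ_of_le Nat.and_le_right) _ (Nat.lt_succ_of_le Nat.and_le_right)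

theorem enc_add (x y : V6) : enc (x + y) = enc x ^^^ enc y := by
  rw [← enc_dec _ (Nat.xor_lt_two_pow (n := 12) (enc_lt x) (enc_lt y)), dec_xor, dec_enc, dec_enc]

/-- A linear combination of codes. -/
def colSum : List ℕ → ℕ → ℕ
  | [], _ => 0
  | a :: l, c => (if c % 2 = 1 then a else 0) ^^^ colSum l (c / 2)

theorem xor_mod_two (c d : ℕ) : (c ^^^ d) % 2 = (c % 2 + d % 2) % 2 := by
  rcases Nat.mod_two_eq_zero_or_one c with h | h <;> rcases Nat.mod_two_eq_zero_or_one d with h' | h' <;>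
  · have := Nat.xor_mod_two_pow (a := c) (b := d) (n := 1)
    rw [pow_one, h, h'] at this
    rw [this, h, h']
    rfl

theorem colSum_xor : ∀ (l : List ℕ) (c d : ℕ), colSum l (c ^^^ d) = colSum l c ^^^ colSum l d
  | [], c, d => by simp [colSum]
  | a :: l, c, d => by
    simp only [colSum]
    rw [show (c ^^^ d) / 2 = c / 2 ^^^ d / 2 from Nat.xor_div_two, colSum_xor l, xor_mod_two]
    rcases Nat.mod_two_eq_zero_or_one c with h | h <;> rcases Nat.mod_two_eq_zero_or_one d with h' | h' <;>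
      simp [h, h', Nat.xor_assoc, Nat.xor_comm, Nat.xor_left_comm]

/-- An element of the model on codes. -/
def gC (n c : ℕ) : ℕ := colSum (Syl.cols.getD n []) c

/-- An element of the model as a function. -/
def gFn (n : ℕ) (x : V6) : V6 := dec (gC n (enc x))

theorem gFn_add (n : ℕ) (x y : V6) : gFn n (x + y) = gFn n x + gFn n y := by
  rw [gFn, gFn, gFn, gC, enc_add, colSum_xor, dec_xor]
  rfl

/-- A basic vector as a code. -/
def bcode (t : Fin 6 × Bool) : ℕ := (if t.2 then 2 else 1) * 4 ^ t.1.1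

theorem enc_bas : ∀ t, enc (bas t) = bcode t ∧ dec (bcode t) = bas t := by decide +kernel

theorem gC_lt : ∀ n < 256, ∀ t, gC n (bcode t) < 4096 := by decide +kernel

theorem gFn_bas (n : ℕ) (t : Fin 6 × Bool) : gFn n (bas t) = dec (gC n (bcode t)) := by rw [gFn, (enc_bas t).1]

theorem gFn_gFn {n k : ℕ} (hk : k < 256) (t : Fin 6 × Bool) :
    gFn n (gFn k (bas t)) = dec (gC n (gC k (bcode t))) := by
  rw [gFn_bas, gFn, enc_dec _ (gC_lt k hk t)]

theorem comp_add {f g : V6 → V6} (hf : ∀ x y, f (x + y) = f x + f y) (hg : ∀ x y, g (x + y) = g x + g y)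
    (x y : V6) : f (g (x + y)) = f (g x) + f (g y) := by rw [hg, hf]

/-- The digits of a number. -/
def mOf (n : ℕ) : Fin 5 → Bool := fun j => (n / 8).testBit j.1

/-- The index of the lift. -/
def dIdx (n : ℕ) : Fin 22 := ⟨14 + n % 8, by omega⟩

/-- An element of the model. -/
noncomputable def eP (n : ℕ) : Equiv.Perm V6 := prodP (mOf n) * lin (el (dIdx n))

theorem lift_data : ∀ i < 8, ∀ t, enc (eM (14 + i) *ᵥ bas t) = gC i (bcode t) := by decide +kernel

theorem kgen_data : ∀ j : Fin 5, ∀ t, enc (kgenF j (bas t)) = gC (8 * 2 ^ j.1) (bcode t) := by decide +kernel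

theorem step_data : ∀ j : Fin 5, ∀ n < 256, (n / 8).testBit j.1 = true →
    (∀ l : Fin 5, l.1 < j.1 → (n / 8).testBit l.1 = false) → n - 8 * 2 ^ j.1 < 256 ∧
    ∀ t, gC (8 * 2 ^ j.1) (gC (n - 8 * 2 ^ j.1) (bcode t)) = gC n (bcode t) := by decide +kernel

theorem mOf_data : ∀ n < 256, (n < 8 → ∀ l : Fin 5, mOf n l = false) ∧
    ∀ j : Fin 5, (n / 8).testBit j.1 = true → ∀ l : Fin 5,
      mOf (n - 8 * 2 ^ j.1) l = (mOf n l && decide (l ≠ j)) ∧ dIdx (n - 8 * 2 ^ j.1) = dIdx n := by decide +kernel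

theorem low_bit : ∀ n < 256, 8 ≤ n → ∃ j : Fin 5, (n / 8).testBit j.1 = true ∧
    ∀ l : Fin 5, l.1 < j.1 → (n / 8).testBit l.1 = false := by decide +kernel

theorem eP_good (n : ℕ) : Good (eP n) := by
  have h : Good (prodP (mOf n)) := by
    have hg : ∀ i, Good (if mOf n i then kgen i else 1 : Equiv.Perm V6) := fun i => by
      split
      · exact good_kgen i
      · exact good_one
    exact (hg 0).mul ((hg 1).mul ((hg 2).mul ((hg 3).mul (hg 4))))
  exact h.mul (good_lin (el_mem _))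

theorem kgen_gFn (j : Fin 5) (x : V6) : kgen j x = gFn (8 * 2 ^ j.1) x :=
  add_ext (good_kgen j).add (gFn_add _) (fun t => by
    rw [kgen_apply, gFn_bas, ← kgen_data j t, dec_enc]) x

theorem eP_apply {n : ℕ} (hn : n < 256) (x : V6) : eP n x = gFn n x := by
  induction n using Nat.strong_induction_on generalizing x with
  | _ n ih =>
    refine add_ext (eP_good n).add (gFn_add n) (fun t => ?_) x
    by_cases h8 : n < 8
    · rw [eP, Equiv.Perm.mul_apply, el_apply, gFn_bas]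
      have hp : prodP (mOf n) = 1 := by simp [prodP, (mOf_data n hn).1 h8]
      rw [hp, Equiv.Perm.one_apply, ← lift_data n h8 t, dec_enc]
      show eM (14 + n % 8) *ᵥ _ = _
      rw [Nat.mod_eq_of_lt h8]
    · obtain ⟨j, hj, hlow⟩ := low_bit n hn (by omega)
      obtain ⟨hlt, hstep⟩ := step_data j n hn hj hlow
      have hm := (mOf_data n hn).2 j hj
      have e : eP n = kgen j * eP (n - 8 * 2 ^ j.1) := by
        rw [eP, eP, ← mul_assoc, (hm j).2]
        congr 1
        have hmj : mOf n j = true := hj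
        have hl : ∀ l : Fin 5, l.1 < j.1 → mOf n l = false := hlow
        simp only [prodP]
        fin_cases j <;> simp_all
      rw [e, Equiv.Perm.mul_apply, ih _ (by have := Nat.two_pow_pos j.1; omega) hlt, kgen_gFn, gFn_gFn hlt, hstep t,
        gFn_bas]

/-! ### The involutions -/

/-- An involution of the model. -/
def iN (k : ℕ) : ℕ := Syl.invs.getD k 0

/-- An involution of the model as a function. -/
def gI (k : ℕ) : V6 → V6 := gFn (iN k)

/-- A basic vector from its number. -/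
def bnum (t : ℕ) : Fin 6 × Bool := (Fin.ofNat 6 (t / 2), t % 2 == 1)

theorem gFn_zero_data : ∀ t, gC 0 (bcode t) = bcode t := by decide +kernel

theorem gFn_zero (t : Fin 6 × Bool) : gFn 0 (bas t) = bas t := by rw [gFn_bas, gFn_zero_data, (enc_bas t).2]

theorem inv_raw : (∀ n < 256, n = 0 ∨ n ∈ Syl.invs ∨
    gC n (gC n (bcode (bnum (Syl.notInv.getD n 0)))) ≠ bcode (bnum (Syl.notInv.getD n 0))) ∧
    Syl.invs.length = 71 ∧ ∀ k < 71, iN k < 256 := by decide +kernel

theorem colSum_lt : ∀ (l : List ℕ) (c : ℕ), (∀ a ∈ l, a < 4096) → colSum l c < 4096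
  | [], _, _ => by simp [colSum]
  | a :: l, c, h => by
    refine Nat.xor_lt_two_pow (n := 12) ?_ (colSum_lt l _ fun b hb => h b (List.mem_cons_of_mem a hb))
    split
    · exact h a List.mem_cons_self
    · norm_num

theorem cols_lt : ∀ n < 256, ∀ a ∈ Syl.cols.getD n [], a < 4096 := by decide +kernel

theorem gC_bound {n : ℕ} (hn : n < 256) (c : ℕ) : gC n c < 4096 := colSum_lt _ _ (cols_lt n hn)

theorem dec_inj {a b : ℕ} (ha : a < 4096) (hb : b < 4096) (h : dec a = dec b) : a = b := by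
  rw [← enc_dec a ha, h, enc_dec b hb]

theorem inv_data : (∀ n < 256, n = 0 ∨ n ∈ Syl.invs ∨
    gFn n (gFn n (bas (bnum (Syl.notInv.getD n 0)))) ≠ bas (bnum (Syl.notInv.getD n 0))) ∧
    Syl.invs.length = 71 ∧ ∀ k < 71, iN k < 256 := by
  refine ⟨fun n hn => ?_, inv_raw.2⟩
  rcases inv_raw.1 n hn with h | h | h
  · exact Or.inl h
  · exact Or.inr (Or.inl h)
  · refine Or.inr (Or.inr fun e => h ?_)
    rw [gFn_gFn hn, ← (enc_bas _).2] at e
    have := enc_lt (bas (bnum (Syl.notInv.getD n 0)))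
    rw [(enc_bas _).1] at this
    exact dec_inj (gC_bound hn _) this e

/-- The commutation table. -/
def comB (i j : ℕ) : Bool := (Syl.comMask.getD i 0).testBit j

/-- The product table. -/
def prI (i j : ℕ) : ℕ := (Syl.prod.getD i []).getD j 71

/-- A witness against commutation. -/
def cwit (i j : ℕ) : Fin 6 × Bool := bnum ((Syl.comWit.getD i []).getD j 0)

theorem com_raw : ∀ i < 71, ∀ j < 71, i < j →
    if comB i j = true then prI i j < 71 ∧
      (∀ t, gC (iN i) (gC (iN j) (bcode t)) = gC (iN (prI i j)) (bcode t))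
    else gC (iN i) (gC (iN j) (bcode (cwit i j))) ≠ gC (iN j) (gC (iN i) (bcode (cwit i j))) := by
  decide +kernel

theorem com_data (i : ℕ) (hi : i < 71) (j : ℕ) (hj : j < 71) (hij : i < j) :
    if comB i j = true then prI i j < 71 ∧ (∀ t, gI i (gI j (bas t)) = gI (prI i j) (bas t))
    else gI i (gI j (bas (cwit i j))) ≠ gI j (gI i (bas (cwit i j))) := by
  have h := com_raw i hi j hj hij
  by_cases hb : comB i j = true
  · rw [if_pos hb] at h ⊢
    exact ⟨h.1, fun t => by rw [gI, gI, gFn_gFn (inv_raw.2.2 j hj), h.2 t, gI, gFn_bas]⟩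
  · rw [if_neg hb] at h ⊢
    intro e
    rw [gI, gI, gFn_gFn (inv_raw.2.2 j hj), gFn_gFn (inv_raw.2.2 i hi)] at e
    exact h (dec_inj (gC_bound (inv_raw.2.2 i hi) _) (gC_bound (inv_raw.2.2 j hj) _) e)

/-! ### The large subgroup -/

/-- The matrices of its generators and normalizing elements. -/
def aM (i : ℕ) : M6 := tmat Syl.aRows i

theorem a_ok : ∀ i < 6, (∀ j ∈ (Syl.aWords.getD i ([], 0)).1, j < 4) ∧
    ofN (Syl.aWords.getD i ([], 0)).2 ≠ 0 ∧
    colsOK Data.abRows (Syl.aWords.getD i ([], 0)).1 (Syl.aTrajs.getD i [])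
      (ofN (Syl.aWords.getD i ([], 0)).2 ^ 2 • aM i) = true := by
  decide +kernel

theorem a_exists (i : Fin 6) : ∃ g ∈ K1, mat6 g = aM i := by
  obtain ⟨hw, hc, hcols⟩ := a_ok i.1 i.2
  generalize ofN (Syl.aWords.getD i.1 ([], 0)).2 = c at hc hcols
  obtain ⟨x, hx, hm⟩ := word_mem hw
  rw [cols_spec hcols] at hm
  refine ⟨scal c hc * x, mul_mem (scalars_le (scal_mem _ _)) hx, ?_⟩
  rw [mat_mul, hm, scal, mat_mkG, scalarM, smul_mul_assoc, one_mul, smul_smul, mul_comm, cube c hc, one_smul]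

/-- A generator or normalizing element. -/
noncomputable def aEl (i : Fin 6) : G6 := (a_exists i).choose

theorem aEl_mem (i : Fin 6) : aEl i ∈ K1 := (a_exists i).choose_spec.1

theorem aEl_apply (i : Fin 6) (x : V6) : lin (aEl i) x = aM i *ᵥ x := by
  rw [lin_apply, show mat6 (aEl i) = aM i from (a_exists i).choose_spec.2]

/-- An element of the large subgroup, as a function. -/
def gA (m : Fin 16) : V6 → V6 := gFn (Syl.aIds.getD m.1 0)

theorem aIds_lt : ∀ m : Fin 16, Syl.aIds.getD m.1 0 < 256 := by decide +kernel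

theorem a_raw : (∀ (g : Fin 4) t, gC (Syl.aIds.getD (2 ^ g.1) 0) (bcode t) = enc (aM g.1 *ᵥ bas t)) ∧
    (∀ t, gC (Syl.aIds.getD 0 0) (bcode t) = bcode t) ∧
    (∀ m : Fin 16, m ≠ 0 → ∃ t, gC (Syl.aIds.getD m.1 0) (bcode t) ≠ bcode t) ∧
    (∀ m n : Fin 16, ∀ t, gC (Syl.aIds.getD m.1 0) (gC (Syl.aIds.getD n.1 0) (bcode t)) =
      gC (Syl.aIds.getD (m.1 ^^^ n.1) 0) (bcode t)) := by decide +kernel

theorem bcode_lt : ∀ t, bcode t < 4096 := by decide +kernel

theorem a_table : (∀ (g : Fin 4) t, gA ⟨2 ^ g.1, Nat.pow_lt_pow_right (by norm_num) g.2⟩ (bas t) = aM g.1 *ᵥ bas t) ∧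
    (∀ t, gA 0 (bas t) = bas t) ∧ (∀ m : Fin 16, m ≠ 0 → ∃ t, gA m (bas t) ≠ bas t) ∧
    (∀ m n : Fin 16, ∀ t, gA m (gA n (bas t)) = gA (Fin.ofNat 16 (m.1 ^^^ n.1)) (bas t)) := by
  obtain ⟨h1, h2, h3, h4⟩ := a_raw
  refine ⟨fun g t => ?_, fun t => ?_, fun m hm => ?_, fun m n t => ?_⟩
  · rw [gA, gFn_bas, h1 g t, dec_enc]
  · rw [gA, gFn_bas]
    exact (congrArg dec (h2 t)).trans (enc_bas t).2
  · obtain ⟨t, ht⟩ := h3 m hm
    refine ⟨t, fun e => ht ?_⟩
    rw [gA, gFn_bas, ← (enc_bas t).2] at e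
    exact dec_inj (gC_bound (aIds_lt m) _) (bcode_lt t) e
  · rw [gA, gA, gA, gFn_gFn (aIds_lt n), gFn_bas, h4 m n t]
    congr 2
    rw [show (Fin.ofNat 16 (m.1 ^^^ n.1)).1 = m.1 ^^^ n.1 from
      Nat.mod_eq_of_lt (Nat.xor_lt_two_pow (n := 4) m.2 n.2)]

/-- An element of the large subgroup. -/
noncomputable def aP (m : Fin 16) : Equiv.Perm V6 := eP (Syl.aIds.getD m.1 0)

theorem aP_apply (m : Fin 16) (x : V6) : aP m x = gA m x := eP_apply (aIds_lt m) x

theorem aP_mul (m n : Fin 16) : aP m * aP n = aP (Fin.ofNat 16 (m.1 ^^^ n.1)) :=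
  ((eP_good _).mul (eP_good _)).ext (eP_good _) fun t => by
    show aP m (aP n _) = aP _ _
    rw [aP_apply, aP_apply, aP_apply]
    exact a_table.2.2.2 m n t

theorem aP_zero : aP 0 = 1 := (eP_good _).ext good_one fun t => by
  show aP 0 _ = _
  rw [aP_apply]
  exact a_table.2.1 t

theorem aP_sq (m : Fin 16) : aP m * aP m = 1 := by
  rw [aP_mul, Nat.xor_self, show Fin.ofNat 16 0 = 0 from rfl, aP_zero]

/-- The large subgroup. -/
noncomputable def A16 : Subgroup (Equiv.Perm V6) where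
  carrier := Set.range aP
  one_mem' := ⟨0, aP_zero⟩
  mul_mem' := by rintro _ _ ⟨m, rfl⟩ ⟨n, rfl⟩; exact ⟨_, (aP_mul m n).symm⟩
  inv_mem' := by rintro _ ⟨m, rfl⟩; exact ⟨m, (inv_eq_of_mul_eq_one_right (aP_sq m)).symm⟩

theorem xor_ne : ∀ m n : Fin 16, m ≠ n → Fin.ofNat 16 (m.1 ^^^ n.1) ≠ 0 := by decide

theorem aP_injective : Function.Injective aP := fun m n e => by
  by_contra hne
  have h : aP (Fin.ofNat 16 (m.1 ^^^ n.1)) = 1 := by rw [← aP_mul, e, aP_sq]
  have hx : Fin.ofNat 16 (m.1 ^^^ n.1) ≠ 0 := xor_ne m n hne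
  obtain ⟨t, ht⟩ := a_table.2.2.1 _ hx
  refine ht ?_
  rw [← aP_apply, h]
  rfl

theorem card_A16 : Nat.card A16 = 16 :=
  (Nat.card_range_of_injective aP_injective).trans (Nat.card_fin 16)

theorem aP_gen (g : Fin 4) : aP ⟨2 ^ g.1, Nat.pow_lt_pow_right (by norm_num) g.2⟩ = lin (aEl ⟨g.1, by omega⟩) :=
  (eP_good _).ext (good_lin (aEl_mem _)) fun t => by
    show aP _ _ = _
    rw [aP_apply, aEl_apply]
    exact a_table.1 g t

/-- A power of two or zero. -/
def genBit (g : Fin 4) (b : Bool) : Fin 16 := Fin.ofNat 16 (if b then 2 ^ g.1 else 0)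

theorem gen_comb : ∀ m : Fin 16,
    Fin.ofNat 16 ((Fin.ofNat 16 ((genBit 0 (m.1.testBit 0)).1 ^^^ (genBit 1 (m.1.testBit 1)).1)).1 ^^^
      (Fin.ofNat 16 ((genBit 2 (m.1.testBit 2)).1 ^^^ (genBit 3 (m.1.testBit 3)).1)).1) = m := by decide +kernel

theorem A16_KP : A16 ≤ KP := by
  rintro _ ⟨m, rfl⟩
  have hgen : ∀ (g : Fin 4) (b : Bool), aP (genBit g b) ∈ KP := fun g b => by
    unfold genBit; cases b
    · rw [if_neg (by simp), show Fin.ofNat 16 0 = 0 from rfl, aP_zero]; exact one_mem _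
    · rw [if_pos rfl, show Fin.ofNat 16 (2 ^ g.1) = ⟨2 ^ g.1, Nat.pow_lt_pow_right (by norm_num) g.2⟩ from
        Fin.ext (Nat.mod_eq_of_lt (Nat.pow_lt_pow_right (by norm_num : 1 < 2) g.2)), aP_gen]
      exact lin_mem_KP.2 (aEl_mem _)
  have h := mul_mem (mul_mem (hgen 0 (m.1.testBit 0)) (hgen 1 (m.1.testBit 1)))
    (mul_mem (hgen 2 (m.1.testBit 2)) (hgen 3 (m.1.testBit 3)))
  rw [aP_mul, aP_mul, aP_mul] at h
  rwa [gen_comb] at h

/-- The letters normalizing the large subgroup. -/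
def nIdx (j : ℕ) : Fin 6 := if j = 0 then 4 else 5

/-- A member in the order of the tree. -/
def aOr (k : Fin 15) : Fin 16 := Fin.ofNat 16 (Syl.aOrd.getD k.1 0)

/-- A normalizing element on codes. -/
def nC (j c : ℕ) : ℕ := colSum (Syl.nCols.getD (if j = 0 then 0 else 1) []) c

theorem n_raw : ∀ j < 2, ∀ t, nC j (bcode t) = enc (aM (nIdx j) *ᵥ bas t) := by decide +kernel

theorem a_tree_raw : (∀ m : Fin 16, m ≠ 0 → ∃ k, aOr k = m) ∧
    ∀ k : Fin 15, k.1 = 0 ∨ ((Syl.aPar.getD k.1 (0, 0)).1 < k.1 ∧ (Syl.aPar.getD k.1 (0, 0)).2 < 2 ∧ ∀ t,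
      nC (Syl.aPar.getD k.1 (0, 0)).2
          (gC (Syl.aIds.getD (aOr (Fin.ofNat 15 (Syl.aPar.getD k.1 (0, 0)).1)).1 0) (bcode t)) =
        gC (Syl.aIds.getD (aOr k).1 0) (nC (Syl.aPar.getD k.1 (0, 0)).2 (bcode t))) := by decide +kernel

theorem nC_apply {j : ℕ} (hj : j < 2) (x : V6) : aM (nIdx j) *ᵥ x = dec (nC j (enc x)) :=
  add_ext (f := fun x => aM (nIdx j) *ᵥ x) (g := fun x => dec (nC j (enc x))) (fun a b => mulVec_add _ a b)
    (fun a b => by
      show dec _ = dec _ + dec _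
      rw [nC, enc_add, colSum_xor, dec_xor]
      rfl)
    (fun t => by
      show _ = dec _
      rw [(enc_bas t).1, n_raw j hj t, dec_enc]) x

theorem a_tree_ok : (∀ m : Fin 16, m ≠ 0 → ∃ k, aOr k = m) ∧
    ∀ k : Fin 15, k.1 = 0 ∨ ((Syl.aPar.getD k.1 (0, 0)).1 < k.1 ∧ ∀ t,
      aM (nIdx (Syl.aPar.getD k.1 (0, 0)).2) *ᵥ gA (aOr (Fin.ofNat 15 (Syl.aPar.getD k.1 (0, 0)).1)) (bas t) =
        gA (aOr k) (aM (nIdx (Syl.aPar.getD k.1 (0, 0)).2) *ᵥ bas t)) := by
  refine ⟨a_tree_raw.1, fun k => ?_⟩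
  rcases a_tree_raw.2 k with h | ⟨h1, h2, h3⟩
  · exact Or.inl h
  refine Or.inr ⟨h1, fun t => ?_⟩
  have hn : nC (Syl.aPar.getD k.1 (0, 0)).2 (bcode t) < 4096 := by rw [n_raw _ h2 t]; exact enc_lt _
  rw [gA, gFn_bas, nC_apply h2, nC_apply h2, enc_dec _ (gC_lt _ (aIds_lt _) t), h3 t, (enc_bas t).1, gA, gFn,
    enc_dec _ hn]

theorem comm_ext (j : Fin 6) (m n : Fin 16)
    (e : ∀ t, aM j *ᵥ gA m (bas t) = gA n (aM j *ᵥ bas t)) : lin (aEl j) * aP m = aP n * lin (aEl j) :=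
  ((good_lin (aEl_mem j)).mul (eP_good (Syl.aIds.getD m.1 0))).ext
    ((eP_good (Syl.aIds.getD n.1 0)).mul (good_lin (aEl_mem j))) fun t => by
    show lin (aEl j) (aP m (bas t)) = aP n (lin (aEl j) (bas t))
    rw [aP_apply, aP_apply, aEl_apply, aEl_apply]
    exact e t

/-- A property preserved by the normalizing elements holds for all nontrivial members or none. -/
theorem a_constant (p : Fin 16 → Prop)
    (hp : ∀ (j : Fin 6) (m n : Fin 16), lin (aEl j) * aP m = aP n * lin (aEl j) → (p m ↔ p n)) :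
    ∀ m n : Fin 16, m ≠ 0 → n ≠ 0 → p m → p n := by
  have key : ∀ i, ∀ k : Fin 15, k.1 = i → (p (aOr k) ↔ p (aOr 0)) := by
    intro i
    induction i using Nat.strong_induction_on with
    | _ i ih =>
      intro k hk
      rcases a_tree_ok.2 k with h | ⟨hlt, e⟩
      · rw [show k = 0 from Fin.ext h]
      · refine ((hp _ _ _ (comm_ext _ _ _ e)).symm).trans
          (ih _ ?_ (Fin.ofNat 15 (Syl.aPar.getD k.1 (0, 0)).1) rfl)
        simp only [Fin.val_ofNat]
        have := k.2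
        rw [Nat.mod_eq_of_lt (by omega)]
        omega
  intro m n hm hn h
  obtain ⟨k, rfl⟩ := a_tree_ok.1 m hm
  obtain ⟨l, rfl⟩ := a_tree_ok.1 n hn
  exact (key _ l rfl).2 ((key _ k rfl).1 h)

/-! ### The fixed space of the large subgroup -/

/-- Fixed by the large subgroup. -/
def InW (x : V6) : Prop := enc x ∈ Syl.wCodes

instance (x : V6) : Decidable (InW x) := inferInstanceAs (Decidable (_ ∈ _))

theorem w_codes : (∀ n ∈ Syl.wCodes, enc (dec n) = n ∧ enc (Four.w • dec n) ∈ Syl.wCodes ∧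
      ∀ m ∈ Syl.wCodes, hf (dec n) (dec m) = 0) ∧ Syl.wCodes.Nodup ∧ Syl.wCodes.length = 64 := by
  decide +kernel

theorem w_fix_bool : ((List.range 4096).all fun n =>
    Syl.wCodes.contains n == (List.range 4).all fun g => Nat.beq (gC (Syl.aIds.getD (2 ^ g) 0) n) n) = true := by
  decide +kernel

theorem w_fix_raw (n : ℕ) (hn : n < 4096) :
    n ∈ Syl.wCodes ↔ ∀ g < 4, gC (Syl.aIds.getD (2 ^ g) 0) n = n := by
  have h := List.all_eq_true.1 w_fix_bool n (List.mem_range.2 hn)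
  rw [beq_iff_eq] at h
  rw [← List.contains_iff_mem, h]
  simp only [List.all_eq_true, List.mem_range, Nat.beq_eq]

theorem w_fix (n : ℕ) (hn : n < 4096) : n ∈ Syl.wCodes ↔ ∀ g < 4, aM g *ᵥ dec n = dec n := by
  rw [w_fix_raw n hn]
  have key : ∀ g, g < 4 → aM g *ᵥ dec n = dec (gC (Syl.aIds.getD (2 ^ g) 0) n) := fun g hg =>
    (add_ext (f := fun x => aM g *ᵥ x) (fun a b => mulVec_add _ a b) (gFn_add _)
      (fun t => (a_table.1 ⟨g, hg⟩ t).symm) (dec n)).trans (by rw [gFn, enc_dec n hn])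
  refine forall₂_congr fun g hg => ?_
  rw [key g hg]
  exact ⟨congrArg dec, dec_inj (gC_bound (aIds_lt ⟨2 ^ g, Nat.pow_lt_pow_right (by norm_num) hg⟩) _) hn⟩

/-- Places of a basis of the fixed space. -/
def wBasis : List ℕ := [1, 2, 4, 8, 16, 32].map fun i => Syl.wCodes.getD i 0

/-- The value of the form's bit on codes. -/
def pW (n m : ℕ) : Bool := decide (trF (hf (dec n) (dec m)) = 0)

theorem w_perp_bool : ((List.range 4096).all fun n =>
    (wBasis.any fun m => !pW n m) || Syl.wCodes.contains n) = true := by decide +kernel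

theorem wBasis_sub : ∀ m ∈ wBasis, m ∈ Syl.wCodes := by decide +kernel

theorem w_perp (n : ℕ) (hn : n < 4096) (h : ∀ m ∈ Syl.wCodes, trF (hf (dec n) (dec m)) = 0) :
    n ∈ Syl.wCodes := by
  have hb := List.all_eq_true.1 w_perp_bool n (List.mem_range.2 hn)
  rw [Bool.or_eq_true] at hb
  refine List.contains_iff_mem.1 (hb.resolve_left ?_)
  simp only [List.any_eq_true, not_exists, not_and, pW, Bool.not_eq_true', decide_eq_false_iff_not]
  exact fun m hm hne => hne (h m (wBasis_sub m hm))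

theorem inW_iff {x : V6} : InW x ↔ ∀ f ∈ A16, f x = x := by
  have h := w_fix (enc x) (enc_lt x)
  rw [dec_enc] at h
  constructor
  · intro hx
    rintro _ ⟨m, rfl⟩
    have hg := h.1 hx
    have hgen : ∀ (g : Fin 4) (b : Bool), aP (genBit g b) x = x := fun g b => by
      unfold genBit; cases b
      · rw [if_neg (by simp), show Fin.ofNat 16 0 = 0 from rfl, aP_zero]; rfl
      · rw [if_pos rfl, show Fin.ofNat 16 (2 ^ g.1) = ⟨2 ^ g.1, Nat.pow_lt_pow_right (by norm_num) g.2⟩ from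
          Fin.ext (Nat.mod_eq_of_lt (Nat.pow_lt_pow_right (by norm_num : 1 < 2) g.2)), aP_gen, aEl_apply]
        exact hg g.1 g.2
    have hmul : ∀ a b : Fin 16, aP a x = x → aP b x = x → aP (Fin.ofNat 16 (a.1 ^^^ b.1)) x = x :=
      fun a b ha hb => by rw [← aP_mul, Equiv.Perm.mul_apply, hb, ha]
    have h1 := hmul _ _ (hmul _ _ (hgen 0 (m.1.testBit 0)) (hgen 1 (m.1.testBit 1)))
      (hmul _ _ (hgen 2 (m.1.testBit 2)) (hgen 3 (m.1.testBit 3)))
    rwa [gen_comb] at h1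
  · intro hx
    refine h.2 fun g hg => ?_
    have := hx _ ⟨_, aP_gen ⟨g, hg⟩⟩
    rwa [aEl_apply] at this

theorem inW_hf {x y : V6} (hx : InW x) (hy : InW y) : hf x y = 0 := by
  have h := (w_codes.1 _ hx).2.2 _ hy
  rwa [dec_enc, dec_enc] at h

theorem inW_smul {x : V6} (hx : InW x) : InW (Four.w • x) := by
  have h := (w_codes.1 _ hx).2.1
  rwa [dec_enc] at h

theorem card_W : Nat.card {x : V6 // InW x} = 64 := by
  let e : {x : V6 // InW x} ≃ {n // n ∈ Syl.wCodes.toFinset} :=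
    { toFun := fun x => ⟨enc x.1, List.mem_toFinset.2 x.2⟩
      invFun := fun n => ⟨dec n.1, by
        show enc (dec n.1) ∈ Syl.wCodes
        rw [(w_codes.1 _ (List.mem_toFinset.1 n.2)).1]
        exact List.mem_toFinset.1 n.2⟩
      left_inv := fun x => Subtype.ext (dec_enc x.1)
      right_inv := fun n => Subtype.ext (w_codes.1 _ (List.mem_toFinset.1 n.2)).1 }
  rw [Nat.card_congr e, Nat.card_eq_fintype_card, Fintype.card_coe, List.toFinset_card_of_nodup w_codes.2.1,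
    w_codes.2.2]

end CfsgLib.Spor.LargeFischer
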