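import Cfsg.Agent.Lib.Spor.LargeFischer.ThompsonSheet
import Cfsg.Agent.Lib.Spor.GolayBasic

/-!
# The twenty four points

The central correction is the one with constant triangle numbers; with it the orbit of length 276 is the set of
products of two of twenty four elements whose relations are the code.
-/

set_option autoImplicit false
set_option maxRecDepth 100000

namespace CfsgLib.Spor.LargeFischer

open Subgroup Matrix CfsgLib.Spor.U43Six CfsgLib.Spor.Fi22.U6 Th

namespace Th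

/-- The code of a point. -/
def ptc (p : Cfsg.GolayPt) : ℕ := ptCode.getD (ptIdx p) 0

theorem ptc_lt : ∀ p, ptc p < 2048 := by decide +kernel

theorem pair_isT_raw : ∀ i < 24, ∀ j < 24, i ≠ j → isT epsGood (ptCode.getD i 0 ^^^ ptCode.getD j 0) = true := by
  decide +kernel

theorem isT_pair_raw : ((List.range 2048).all fun n => !isT epsGood n ||
    ((List.range 24).any fun i => (List.range 24).any fun j =>
      i != j && (ptCode.getD i 0 ^^^ ptCode.getD j 0) == n)) = true := by decide +kernel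

theorem row_cert_raw : ∀ k < 12, ∀ p : Cfsg.GolayPt, (rows.getD k 0).testBit (ptIdx p) =
    (((rowCert.getD k (0, 0)).1 == 1) ^^ (pop 11 ((rowCert.getD k (0, 0)).2 &&& ptc p) % 2 == 1)) := by
  decide +kernel

theorem span_raw : ∀ k < 11, ((List.range 24).any fun i => ptCode.getD i 0 != 0) = true ∧
    ((List.range 4096).any fun b =>
      ((List.range 12).map fun i => if b.testBit i then ptCode.getD i 0 else 0).foldr (· ^^^ ·) 0 == 2 ^ k) = true := by
  decide +kernel

theorem rel_raw : ∀ k < 12, ∀ j < 11,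
    (List.range 24).countP (fun i => (rows.getD k 0).testBit i && (ptCode.getD i 0).testBit j) % 2 = 0 := by
  decide +kernel

theorem pop_xor_raw : ∀ g : ℕ, ∀ a b : ℕ,
    (pop 11 (g &&& (a ^^^ b)) : ZMod 2) = (pop 11 (g &&& a) : ZMod 2) + (pop 11 (g &&& b) : ZMod 2) := by
  intro g a b
  have key : ∀ n, (pop n (g &&& (a ^^^ b)) : ZMod 2) = (pop n (g &&& a) : ZMod 2) + (pop n (g &&& b) : ZMod 2) := by
    intro n
    induction n with
    | zero => simp [pop]
    | succ n ih =>
      simp only [pop, List.range_succ, List.countP_append, List.countP_cons, List.countP_nil, Nat.zero_add,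
        Nat.cast_add] at ih ⊢
      rw [ih, Nat.testBit_and, Nat.testBit_and, Nat.testBit_and, Nat.testBit_xor]
      generalize g.testBit n = u
      generalize a.testBit n = v
      generalize b.testBit n = w
      cases u <;> cases v <;> cases w <;> simp <;> ring_nf
      · simp [show (2 : ZMod 2) = 0 from rfl]
  exact key 11

end Th

variable {G : Type*} [Group G] [Finite G]

/-- Twenty four elements describing the orbit of length 276 and their relations. -/
structure Chart24 (z : G) (A : Subgroup G) (el : Cfsg.GolayPt → G) : Prop where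
  uniq : IsUniqueLarge A
  cent : centralizer (A : Set G) ≤ A
  mem : ∀ p, el p ∈ A
  pair : ∀ p q, p ≠ q → el p * el q ≠ 1 ∧ ¬ IsConj z (el p * el q)
  exists_pair : ∀ a ∈ A, a ≠ 1 → ¬ IsConj z a → ∃ p q, p ≠ q ∧ a = el p * el q
  span : ∀ a ∈ A, a ∈ closure {b | ∃ p q, b = el p * el q}
  row : ∀ r ∈ rows, ∃ (c : ZMod 2) (Λ : G → ZMod 2), (∀ a ∈ A, ∀ b ∈ A, Λ (a * b) = Λ a + Λ b) ∧
    ∀ p, word r p = c + Λ (el p)
  rel : ∀ Λ : G → ZMod 2, (∀ a ∈ A, ∀ b ∈ A, Λ (a * b) = Λ a + Λ b) → ∀ r ∈ rows, ∑ p, word r p * Λ (el p) = 0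

namespace Data

variable {z : G} {Q : Subgroup G} {vec : G → V6} {φ : ↥(centralizer ({z} : Set G)) →* Equiv.Perm V6} {o : Outer}
  (D : Data z Q vec φ o) {A : Subgroup ↥(centralizer ({z} : Set G))} {X : ↥(centralizer ({z} : Set G))}
  {U : V6 → G} {B : Fin 16 → G}
  (hA : (∀ a ∈ A, φ a ∈ A16) ∧ (∀ f ∈ A16, ∃ a ∈ A, φ a = f) ∧ (∀ a ∈ A, a * a = 1) ∧
    (∀ a ∈ A, ∀ b ∈ A, a * b = b * a) ∧
    ∀ q : ↥(centralizer ({z} : Set G)), (q : G) ∈ Q → (q ∈ A ↔ (q : G) ∈ wtSet Q vec))
  (hUL : IsUniqueLarge (A.map (centralizer ({z} : Set G)).subtype))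
  {g : G} (hgQ : g * z * g⁻¹ ∈ Q) (hne : g * z * g⁻¹ ≠ z)
include D hA hUL hgQ hne

theorem tri_eq (F : Frame16 z Q vec φ A X U B) {ec : ℕ} {ε : Fin 16 → ZMod 2} (hε : IsCorr z U B ε)
    (hbit : ∀ m : Fin 16, m ≠ 0 → ε m = b2z (ec.testBit m.1)) {a b : ℕ} (ha : a < 2048) (hb : b < 2048)
    (haT : isT ec a = true) (hbT : isT ec b = true) : tri ec a = tri ec b := by
  classical
  set AG := A.map (centralizer ({z} : Set G)).subtype with hAG
  let S : G → Set (G × G) := fun a => {p | p.1 ∈ tSet z A ∧ p.1 * a ∈ tSet z A ∧ p.2 ∈ tSet z A ∧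
    p.2 * a ∈ tSet z A ∧ p.1 * p.2 ∈ tSet z A}
  have hmem : ∀ {n}, n < 2048 → (eN z U B n ∈ tSet z A ↔ isT ec n = true) := fun {n} hn =>
    ⟨fun h => (D.conj_code F hgQ hne hε hbit hn).1 h.2, fun h => ⟨D.eN_mem F n, (D.conj_code F hgQ hne hε hbit hn).2 h⟩⟩
  have hcard : ∀ a < 2048, tri ec a = (S (eN z U B a)).ncard := by
    intro a ha
    have hx : ∀ {u v : ℕ}, u < 2048 → v < 2048 → u ^^^ v < 2048 := fun hu hv => Nat.xor_lt_two_pow (n := 11) hu hv
    rw [tri, ← Set.ncard_coe_finset]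
    refine Set.ncard_congr (fun p _ => (eN z U B p.1, eN z U B p.2)) ?_ ?_ ?_
    · intro p hp
      simp only [Finset.mem_coe, Finset.mem_filter, Finset.mem_product, Finset.mem_range, Bool.and_eq_true] at hp
      obtain ⟨⟨⟨hu, hu1, hu2⟩, hv, hv1, hv2⟩, huv⟩ := hp
      exact ⟨(hmem hu).2 hu1, (D.eN_xor F p.1 a) ▸ (hmem (hx hu ha)).2 hu2, (hmem hv).2 hv1,
        (D.eN_xor F p.2 a) ▸ (hmem (hx hv ha)).2 hv2, (D.eN_xor F p.1 p.2) ▸ (hmem (hx hu hv)).2 huv⟩
    · intro p q hp hq e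
      simp only [Finset.mem_coe, Finset.mem_filter, Finset.mem_product, Finset.mem_range] at hp hq
      exact Prod.ext (D.eN_inj F hp.1.1.1 hq.1.1.1 (congrArg Prod.fst e))
        (D.eN_inj F hp.1.2.1 hq.1.2.1 (congrArg Prod.snd e))
    · rintro ⟨x, y⟩ ⟨h1, h2, h3, h4, h5⟩
      obtain ⟨u, hu, rfl⟩ := D.eN_surj F (show x ∈ AG from h1.1) hA.1
      obtain ⟨v, hv, rfl⟩ := D.eN_surj F (show y ∈ AG from h3.1) hA.1
      refine ⟨(u, v), ?_, rfl⟩
      rw [← D.eN_xor F] at h2 h4 h5
      simp only [Finset.mem_coe, Finset.mem_filter, Finset.mem_product, Finset.mem_range, Bool.and_eq_true]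
      exact ⟨⟨⟨hu, (hmem hu).1 h1, (hmem (hx hu ha)).1 h2⟩, hv, (hmem hv).1 h3, (hmem (hx hv ha)).1 h4⟩,
        (hmem (hx hu hv)).1 h5⟩
  obtain ⟨n, hn, hnab⟩ := D.t_orbit F hA hUL hgQ hne ((hmem ha).2 haT) ((hmem hb).2 hbT)
  have hT : ∀ x, n * x * n⁻¹ ∈ tSet z A ↔ x ∈ tSet z A := by
    intro x
    refine and_congr (mem_normalizer_iff.1 hn x).symm (and_congr (not_congr ?_) (not_congr (conj_iff_conj n x)))
    constructor
    · intro h
      calc x = n⁻¹ * (n * x * n⁻¹) * n := by group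
        _ = 1 := by rw [h]; group
    · rintro rfl
      group
  have himg : (fun p : G × G => (n * p.1 * n⁻¹, n * p.2 * n⁻¹)) '' S (eN z U B a) = S (eN z U B b) := by
    have hm : ∀ u v : G, (n * u * n⁻¹) * (n * v * n⁻¹) = n * (u * v) * n⁻¹ := fun u v => by group
    ext ⟨x, y⟩
    constructor
    · rintro ⟨⟨u, v⟩, ⟨h1, h2, h3, h4, h5⟩, e⟩
      obtain ⟨rfl, rfl⟩ := Prod.mk.injEq _ _ _ _ ▸ e
      refine ⟨(hT u).2 h1, ?_, (hT v).2 h3, ?_, ?_⟩
      · show n * u * n⁻¹ * eN z U B b ∈ _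
        rw [← hnab, hm]; exact (hT _).2 h2
      · show n * v * n⁻¹ * eN z U B b ∈ _
        rw [← hnab, hm]; exact (hT _).2 h4
      · show n * u * n⁻¹ * (n * v * n⁻¹) ∈ _
        rw [hm]; exact (hT _).2 h5
    · rintro ⟨h1, h2, h3, h4, h5⟩
      have hback : ∀ u : G, n * (n⁻¹ * u * n) * n⁻¹ = u := fun u => by group
      refine ⟨(n⁻¹ * x * n, n⁻¹ * y * n), ⟨(hT _).1 (by rw [hback]; exact h1), (hT _).1 ?_,
        (hT _).1 (by rw [hback]; exact h3), (hT _).1 ?_, (hT _).1 ?_⟩, by simp only [hback]⟩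
      · rw [← hm, hback, hnab]; exact h2
      · rw [← hm, hback, hnab]; exact h4
      · rw [← hm, hback, hback]; exact h5
  rw [hcard a ha, hcard b hb, ← himg, Set.ncard_image_of_injective _ fun p q e => ?_]
  obtain ⟨e1, e2⟩ := Prod.mk.injEq _ _ _ _ ▸ e
  exact Prod.ext (mul_left_cancel (mul_right_cancel e1)) (mul_left_cancel (mul_right_cancel e2))

/-- A frame with the standard correction. -/
theorem exists_good : ∃ (X : ↥(centralizer ({z} : Set G))) (U : V6 → G) (B : Fin 16 → G) (ε : Fin 16 → ZMod 2),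
    Frame16 z Q vec φ A X U B ∧ IsCorr z U B ε ∧ ∀ m : Fin 16, m ≠ 0 → ε m = b2z (epsGood.testBit m.1) := by
  classical
  obtain ⟨X, U, B0, F0⟩ := D.exists_section hA
  obtain ⟨ε0, hε0⟩ := D.exists_corr F0 hA hUL hgQ hne
  let c : Fin 4 → ZMod 2 := fun j => ε0 ⟨2 ^ j.1, Nat.pow_lt_pow_right (by norm_num) j.2⟩
  let B : Fin 16 → G := fun m => B0 m * zp z (linPart c m)
  have F : Frame16 z Q vec φ A X U B := D.frame_shift F0 c
  let ε : Fin 16 → ZMod 2 := fun m => ε0 m + linPart c m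
  have hε : IsCorr z U B ε := by
    intro m hm x hx e
    rw [IsT, D.mkA_shift F0 c]
    refine (hε0 m hm x hx _).trans (exists_congr fun v => and_congr_right fun _ => ?_)
    exact (show ∀ a b l g : ZMod 2, a + l = b + g ↔ a = b + l + g by decide) _ _ _ _
  have hgen : ∀ j : Fin 4, ε ⟨2 ^ j.1, Nat.pow_lt_pow_right (by norm_num) j.2⟩ = 0 := fun j => by
    show ε0 _ + linPart c _ = 0
    rw [linPart_gen]
    exact (show ∀ a : ZMod 2, a + a = 0 by decide) _
  let b : Fin 11 → Bool := fun k => z2b (ε (Fin.ofNat 16 (freeBits.getD k.1 0)))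
  obtain ⟨hb1, hb2, hb3⟩ := ecode_bits b
  have hbit : ∀ m : Fin 16, m ≠ 0 → ε m = b2z ((ecode b).testBit m.1) := by
    intro m hm
    rcases bit_positions m with h | ⟨j, hj⟩ | ⟨k, hk⟩
    · exact absurd h hm
    · rw [hj, hb3 j.1 j.2, show m = ⟨2 ^ j.1, Nat.pow_lt_pow_right (by norm_num) j.2⟩ from Fin.ext hj, hgen]
      rfl
    · rw [hk, hb1, b2z_z2b, ← hk]
      congr 1
      exact (Fin.ext (Nat.mod_eq_of_lt m.2)).symm
  have hinv : invOK (ecode b) = true := by
    simp only [invOK, List.all_eq_true, List.mem_range, Bool.or_eq_true, beq_iff_eq]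
    intro j hj f hf k hk
    by_contra hcon
    simp only [not_or] at hcon
    obtain ⟨⟨⟨hf0, hk0⟩, hfk⟩, hne'⟩ := hcon
    apply hne'
    have hfk' : f ^^^ k < 16 := Nat.xor_lt_two_pow (n := 4) hf hk
    set p : Fin 16 := Fin.ofNat 16 f
    set q : Fin 16 := Fin.ofNat 16 k
    have hpv : p.1 = f := Nat.mod_eq_of_lt hf
    have hqv : q.1 = k := Nat.mod_eq_of_lt hk
    set r : Fin 16 := Fin.ofNat 16 (f ^^^ k) with hr
    have hrv : r.1 = f ^^^ k := Nat.mod_eq_of_lt hfk'
    have hr' : r = Fin.ofNat 16 (p.1 ^^^ q.1) := by rw [hpv, hqv]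
    have hp0 : p ≠ 0 := fun e => hf0 (by rw [← hpv, e]; rfl)
    have hq0 : q ≠ 0 := fun e => hk0 (by rw [← hqv, e]; rfl)
    have hr0 : r ≠ 0 := fun e => hfk (by
      have : f ^^^ k = 0 := by rw [← hrv, e]; rfl
      exact (show ∀ a < 16, ∀ b < 16, a ^^^ b = 0 → a = b by decide +kernel) f hf k hk this)
    obtain ⟨hs0, hsi, hsx⟩ := sg_xor j hj
    have hs : ∀ {x : Fin 16}, x ≠ 0 → sg j x ≠ 0 := fun hx e => hx (hsi (e.trans hs0.symm))
    obtain ⟨l, hl, hlX, hn⟩ := D.exists_lift F hA (nIdx j)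
    have hc : ∀ x : Fin 16, φ l * aP x = aP (sg j x) * φ l := fun x => by rw [hl]; exact sg_comm hj x
    have key : ε (sg j p) + ε (sg j q) = ε (sg j r) + (ε p + ε q + ε r) := by
      have h1 : mkA z U B 0 (ε p) p * mkA z U B 0 (ε q) q =
          mkA z U B 0 (ε r) r * mkA z U B 0 (ε p + ε q + ε r) 0 := by
        rw [D.mkA_mul F D.inW_zero D.inW_zero, D.mkA_mul F D.inW_zero D.inW_zero, ← hr',
          show Fin.ofNat 16 (r.1 ^^^ (0 : Fin 16).1) = r from Fin.ext (by simp [Nat.mod_eq_of_lt r.2])]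
        congr 1
        exact (show ∀ a b c : ZMod 2, a + b = c + (a + b + c) by decide) _ _ _
      have hz : (l : G) * mkA z U B 0 (ε p + ε q + ε r) 0 * (l : G)⁻¹ = mkA z U B 0 (ε p + ε q + ε r) 0 := by
        rw [mul_inv_eq_iff_eq_mul, mkA, D.B_zero F, D.U_zero F, one_mul, mul_one, zp]
        split
        · simp
        · exact mem_centralizer_singleton_iff.1 l.2
      have h2 := congrArg (fun x => (l : G) * x * (l : G)⁻¹) h1
      beta_reduce at h2
      rw [show ∀ u v : G, (l : G) * (u * v) * (l : G)⁻¹ = ((l : G) * u * (l : G)⁻¹) * ((l : G) * v * (l : G)⁻¹) from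
          fun u v => by group,
        D.conj_lift F hA hlX hn hε hp0 (hs hp0) (hc p), D.conj_lift F hA hlX hn hε hq0 (hs hq0) (hc q),
        show ∀ u v : G, (l : G) * (u * v) * (l : G)⁻¹ = ((l : G) * u * (l : G)⁻¹) * ((l : G) * v * (l : G)⁻¹) from
          fun u v => by group,
        D.conj_lift F hA hlX hn hε hr0 (hs hr0) (hc r), hz, D.mkA_mul F D.inW_zero D.inW_zero,
        D.mkA_mul F D.inW_zero D.inW_zero] at h2
      exact (D.mkA_inj F (by rw [add_zero]; exact D.inW_zero) (by rw [add_zero]; exact D.inW_zero) h2).2.1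
    rw [hbit p hp0, hbit q hq0, hbit r hr0, hbit _ (hs hp0), hbit _ (hs hq0), hbit _ (hs hr0), hpv, hqv, hrv] at key
    revert key
    exact (show ∀ a b c d e h : Bool, b2z d + b2z e = b2z h + (b2z a + b2z b + b2z c) →
      (a ^^ b ^^ c) = (d ^^ e ^^ h) by decide) _ _ _ _ _ _
  rcases tri_bad _ (ecode_cases b hinv) with e | ⟨h1, h2, h3⟩
  · exact ⟨X, U, B, ε, F, hε, fun m hm => e ▸ hbit m hm⟩
  · exact absurd (D.tri_eq hA hUL hgQ hne F hε hbit (by norm_num) (by norm_num) h1 h2) h3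

omit hUL hgQ hne in
/-- The large subgroup is its own centralizer. -/
theorem self_cent {P : Sylow 2 G} (hUL : IsUniqueLarge (A.map (centralizer ({z} : Set G)).subtype))
    (hAP : A.map (centralizer ({z} : Set G)).subtype ≤ P)
    (hP : ∀ x : ↥(centralizer ({z} : Set G)), (x : G) ∈ (P : Subgroup G) → ∃ n < 256, φ x = eP n) :
    centralizer ((A.map (centralizer ({z} : Set G)).subtype : Subgroup G) : Set G) ≤
      A.map (centralizer ({z} : Set G)).subtype := by
  haveI : Fact (Nat.Prime 2) := ⟨Nat.prime_two⟩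
  set AG := A.map (centralizer ({z} : Set G)).subtype with hAG
  set C := centralizer ((AG : Subgroup G) : Set G) with hC
  have hzA : z ∈ AG := ⟨⟨z, D.core.le D.core.mem⟩, (hA.2.2.2.2 ⟨z, D.core.le D.core.mem⟩ D.core.mem).2 D.wt_z, rfl⟩
  have hCH : C ≤ centralizer ({z} : Set G) := fun c hc =>
    mem_centralizer_singleton_iff.2 (mem_centralizer_iff.1 hc z hzA).symm
  have hfix : ∀ c : ↥(centralizer ({z} : Set G)), (c : G) ∈ C → ∀ w, InW w → φ c w = w := by
    intro c hc w hw
    obtain ⟨q, hq, rfl⟩ := D.surj w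
    have hqA : q ∈ AG := ⟨⟨q, D.core.le hq⟩, (hA.2.2.2.2 ⟨q, D.core.le hq⟩ hq).2 ⟨hq, hw⟩, rfl⟩
    rw [← D.conj c q hq, show (c : G) * q * (c : G)⁻¹ = q from mul_inv_eq_iff_eq_mul.2 (mem_centralizer_iff.1 hc q hqA).symm]
  have hinv : ∀ c : ↥(centralizer ({z} : Set G)), (c : G) ∈ C → φ (c * c) = 1 := by
    intro c hc
    refine Equiv.ext fun x => ?_
    rw [map_mul, Equiv.Perm.mul_apply, Equiv.Perm.one_apply]
    have hS : InW (φ c x + x) := by
      refine w_perp _ (enc_lt _) fun m hm => ?_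
      have hm' : InW (dec m) := by rw [InW, (w_codes.1 m hm).1]; exact hm
      obtain ⟨q, hq, hqx⟩ := D.surj x
      obtain ⟨w, hw, hwm⟩ := D.surj (dec m)
      have hwA : w ∈ AG := ⟨⟨w, D.core.le hw⟩, (hA.2.2.2.2 ⟨w, D.core.le hw⟩ hw).2 ⟨hw, hwm.symm ▸ hm'⟩, rfl⟩
      have hcq : (c : G) * q * (c : G)⁻¹ ∈ Q := D.core.norm _ (mem_centralizer_singleton_iff.1 c.2) q hq
      have h1 := D.comm q hq w hw
      have h2 := D.comm _ hcq w hw
      have hwc : w * (c : G) = c * w := mem_centralizer_iff.1 hc w hwA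
      have hiff : q * w = w * q ↔ (c : G) * q * (c : G)⁻¹ * w = w * ((c : G) * q * (c : G)⁻¹) := by
        have e1 : (c : G) * q * (c : G)⁻¹ * w = (c : G) * (q * w) * (c : G)⁻¹ := by
          have : (c : G)⁻¹ * w = w * (c : G)⁻¹ := (Commute.inv_left (show Commute (c : G) w from hwc.symm)).eq
          rw [mul_assoc, this]; group
        have e2 : w * ((c : G) * q * (c : G)⁻¹) = (c : G) * (w * q) * (c : G)⁻¹ := by
          rw [← mul_assoc, ← mul_assoc, hwc]; group
        rw [e1, e2]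
        exact ⟨fun h => by rw [h], fun h => mul_left_cancel (mul_right_cancel h)⟩
      rw [hqx, hwm] at h1
      rw [D.conj c q hq, hqx, hwm] at h2
      rw [dec_enc, hf_add_left, trF_add]
      have h3 := h1.trans (hiff.trans h2.symm)
      exact (show ∀ a b : ZMod 2, (a = 0 ↔ b = 0) → b + a = 0 from fun a b h => by
        rcases z2_cases a with rfl | rfl <;> rcases z2_cases b with rfl | rfl <;>
          first | rfl | simp at h) _ _ h3
    have h := hfix c hc _ hS
    rw [(D.good c).add] at h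
    funext i
    exact (show ∀ a b c : Four, a + b = b + c → a = c by decide) _ _ _ (congrFun h i)
  have hC2 : IsPGroup 2 C := fun c => by
    refine ⟨3, Subtype.ext ?_⟩
    have hq := (D.kerφ _).1 (hinv ⟨c, hCH c.2⟩ c.2)
    have hq4 : ((c : G) * c) * ((c : G) * c) = 1 ∨ ((c : G) * c) * ((c : G) * c) = z :=
      D.core.sq_eq _ hq
    rw [Subgroup.coe_pow, Subgroup.coe_one, show (2 : ℕ) ^ 3 = 4 * 2 from rfl, pow_mul,
      show (c : G) ^ 4 = ((c : G) * c) * ((c : G) * c) by simp [pow_succ, mul_assoc], pow_two]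
    rcases hq4 with e | e <;> rw [e]
    exacts [one_mul _, D.zz]
  have hnorm : ∀ p ∈ (P : Subgroup G), ∀ c ∈ C, p * c * p⁻¹ ∈ C := by
    intro p hp c hc
    refine mem_centralizer_iff.2 fun a ha => ?_
    have hpN := hUL.normalizes P.isPGroup' hAP hp
    have h' : p⁻¹ * a * p ∈ AG := by
      have := (mem_normalizer_iff.1 (inv_mem hpN) a).1 ha
      rwa [inv_inv] at this
    have h := mem_centralizer_iff.1 hc _ h'
    calc a * (p * c * p⁻¹) = p * ((p⁻¹ * a * p) * c) * p⁻¹ := by group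
      _ = p * (c * (p⁻¹ * a * p)) * p⁻¹ := by rw [h]
      _ = _ := by group
  have hCP : C ≤ P := by
    have hle : (P : Subgroup G) ≤ normalizer (C : Set G) := fun p hp => mem_normalizer_iff.2 fun c =>
      ⟨fun hc => hnorm p hp c hc, fun hc => by
        have := hnorm p⁻¹ (inv_mem hp) _ hc
        rwa [show p⁻¹ * (p * c * p⁻¹) * p⁻¹⁻¹ = c by group] at this⟩
    have := P.is_maximal' (P.isPGroup'.to_sup_of_normal_right' hC2 hle) le_sup_left
    exact this ▸ le_sup_right
  intro c hc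
  have hcH := hCH hc
  obtain ⟨n, hn, hφ⟩ := hP ⟨c, hcH⟩ (hCP hc)
  obtain ⟨k, -, hk⟩ : ∃ m : Fin 16, True ∧ Syl.aIds.getD m.1 0 = n := by
    have h256 : ∀ n < 256, (∀ i < 6, gC n (wBasis.getD i 0) = wBasis.getD i 0) →
        ∃ m : Fin 16, True ∧ Syl.aIds.getD m.1 0 = n := by decide +kernel
    refine h256 n hn fun i hi => ?_
    have hm : wBasis.getD i 0 ∈ wBasis := by
      rw [List.getD_eq_getElem _ _ (show i < wBasis.length from hi)]; exact List.getElem_mem _
    have hm' := wBasis_sub _ hm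
    have h := hfix ⟨c, hcH⟩ hc (dec (wBasis.getD i 0)) (by rw [InW, (w_codes.1 _ hm').1]; exact hm')
    rw [hφ, eP_apply hn, gFn, (w_codes.1 _ hm').1] at h
    have hlt : wBasis.getD i 0 < 4096 := by
      have := enc_lt (dec (wBasis.getD i 0))
      rwa [(w_codes.1 _ hm').1] at this
    exact dec_inj (gC_bound hn _) hlt h
  obtain ⟨a, ha, hφa⟩ := hA.2.1 (aP k) ⟨k, rfl⟩
  have hq : ((⟨c, hcH⟩ * a : ↥(centralizer ({z} : Set G))) : G) ∈ Q := (D.kerφ _).1 (by
    rw [map_mul, hφ, hφa, show eP n = aP k from by rw [← hk]; rfl, aP_sq])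
  have haA : (a : G) ∈ AG := mem_map_of_mem _ ha
  have hqC : ((⟨c, hcH⟩ * a : ↥(centralizer ({z} : Set G))) : G) ∈ C :=
    mul_mem hc (mem_centralizer_iff.2 fun b hb => hUL.2.1 b hb _ haA)
  have hqW : InW (vec ((⟨c, hcH⟩ * a : ↥(centralizer ({z} : Set G))) : G)) := by
    refine w_perp _ (enc_lt _) fun m hm => ?_
    obtain ⟨w, hw, hwm⟩ := D.surj (dec m)
    have hwA : w ∈ AG := ⟨⟨w, D.core.le hw⟩, (hA.2.2.2.2 ⟨w, D.core.le hw⟩ hw).2
      ⟨hw, hwm.symm ▸ (by rw [InW, (w_codes.1 m hm).1]; exact hm)⟩, rfl⟩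
    rw [dec_enc, ← hwm]
    exact (D.comm _ hq w hw).2 (mem_centralizer_iff.1 hqC w hwA).symm
  have hqA : ((⟨c, hcH⟩ * a : ↥(centralizer ({z} : Set G))) : G) ∈ AG :=
    mem_map_of_mem _ ((hA.2.2.2.2 _ hq).2 ⟨hq, hqW⟩)
  have := mul_mem hqA haA
  rwa [Subgroup.coe_mul, mul_assoc, hUL.1 _ haA, mul_one] at this

theorem exists_chart {P : Sylow 2 G} (hAP : A.map (centralizer ({z} : Set G)).subtype ≤ P)
    (hP : ∀ x : ↥(centralizer ({z} : Set G)), (x : G) ∈ (P : Subgroup G) → ∃ n < 256, φ x = eP n) :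
    ∃ el, Chart24 z (A.map (centralizer ({z} : Set G)).subtype) el := by
  classical
  obtain ⟨X, U, B, ε, F, hε, hbit⟩ := D.exists_good hA hUL hgQ hne
  set AG := A.map (centralizer ({z} : Set G)).subtype with hAG
  have hcc : ∀ {n}, n < 2048 → ((eN z U B n ≠ 1 ∧ ¬ IsConj z (eN z U B n)) ↔ isT epsGood n = true) :=
    fun {n} hn => D.conj_code F hgQ hne hε hbit hn
  have hidx : ∀ p, ptc p = ptCode.getD (ptIdx p) 0 := fun p => rfl
  refine ⟨fun p => eN z U B (ptc p), hUL, D.self_cent hA hUL hAP hP, fun p => D.eN_mem F _, fun p q hpq => ?_,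
    fun a ha ha1 hat => ?_, fun a ha => ?_, fun r hr => ?_, fun Λ hΛ r hr => ?_⟩
  · have h := (hcc (Nat.xor_lt_two_pow (n := 11) (ptc_lt p) (ptc_lt q))).2
      (pair_isT_raw _ (ptIdx_lt p) _ (ptIdx_lt q) fun e => hpq (ptIdx_injective e))
    rwa [D.eN_xor F] at h
  · obtain ⟨n, hn, rfl⟩ := D.eN_surj F ha hA.1
    have h := List.all_eq_true.1 isT_pair_raw n (List.mem_range.2 hn)
    rw [(hcc hn).1 ⟨ha1, hat⟩] at h
    simp only [Bool.not_true, Bool.false_or, List.any_eq_true, List.mem_range, Bool.and_eq_true, bne_iff_ne,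
      beq_iff_eq] at h
    obtain ⟨i, hi, j, hj, hij, e⟩ := h
    refine ⟨idxPt i, idxPt j, fun h => hij (by rw [← ptIdx_idxPt i hi, h, ptIdx_idxPt j hj]), ?_⟩
    rw [← D.eN_xor F, hidx, hidx, ptIdx_idxPt i hi, ptIdx_idxPt j hj, e]
  · obtain ⟨n, hn, rfl⟩ := D.eN_surj F ha hA.1
    let S := closure {b | ∃ p q, b = eN z U B (ptc p) * eN z U B (ptc q)}
    have h23 : ptc (idxPt 23) = 0 := by decide +kernel
    have hbase : ∀ i < 24, eN z U B (ptCode.getD i 0) ∈ S := fun i hi => by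
      refine subset_closure ⟨idxPt i, idxPt 23, ?_⟩
      rw [h23, D.eN_zero F, mul_one, hidx, ptIdx_idxPt i hi]
    have hfold : ∀ l : List ℕ, (∀ u ∈ l, eN z U B u ∈ S) → eN z U B (l.foldr (· ^^^ ·) 0) ∈ S := by
      intro l
      induction l with
      | nil => intro _; rw [List.foldr_nil, D.eN_zero F]; exact one_mem _
      | cons u l ih =>
        intro h
        rw [List.foldr_cons, D.eN_xor F]
        exact mul_mem (h u List.mem_cons_self) (ih fun v hv => h v (List.mem_cons_of_mem _ hv))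
    have hpow : ∀ k < 11, eN z U B (2 ^ k) ∈ S := by
      intro k hk
      obtain ⟨b, -, hb⟩ := List.any_eq_true.1 (span_raw k hk).2
      rw [← beq_iff_eq.1 hb]
      refine hfold _ fun u hu => ?_
      obtain ⟨i, hi, rfl⟩ := List.mem_map.1 hu
      rw [List.mem_range] at hi
      split
      · exact hbase i (by omega)
      · rw [D.eN_zero F]; exact one_mem _
    have hall : ∀ k ≤ 11, ∀ n < 2 ^ k, eN z U B n ∈ S := by
      intro k
      induction k with
      | zero => intro _ n hn; rw [show n = 0 by omega, D.eN_zero F]; exact one_mem _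
      | succ k ih =>
        intro hk n hn
        by_cases h : n < 2 ^ k
        · exact ih (by omega) n h
        · have e : n = 2 ^ k ^^^ (n % 2 ^ k) := by
            apply Nat.eq_of_testBit_eq
            intro i
            rw [Nat.testBit_xor, Nat.testBit_two_pow, Nat.testBit_mod_two_pow]
            rcases Nat.lt_trichotomy i k with h1 | h1 | h1
            · simp [h1, h1.ne']
            · subst h1
              have : n.testBit i = true := Nat.testBit_of_two_pow_le_and_two_pow_add_one_gt (by omega) hn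
              simp [this]
            · have : n.testBit i = false := Nat.testBit_eq_false_of_lt
                (hn.trans_le (Nat.pow_le_pow_right (by norm_num) h1))
              simp [this, h1.ne, Nat.not_lt.2 h1.le]
          rw [e, D.eN_xor F]
          exact mul_mem (hpow k (by omega)) (ih (by omega) _ (Nat.mod_lt _ (Nat.two_pow_pos k)))
    exact hall 11 le_rfl n hn
  · obtain ⟨k, hk, rfl⟩ := List.getElem_of_mem hr
    have hk12 : k < 12 := hk
    let code : G → ℕ := fun a => if h : ∃ n < 2048, eN z U B n = a then h.choose else 0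
    have hcode : ∀ n < 2048, code (eN z U B n) = n := fun n hn => by
      have h : ∃ m < 2048, eN z U B m = eN z U B n := ⟨n, hn, rfl⟩
      simp only [code, dif_pos h]
      exact D.eN_inj F h.choose_spec.1 hn h.choose_spec.2
    refine ⟨if (rowCert.getD k (0, 0)).1 = 1 then 1 else 0,
      fun a => (pop 11 ((rowCert.getD k (0, 0)).2 &&& code a) : ZMod 2), fun a ha b hb => ?_, fun p => ?_⟩
    · obtain ⟨u, hu, rfl⟩ := D.eN_surj F ha hA.1
      obtain ⟨v, hv, rfl⟩ := D.eN_surj F hb hA.1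
      rw [← D.eN_xor F]
      simp only [hcode u hu, hcode v hv, hcode _ (Nat.xor_lt_two_pow (n := 11) hu hv), pop_xor_raw]
    · have h := row_cert_raw k hk12 p
      rw [List.getD_eq_getElem _ _ hk] at h
      show (if _ then (1 : ZMod 2) else 0) = _
      beta_reduce
      rw [h, hcode _ (ptc_lt p)]
      have hb : ∀ n : ℕ, (n : ZMod 2) = b2z (n % 2 == 1) := by
        intro n
        rw [← ZMod.natCast_mod n 2]
        rcases Nat.mod_two_eq_zero_or_one n with e | e <;> simp [e, b2z]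
      have hc : ∀ c : ℕ, (if c = 1 then (1 : ZMod 2) else 0) = b2z (c == 1) := fun c => by
        by_cases e : c = 1 <;> simp [e, b2z]
      rw [hb, hc]
      exact b2z_xor _ _
  · obtain ⟨k, hk, rfl⟩ := List.getElem_of_mem hr
    have hbits : ∀ j ≤ 11, ∀ n, Λ (eN z U B (n % 2 ^ j)) =
        ∑ i ∈ Finset.range j, b2z (n.testBit i) * Λ (eN z U B (2 ^ i)) := by
      have h0 : Λ 1 = 0 := by
        have := hΛ 1 (one_mem _) 1 (one_mem _)
        rw [one_mul] at this
        exact (show ∀ a : ZMod 2, a = a + a → a = 0 by decide) _ this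
      intro j
      induction j with
      | zero => intro _ n; rw [pow_zero, Nat.mod_one, D.eN_zero F, h0, Finset.sum_range_zero]
      | succ j ih =>
        intro hj n
        rw [Finset.sum_range_succ, ← ih (by omega)]
        have e : n % 2 ^ (j + 1) = (n % 2 ^ j) ^^^ (if n.testBit j then 2 ^ j else 0) := by
          apply Nat.eq_of_testBit_eq
          intro i
          rw [Nat.testBit_xor, Nat.testBit_mod_two_pow, Nat.testBit_mod_two_pow,
            show (if n.testBit j = true then (2 : ℕ) ^ j else 0).testBit i = (n.testBit j && decide (j = i)) from by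
              split <;> simp_all [Nat.testBit_two_pow]]
          rcases Nat.lt_trichotomy i j with h1 | h1 | h1
          · simp [h1, h1.ne', Nat.lt_succ_of_lt h1]
          · subst h1; simp
          · simp [h1.ne, Nat.not_lt.2 h1.le, Nat.not_lt.2 (Nat.succ_le_of_lt h1)]
        rw [e, D.eN_xor F, hΛ _ (D.eN_mem F _) _ (D.eN_mem F _)]
        cases n.testBit j <;> simp [b2z, D.eN_zero F, h0]
    have hpt : ∀ p, Λ (eN z U B (ptc p)) =
        ∑ i ∈ Finset.range 11, b2z ((ptc p).testBit i) * Λ (eN z U B (2 ^ i)) := fun p => by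
      rw [← hbits 11 le_rfl, Nat.mod_eq_of_lt (show ptc p < 2 ^ 11 from ptc_lt p)]
    simp only [hpt, Finset.mul_sum, ← mul_assoc]
    rw [Finset.sum_comm]
    refine Finset.sum_eq_zero fun i hi => ?_
    rw [← Finset.sum_mul]
    have hsum : ∑ p, word rows[k] p * b2z ((ptc p).testBit i) = 0 := by
      have h := rel_raw k hk i (Finset.mem_range.1 hi)
      rw [List.getD_eq_getElem _ _ hk] at h
      have e : ∑ p, word rows[k] p * b2z ((ptc p).testBit i) =
          (((List.range 24).countP fun l => rows[k].testBit l && (ptCode.getD l 0).testBit i : ℕ) : ZMod 2) := by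
        rw [List.countP_eq_length_filter, ← List.toFinset_card_of_nodup (List.nodup_range.filter _), List.toFinset_filter,
          List.toFinset_range, Finset.card_filter, Nat.cast_sum]
        refine Finset.sum_bij (fun p _ => ptIdx p) (fun p _ => Finset.mem_range.2 (ptIdx_lt p))
          (fun p _ q _ h => ptIdx_injective h)
          (fun l hl => ⟨idxPt l, Finset.mem_univ _, ptIdx_idxPt l (Finset.mem_range.1 hl)⟩) fun p _ => ?_
        simp only [word, hidx]
        cases rows[k].testBit (ptIdx p) <;> cases (ptCode.getD (ptIdx p) 0).testBit i <;> simp [b2z]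
      rw [e, ZMod.natCast_eq_zero_iff_even, Nat.even_iff]
      exact h
    rw [hsum, zero_mul]

end Data

end CfsgLib.Spor.LargeFischer
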