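import Mathlib

/-!
# Tables for the normalizer of the large elementary abelian subgroup
-/

set_option autoImplicit false

namespace CfsgLib.Spor.LargeFischer.Th

/-- The indices of the small orbit in the fixed space. -/
def amask : ℕ := 0x824124814821111e

/-- The images of the translations. -/
def imgMask : List ℕ := [0, 0xf0000f0f000000f, 0x1248218448128421, 0xf0f0000f00000f, 0xf000f000f000f, 0x4281428142814281, 0x8888444422221111, 0x2841284128412841, 0x8142241818244281, 0x1111111111111111, 0x8214148241282841, 0xf0000f0000f0000f, 0x2222888844441111, 0xffff, 0x4444222288881111, 0x8421842184218421]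

/-- The central parts of the translations. -/
def imgBit : List ℕ := [0, 0x20000804000000e, 0x240208048000000, 0x4020000800000e, 0x100010001000e, 0x201008140010000, 0x8000040000201110, 0x41200108010000, 0x8040240008200000, 0x1000100011110, 0x8200048040200000, 0x800004000020000e, 0x200008040001110, 0x111e, 0x40200008001110, 0x8001040100210000]

/-- The translations with a vector giving each. -/
def imgWit : List (List (ℕ × ℕ)) := [[], [(0, 0), (1, 33), (2, 50), (3, 19), (28, 2), (29, 35), (30, 48), (31, 17), (36, 3), (37, 34), (38, 49), (39, 16), (56, 1), (57, 32), (58, 51), (59, 18)], [(0, 0), (5, 17), (10, 34), (15, 51), (17, 16), (20, 1), (27, 50), (30, 35), (34, 32), (39, 49), (40, 2), (45, 19), (51, 48), (54, 33), (57, 18), (60, 3)], [(0, 0), (1, 49), (2, 18), (3, 35), (24, 3), (25, 50), (26, 17), (27, 32), (44, 1), (45, 48), (46, 19), (47, 34), (52, 2), (53, 51), (54, 16), (55, 33)], [(0, 0), (1, 1), (2, 2), (3, 3), (16, 256),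 (17, 257), (18, 258), (19, 259), (32, 512), (33, 513), (34, 514), (35, 515), (48, 768), (49, 769), (50, 770), (51, 771)], [(0, 0), (7, 512), (9, 768), (14, 256), (16, 258), (23, 770), (25, 514), (30, 2), (32, 515), (39, 3), (41, 259), (46, 771), (48, 769), (55, 257), (57, 1), (62, 513)], [(0, 0), (4, 17), (8, 34), (12, 51), (17, 16), (21, 1), (25, 50), (29, 35), (34, 32), (38, 49), (42, 2), (46, 19), (51, 48), (55, 33), (59, 18), (63, 3)], [(0, 0), (6, 768), (11, 256), (13, 512), (16, 259), (22, 515), (27, 3), (29, 771), (32, 513), (38, 257), (43, 769), (45, 1), (48, 770), (54, 2), (59, 514), (61, 258)], [(0, 0), (7, 19), (9, 33), (14, 50), (18, 48), (21, 35), (27, 17), (28, 2), (35, 16), (36, 3), (42, 49), (45, 34), (49, 32), (54, 51), (56, 1), (63, 18)], [(0, 0), (4, 16), (8, 32), (12, 48), (16, 256), (20, 272), (24, 288), (28, 304), (32, 512), (36, 528), (40, 544), (44, 560), (48, 768), (52, 784), (56, 800), (60, 816)], [(0, 0),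 (6, 18), (11, 35), (13, 49), (19, 32), (21, 50), (24, 3), (30, 17), (33, 48), (39, 34), (42, 19), (44, 1), (50, 16), (52, 2), (57, 51), (63, 33)], [(0, 0), (1, 17), (2, 34), (3, 51), (20, 1), (21, 16), (22, 35), (23, 50), (40, 2), (41, 19), (42, 32), (43, 49), (60, 3), (61, 18), (62, 33), (63, 48)], [(0, 0), (4, 19), (8, 33), (12, 50), (18, 48), (22, 35), (26, 17), (30, 2), (35, 16), (39, 3), (43, 49), (47, 34), (49, 32), (53, 51), (57, 1), (61, 18)], [(0, 0), (1, 1), (2, 2), (3, 3), (4, 16), (5, 17), (6, 18), (7, 19), (8, 32), (9, 33), (10, 34), (11, 35), (12, 48), (13, 49), (14, 50), (15, 51)], [(0, 0), (4, 18), (8, 35), (12, 49), (19, 32), (23, 50), (27, 3), (31, 17), (33, 48), (37, 34), (41, 19), (45, 1), (50, 16), (54, 2), (58, 51), (62, 33)], [(0, 0), (5, 256), (10, 512), (15, 768), (16, 257), (21, 1), (26, 769), (31, 513), (32, 514), (37, 770), (42, 2), (47, 258), (48, 771), (53, 515), (58, 259), (63, 3)]]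

/-- Representatives modulo the translations. -/
def reps : List (List ℕ) := [[], [0, 4, 8, 12], [0, 1, 2, 3], [0, 4, 8, 12], [0, 4, 8, 12], [0, 1, 2, 3], [0, 1, 2, 3], [0, 1, 2, 3], [0, 1, 2, 3], [0, 1, 2, 3], [0, 1, 2, 3], [0, 4, 8, 12], [0, 1, 2, 3], [0, 16, 32, 48], [0, 1, 2, 3], [0, 1, 2, 3]]

/-- The representative of each index with a vector moving it there. -/
def repIdx : List (List (ℕ × ℕ)) := [[], [(0, 0), (0, 33), (0, 50), (0, 19), (1, 0), (1, 33), (1, 50), (1, 19), (2, 0), (2, 33), (2, 50), (2, 19), (3, 0), (3, 33), (3, 50), (3, 19), (3, 2), (3, 35), (3, 48), (3, 17), (2, 2), (2, 35), (2, 48), (2, 17), (1, 2), (1, 35), (1, 48), (1, 17), (0, 2), (0, 35), (0, 48), (0, 17), (1, 3), (1, 34), (1, 49), (1, 16), (0, 3), (0, 34), (0, 49), (0, 16), (3, 3), (3, 34), (3, 49), (3, 16), (2, 3), (2, 34), (2, 49), (2, 16), (2, 1), (2, 32), (2, 51), (2, 18), (3, 1), (3, 32), (3, 51), (3, 18), (0, 1), (0, 32), (0, 51), (0, 18), (1, 1),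 (1, 32), (1, 51), (1, 18)], [(0, 0), (1, 0), (2, 0), (3, 0), (1, 17), (0, 17), (3, 17), (2, 17), (2, 34), (3, 34), (0, 34), (1, 34), (3, 51), (2, 51), (1, 51), (0, 51), (1, 16), (0, 16), (3, 16), (2, 16), (0, 1), (1, 1), (2, 1), (3, 1), (3, 50), (2, 50), (1, 50), (0, 50), (2, 35), (3, 35), (0, 35), (1, 35), (2, 32), (3, 32), (0, 32), (1, 32), (3, 49), (2, 49), (1, 49), (0, 49), (0, 2), (1, 2), (2, 2), (3, 2), (1, 19), (0, 19), (3, 19), (2, 19), (3, 48), (2, 48), (1, 48), (0, 48), (2, 33), (3, 33), (0, 33), (1, 33), (1, 18), (0, 18), (3, 18), (2, 18), (0, 3), (1, 3), (2, 3), (3, 3)], [(0, 0), (0, 49), (0, 18), (0, 35), (1, 0), (1, 49), (1, 18), (1, 35), (2, 0), (2, 49), (2, 18), (2, 35), (3, 0), (3, 49), (3, 18), (3, 35), (2, 3), (2, 50), (2, 17), (2, 32), (3, 3), (3, 50), (3, 17), (3, 32), (0, 3), (0, 50), (0, 17), (0, 32), (1, 3), (1, 50), (1, 17), (1, 32), (3, 1), (3, 48), (3, 19), (3, 34), (2, 1), (2, 48), (2, 19), (2, 34), (1,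 1), (1, 48), (1, 19), (1, 34), (0, 1), (0, 48), (0, 19), (0, 34), (1, 2), (1, 51), (1, 16), (1, 33), (0, 2), (0, 51), (0, 16), (0, 33), (3, 2), (3, 51), (3, 16), (3, 33), (2, 2), (2, 51), (2, 16), (2, 33)], [(0, 0), (0, 1), (0, 2), (0, 3), (1, 0), (1, 1), (1, 2), (1, 3), (2, 0), (2, 1), (2, 2), (2, 3), (3, 0), (3, 1), (3, 2), (3, 3), (0, 256), (0, 257), (0, 258), (0, 259), (1, 256), (1, 257), (1, 258), (1, 259), (2, 256), (2, 257), (2, 258), (2, 259), (3, 256), (3, 257), (3, 258), (3, 259), (0, 512), (0, 513), (0, 514), (0, 515), (1, 512), (1, 513), (1, 514), (1, 515), (2, 512), (2, 513), (2, 514), (2, 515), (3, 512), (3, 513), (3, 514), (3, 515), (0, 768), (0, 769), (0, 770), (0, 771), (1, 768), (1, 769), (1, 770), (1, 771), (2, 768), (2, 769), (2, 770), (2, 771), (3, 768), (3, 769), (3, 770), (3, 771)], [(0, 0), (1, 0), (2, 0), (3, 0), (3, 512), (2, 512), (1, 512), (0, 512), (1, 768), (0, 768), (3, 768), (2, 768), (2, 256), (3,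 256), (0, 256), (1, 256), (0, 258), (1, 258), (2, 258), (3, 258), (3, 770), (2, 770), (1, 770), (0, 770), (1, 514), (0, 514), (3, 514), (2, 514), (2, 2), (3, 2), (0, 2), (1, 2), (0, 515), (1, 515), (2, 515), (3, 515), (3, 3), (2, 3), (1, 3), (0, 3), (1, 259), (0, 259), (3, 259), (2, 259), (2, 771), (3, 771), (0, 771), (1, 771), (0, 769), (1, 769), (2, 769), (3, 769), (3, 257), (2, 257), (1, 257), (0, 257), (1, 1), (0, 1), (3, 1), (2, 1), (2, 513), (3, 513), (0, 513), (1, 513)], [(0, 0), (1, 0), (2, 0), (3, 0), (0, 17), (1, 17), (2, 17), (3, 17), (0, 34), (1, 34), (2, 34), (3, 34), (0, 51), (1, 51), (2, 51), (3, 51), (1, 16), (0, 16), (3, 16), (2, 16), (1, 1), (0, 1), (3, 1), (2, 1), (1, 50), (0, 50), (3, 50), (2, 50), (1, 35), (0, 35), (3, 35), (2, 35), (2, 32), (3, 32), (0, 32), (1, 32), (2, 49), (3, 49), (0, 49), (1, 49), (2, 2), (3, 2), (0, 2), (1, 2), (2, 19), (3, 19), (0, 19), (1, 19), (3, 48), (2, 48), (1, 48), (0, 48), (3,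 33), (2, 33), (1, 33), (0, 33), (3, 18), (2, 18), (1, 18), (0, 18), (3, 3), (2, 3), (1, 3), (0, 3)], [(0, 0), (1, 0), (2, 0), (3, 0), (2, 768), (3, 768), (0, 768), (1, 768), (3, 256), (2, 256), (1, 256), (0, 256), (1, 512), (0, 512), (3, 512), (2, 512), (0, 259), (1, 259), (2, 259), (3, 259), (2, 515), (3, 515), (0, 515), (1, 515), (3, 3), (2, 3), (1, 3), (0, 3), (1, 771), (0, 771), (3, 771), (2, 771), (0, 513), (1, 513), (2, 513), (3, 513), (2, 257), (3, 257), (0, 257), (1, 257), (3, 769), (2, 769), (1, 769), (0, 769), (1, 1), (0, 1), (3, 1), (2, 1), (0, 770), (1, 770), (2, 770), (3, 770), (2, 2), (3, 2), (0, 2), (1, 2), (3, 514), (2, 514), (1, 514), (0, 514), (1, 258), (0, 258), (3, 258), (2, 258)], [(0, 0), (1, 0), (2, 0), (3, 0), (3, 19), (2, 19), (1, 19), (0, 19), (1, 33), (0, 33), (3, 33), (2, 33), (2, 50), (3, 50), (0, 50), (1, 50), (2, 48), (3, 48), (0, 48), (1, 48), (1, 35), (0, 35), (3, 35), (2, 35), (3, 17), (2, 17), (1,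 17), (0, 17), (0, 2), (1, 2), (2, 2), (3, 2), (3, 16), (2, 16), (1, 16), (0, 16), (0, 3), (1, 3), (2, 3), (3, 3), (2, 49), (3, 49), (0, 49), (1, 49), (1, 34), (0, 34), (3, 34), (2, 34), (1, 32), (0, 32), (3, 32), (2, 32), (2, 51), (3, 51), (0, 51), (1, 51), (0, 1), (1, 1), (2, 1), (3, 1), (3, 18), (2, 18), (1, 18), (0, 18)], [(0, 0), (1, 0), (2, 0), (3, 0), (0, 16), (1, 16), (2, 16), (3, 16), (0, 32), (1, 32), (2, 32), (3, 32), (0, 48), (1, 48), (2, 48), (3, 48), (0, 256), (1, 256), (2, 256), (3, 256), (0, 272), (1, 272), (2, 272), (3, 272), (0, 288), (1, 288), (2, 288), (3, 288), (0, 304), (1, 304), (2, 304), (3, 304), (0, 512), (1, 512), (2, 512), (3, 512), (0, 528), (1, 528), (2, 528), (3, 528), (0, 544), (1, 544), (2, 544), (3, 544), (0, 560), (1, 560), (2, 560), (3, 560), (0, 768), (1, 768), (2, 768), (3, 768), (0, 784), (1, 784), (2, 784), (3, 784), (0, 800), (1, 800), (2, 800), (3, 800), (0, 816), (1, 816), (2, 816), (3, 816)],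 [(0, 0), (1, 0), (2, 0), (3, 0), (2, 18), (3, 18), (0, 18), (1, 18), (3, 35), (2, 35), (1, 35), (0, 35), (1, 49), (0, 49), (3, 49), (2, 49), (3, 32), (2, 32), (1, 32), (0, 32), (1, 50), (0, 50), (3, 50), (2, 50), (0, 3), (1, 3), (2, 3), (3, 3), (2, 17), (3, 17), (0, 17), (1, 17), (1, 48), (0, 48), (3, 48), (2, 48), (3, 34), (2, 34), (1, 34), (0, 34), (2, 19), (3, 19), (0, 19), (1, 19), (0, 1), (1, 1), (2, 1), (3, 1), (2, 16), (3, 16), (0, 16), (1, 16), (0, 2), (1, 2), (2, 2), (3, 2), (1, 51), (0, 51), (3, 51), (2, 51), (3, 33), (2, 33), (1, 33), (0, 33)], [(0, 0), (0, 17), (0, 34), (0, 51), (1, 0), (1, 17), (1, 34), (1, 51), (2, 0), (2, 17), (2, 34), (2, 51), (3, 0), (3, 17), (3, 34), (3, 51), (1, 1), (1, 16), (1, 35), (1, 50), (0, 1), (0, 16), (0, 35), (0, 50), (3, 1), (3, 16), (3, 35), (3, 50), (2, 1), (2, 16), (2, 35), (2, 50), (2, 2), (2, 19), (2, 32), (2, 49), (3, 2), (3, 19), (3, 32), (3, 49), (0, 2), (0, 19), (0, 32), (0,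 49), (1, 2), (1, 19), (1, 32), (1, 49), (3, 3), (3, 18), (3, 33), (3, 48), (2, 3), (2, 18), (2, 33), (2, 48), (1, 3), (1, 18), (1, 33), (1, 48), (0, 3), (0, 18), (0, 33), (0, 48)], [(0, 0), (1, 0), (2, 0), (3, 0), (0, 19), (1, 19), (2, 19), (3, 19), (0, 33), (1, 33), (2, 33), (3, 33), (0, 50), (1, 50), (2, 50), (3, 50), (2, 48), (3, 48), (0, 48), (1, 48), (2, 35), (3, 35), (0, 35), (1, 35), (2, 17), (3, 17), (0, 17), (1, 17), (2, 2), (3, 2), (0, 2), (1, 2), (3, 16), (2, 16), (1, 16), (0, 16), (3, 3), (2, 3), (1, 3), (0, 3), (3, 49), (2, 49), (1, 49), (0, 49), (3, 34), (2, 34), (1, 34), (0, 34), (1, 32), (0, 32), (3, 32), (2, 32), (1, 51), (0, 51), (3, 51), (2, 51), (1, 1), (0, 1), (3, 1), (2, 1), (1, 18), (0, 18), (3, 18), (2, 18)], [(0, 0), (0, 1), (0, 2), (0, 3), (0, 16), (0, 17), (0, 18), (0, 19), (0, 32), (0, 33), (0, 34), (0, 35), (0, 48), (0, 49), (0, 50), (0, 51), (1, 0), (1, 1), (1, 2), (1, 3), (1, 16), (1, 17), (1, 18),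 (1, 19), (1, 32), (1, 33), (1, 34), (1, 35), (1, 48), (1, 49), (1, 50), (1, 51), (2, 0), (2, 1), (2, 2), (2, 3), (2, 16), (2, 17), (2, 18), (2, 19), (2, 32), (2, 33), (2, 34), (2, 35), (2, 48), (2, 49), (2, 50), (2, 51), (3, 0), (3, 1), (3, 2), (3, 3), (3, 16), (3, 17), (3, 18), (3, 19), (3, 32), (3, 33), (3, 34), (3, 35), (3, 48), (3, 49), (3, 50), (3, 51)], [(0, 0), (1, 0), (2, 0), (3, 0), (0, 18), (1, 18), (2, 18), (3, 18), (0, 35), (1, 35), (2, 35), (3, 35), (0, 49), (1, 49), (2, 49), (3, 49), (3, 32), (2, 32), (1, 32), (0, 32), (3, 50), (2, 50), (1, 50), (0, 50), (3, 3), (2, 3), (1, 3), (0, 3), (3, 17), (2, 17), (1, 17), (0, 17), (1, 48), (0, 48), (3, 48), (2, 48), (1, 34), (0, 34), (3, 34), (2, 34), (1, 19), (0, 19), (3, 19), (2, 19), (1, 1), (0, 1), (3, 1), (2, 1), (2, 16), (3, 16), (0, 16), (1, 16), (2, 2), (3, 2), (0, 2), (1, 2), (2, 51), (3, 51), (0, 51), (1, 51), (2, 33), (3, 33), (0, 33), (1, 33)], [(0, 0), (1, 0), (2,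 0), (3, 0), (1, 256), (0, 256), (3, 256), (2, 256), (2, 512), (3, 512), (0, 512), (1, 512), (3, 768), (2, 768), (1, 768), (0, 768), (0, 257), (1, 257), (2, 257), (3, 257), (1, 1), (0, 1), (3, 1), (2, 1), (2, 769), (3, 769), (0, 769), (1, 769), (3, 513), (2, 513), (1, 513), (0, 513), (0, 514), (1, 514), (2, 514), (3, 514), (1, 770), (0, 770), (3, 770), (2, 770), (2, 2), (3, 2), (0, 2), (1, 2), (3, 258), (2, 258), (1, 258), (0, 258), (0, 771), (1, 771), (2, 771), (3, 771), (1, 515), (0, 515), (3, 515), (2, 515), (2, 259), (3, 259), (0, 259), (1, 259), (3, 3), (2, 3), (1, 3), (0, 3)]]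

/-- The permutations of the large subgroup by the normalizing elements. -/
def sig : List (List ℕ) := [[0, 15, 10, 5, 9, 6, 3, 12, 2, 13, 8, 7, 11, 4, 1, 14], [0, 5, 10, 15, 7, 2, 13, 8, 6, 3, 12, 9, 1, 4, 11, 14]]

/-- The central correction of the lifts. -/
def epsGood : ℕ := 29248

/-- The corrections invariant under the normalizing elements. -/
def survivors : List ℕ := [0, 11808, 23648, 29248, 38504, 47176, 51720, 58408]

/-- The twenty four points in coordinates. -/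
def ptCode : List ℕ := [1, 2, 67, 157, 408, 164, 1739, 1743, 1475, 579, 547, 1430, 1449, 437, 195, 563, 430, 186, 1468, 1667, 531, 1735, 451, 0]

/-- The rows of the code as affine functionals of the points. -/
def rowCert : List (ℕ × ℕ) := [(1, 1154), (0, 1266), (1, 1939), (0, 1288), (1, 99), (1, 491), (1, 1279), (0, 412), (0, 1048), (0, 1704), (1, 459), (1, 1403)]

end CfsgLib.Spor.LargeFischer.Th
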