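import Cfsg.Agent.Lib.Spor.LargeFischer.SylModel
import Cfsg.Agent.Lib.Spor.LargeFischer.ThompsonData

/-!
# Coordinates on the large elementary abelian subgroup

A number below 2048 stands for a vector of the fixed space (six bits), a central bit and a member of the large
subgroup of the quotient (four bits).
-/

set_option autoImplicit false
set_option maxRecDepth 100000

namespace CfsgLib.Spor.LargeFischer.Th

open CfsgLib.Spor.U43Six CfsgLib.Spor.Fi22.U6

/-- The fixed space by indices. -/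
def wx (i : ℕ) : V6 := dec (Syl.wCodes.getD (i % 64) 0)

theorem w_index : (∀ i < 64, ∀ j < 64, Syl.wCodes.getD (i ^^^ j) 0 = Syl.wCodes.getD i 0 ^^^ Syl.wCodes.getD j 0) ∧
    (∀ n ∈ Syl.wCodes, n ∈ (List.range 64).map fun i => Syl.wCodes.getD i 0) ∧
    (∀ i < 64, Syl.wCodes.getD i 0 ∈ Syl.wCodes ∧ Syl.wCodes.getD i 0 < 4096) ∧
    ((List.range 64).map fun i => Syl.wCodes.getD i 0).Nodup := by decide +kernel

theorem wx_mod (i : ℕ) : wx (i % 64) = wx i := by rw [wx, wx, Nat.mod_mod]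

theorem wx_xor (i j : ℕ) : wx (i ^^^ j) = wx i + wx j := by
  rw [wx, wx, wx, ← dec_xor, ← w_index.1 _ (Nat.mod_lt _ (by norm_num)) _ (Nat.mod_lt _ (by norm_num)),
    show (64 : ℕ) = 2 ^ 6 from rfl, Nat.xor_mod_two_pow]

theorem inW_wx (i : ℕ) : InW (wx i) := by
  obtain ⟨h1, h2⟩ := w_index.2.2.1 _ (Nat.mod_lt i (show 0 < 64 by norm_num))
  rw [InW, wx, enc_dec _ h2]
  exact h1

theorem exists_wx {x : V6} (hx : InW x) : ∃ i < 64, wx i = x := by
  obtain ⟨i, hi, e⟩ := List.mem_map.1 (w_index.2.1 _ hx)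
  exact ⟨i, List.mem_range.1 hi, by rw [wx, Nat.mod_eq_of_lt (List.mem_range.1 hi), e, dec_enc]⟩

theorem wx_inj {i j : ℕ} (hi : i < 64) (hj : j < 64) (h : wx i = wx j) : i = j := by
  rw [wx, wx, Nat.mod_eq_of_lt hi, Nat.mod_eq_of_lt hj] at h
  exact List.inj_on_of_nodup_map w_index.2.2.2 (List.mem_range.2 hi) (List.mem_range.2 hj)
    (dec_inj (w_index.2.2.1 _ hi).2 (w_index.2.2.1 _ hj).2 h)

theorem wx_zero : wx 0 = 0 := by decide +kernel

/-- The small orbit inside the fixed space, by indices. -/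
def inAI (i : ℕ) : Bool := amask.testBit (i % 64)

theorem inA_wx_raw : ∀ i < 64, inAI i = true ↔ InA (wx i) := by decide +kernel

theorem inA_wx (i : ℕ) : inAI i = true ↔ InA (wx i) := by
  rw [inAI, ← wx_mod i, ← inA_wx_raw _ (Nat.mod_lt i (by norm_num)), inAI, Nat.mod_mod]

theorem inA_count : ((Finset.range 64).filter fun i => inAI i = false ∧ i ≠ 0).card = 45 ∧ inAI 0 = false ∧
    ((Finset.range 64).filter fun i => inAI i = true).card = 18 := by decide +kernel

/-- The linear map `f + 1` of a member. -/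
noncomputable def dv (m : Fin 16) (v : V6) : V6 := aP m v + v

/-- The central bit of the translation. -/
noncomputable def gOf (m : Fin 16) (v : V6) : ZMod 2 := trF (Four.w * hf v (dv m v))

/-- The image of the translations, by indices. -/
def inImg (m i : ℕ) : Bool := (imgMask.getD m 0).testBit i

/-- The central bit on the image, by indices. -/
def gBit (m i : ℕ) : Bool := (imgBit.getD m 0).testBit i

/-- A bit as a residue. -/
def b2z (b : Bool) : ZMod 2 := if b then 1 else 0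

theorem img_list : ∀ m < 16, m ≠ 0 →
    (∀ i < 64, inImg m i = true ↔ i ∈ (imgWit.getD m []).map Prod.fst) ∧
    ((imgWit.getD m []).map Prod.fst).Nodup ∧ (imgWit.getD m []).length = 16 := by decide +kernel

theorem img_raw : ∀ m < 16, m ≠ 0 → ∀ p ∈ imgWit.getD m [], p.1 < 64 ∧ p.2 < 4096 ∧
    gC (Syl.aIds.getD m 0) p.2 ^^^ p.2 = Syl.wCodes.getD p.1 0 ∧
    trF (Four.w * hf (dec p.2) (dec (Syl.wCodes.getD p.1 0))) = b2z (gBit m p.1) := by decide +kernel

/-- The number of the representative of an index. -/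
def repNum (m i : ℕ) : ℕ := ((repIdx.getD m []).getD i (4, 0)).1

/-- The representative. -/
def repOf (m r : ℕ) : ℕ := (reps.getD m []).getD r 0

theorem rep_raw : ∀ m < 16, m ≠ 0 → ∀ i < 64, repNum m i < 4 ∧ repOf m (repNum m i) < 64 ∧
    ((repIdx.getD m []).getD i (4, 0)).2 < 4096 ∧
    gC (Syl.aIds.getD m 0) ((repIdx.getD m []).getD i (4, 0)).2 ^^^ ((repIdx.getD m []).getD i (4, 0)).2 ^^^
      Syl.wCodes.getD (repOf m (repNum m i)) 0 = Syl.wCodes.getD i 0 := by decide +kernel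

theorem rep_fiber : ∀ m < 16, m ≠ 0 → ∀ r < 4, ((Finset.range 64).filter fun i => repNum m i = r).card = 16 := by
  decide +kernel

theorem dv_dec (m : Fin 16) {c : ℕ} (hc : c < 4096) : dv m (dec c) = dec (gC (Syl.aIds.getD m.1 0) c ^^^ c) := by
  rw [dv, aP_apply, gA, gFn, enc_dec _ hc, dec_xor]

theorem dv_img {m : Fin 16} (hm : m ≠ 0) {p : ℕ × ℕ} (hp : p ∈ imgWit.getD m.1 []) :
    dv m (dec p.2) = wx p.1 ∧ gOf m (dec p.2) = b2z (gBit m.1 p.1) := by
  obtain ⟨h1, h2, h3, h4⟩ := img_raw m.1 m.2 (fun e => hm (Fin.ext e)) p hp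
  have e : dv m (dec p.2) = wx p.1 := by rw [dv_dec m h2, h3, wx, Nat.mod_eq_of_lt h1]
  refine ⟨e, ?_⟩
  rw [gOf, e, wx, Nat.mod_eq_of_lt h1, h4]

theorem rep_move {m : Fin 16} (hm : m ≠ 0) {i : ℕ} (hi : i < 64) :
    ∃ v, dv m v + wx (repOf m.1 (repNum m.1 i)) = wx i := by
  obtain ⟨-, hlt, h2, h3⟩ := rep_raw m.1 m.2 (fun e => hm (Fin.ext e)) i hi
  refine ⟨dec ((repIdx.getD m.1 []).getD i (4, 0)).2, ?_⟩
  rw [dv_dec m h2, wx, wx, ← dec_xor, Nat.mod_eq_of_lt hi, Nat.mod_eq_of_lt hlt, h3]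

/-! ### The normalizing elements -/

/-- The permutation of the members by a normalizing element. -/
def sg (j : ℕ) (m : Fin 16) : Fin 16 := Fin.ofNat 16 ((sig.getD j []).getD m.1 0)

theorem sig_raw : ∀ j < 2, ∀ m : Fin 16, ∀ t,
    nC j (gC (Syl.aIds.getD m.1 0) (bcode t)) = gC (Syl.aIds.getD (sg j m).1 0) (nC j (bcode t)) := by
  decide +kernel

theorem sg_xor : ∀ j < 2, sg j 0 = 0 ∧ Function.Injective (sg j) ∧
    ∀ f g : Fin 16, sg j (Fin.ofNat 16 (f.1 ^^^ g.1)) = Fin.ofNat 16 ((sg j f).1 ^^^ (sg j g).1) := by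
  decide +kernel

theorem sg_comm {j : ℕ} (hj : j < 2) (m : Fin 16) :
    lin (aEl (nIdx j)) * aP m = aP (sg j m) * lin (aEl (nIdx j)) :=
  comm_ext _ _ _ fun t => by
    have hn : nC j (bcode t) < 4096 := by rw [n_raw _ hj t]; exact enc_lt _
    rw [gA, gFn_bas, nC_apply hj, nC_apply hj, enc_dec _ (gC_lt _ (aIds_lt _) t), sig_raw j hj m t,
      (enc_bas t).1, gA, gFn, enc_dec _ hn]

end CfsgLib.Spor.LargeFischer.Th
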