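import Cfsg.Agent.Lib.Spor.LargeFischer.SylMax
import Cfsg.Agent.Lib.Spor.LargeFischer.ThompsonModel

/-!
# The large elementary abelian subgroup in coordinates
-/

set_option autoImplicit false
set_option maxRecDepth 100000

namespace CfsgLib.Spor.LargeFischer

open Subgroup Matrix CfsgLib.Spor.U43Six CfsgLib.Spor.Fi22.U6

variable {G : Type*} [Group G] [Finite G]

/-- The power of `z` by a bit. -/
def zp (z : G) (e : ZMod 2) : G := if e = 0 then 1 else z

/-- The element with three given coordinates. -/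
def mkA (z : G) (U : V6 → G) (B : Fin 16 → G) (x : V6) (e : ZMod 2) (m : Fin 16) : G := U x * zp z e * B m

/-- The chosen frame of the large subgroup: the scalar `X`, the section `U` and the lifts `B`. -/
structure Frame16 (z : G) (Q : Subgroup G) (vec : G → V6) (φ : ↥(centralizer ({z} : Set G)) →* Equiv.Perm V6)
    (A : Subgroup ↥(centralizer ({z} : Set G))) (X : ↥(centralizer ({z} : Set G))) (U : V6 → G) (B : Fin 16 → G) :
    Prop where
  comm : ∀ a ∈ A.map (centralizer ({z} : Set G)).subtype, ∀ b ∈ A.map (centralizer ({z} : Set G)).subtype,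
    a * b = b * a
  sq : ∀ a ∈ A.map (centralizer ({z} : Set G)).subtype, a * a = 1
  wt : ∀ q, q ∈ Q → (q ∈ A.map (centralizer ({z} : Set G)).subtype ↔ q ∈ wtSet Q vec)
  cube : X * X * X = 1
  scal : ∀ x, φ X x = Four.w • x
  fixed : ∀ q ∈ Q, q * (X : G) = X * q → q = 1 ∨ q = z
  normX : ∀ a ∈ A.map (centralizer ({z} : Set G)).subtype,
    (X : G) * a * (X : G)⁻¹ ∈ A.map (centralizer ({z} : Set G)).subtype
  normQ : ∀ q ∈ Q, ∀ a ∈ A.map (centralizer ({z} : Set G)).subtype,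
    q * a * q⁻¹ ∈ A.map (centralizer ({z} : Set G)).subtype
  U_wt : ∀ x, InW x → U x ∈ wtSet Q vec ∧ vec (U x) = x
  U_add : ∀ x y, InW x → InW y → U (x + y) = U x * U y
  U_X : ∀ x, InW x → (X : G) * U x * (X : G)⁻¹ = U (Four.w • x)
  B_lift : ∀ m, ∃ c : ↥(centralizer ({z} : Set G)), c ∈ A ∧ (c : G) = B m ∧ φ c = aP m
  B_X : ∀ m, B m * (X : G) = X * B m
  B_mul : ∀ m n : Fin 16, B (Fin.ofNat 16 (m.1 ^^^ n.1)) = B m * B n

namespace Data

variable {z : G} {Q : Subgroup G} {vec : G → V6} {φ : ↥(centralizer ({z} : Set G)) →* Equiv.Perm V6} {o : Outer}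
  (D : Data z Q vec φ o)
include D

theorem normalize_large {A : Subgroup ↥(centralizer ({z} : Set G))}
    (hA : (∀ a ∈ A, φ a ∈ A16) ∧ (∀ f ∈ A16, ∃ a ∈ A, φ a = f) ∧ (∀ a ∈ A, a * a = 1) ∧
      (∀ a ∈ A, ∀ b ∈ A, a * b = b * a) ∧
      ∀ q : ↥(centralizer ({z} : Set G)), (q : G) ∈ Q → (q ∈ A ↔ (q : G) ∈ wtSet Q vec))
    (h : ↥(centralizer ({z} : Set G))) (hh : ∀ m, ∃ n, φ h * aP m = aP n * φ h) :
    ∀ a ∈ A, h * a * h⁻¹ ∈ A := by
  have e : A.map (MulAut.conj h).toMonoidHom = A := by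
    refine D.unique_large hA _ ?_ ?_ ?_ ?_
    · rintro _ ⟨a, ha, rfl⟩
      obtain ⟨m, hm⟩ := hA.1 a ha
      obtain ⟨n, hn⟩ := hh m
      refine ⟨Syl.aIds.getD n.1 0, aIds_lt n, ?_⟩
      show φ (h * a * h⁻¹) = aP n
      rw [map_mul, map_mul, map_inv, ← hm, hn, mul_inv_cancel_right]
    · rintro _ ⟨a, ha, rfl⟩ _ ⟨b, hb, rfl⟩
      rw [← map_mul, ← map_mul, hA.2.2.2.1 a ha b hb]
    · rintro _ ⟨a, ha, rfl⟩
      rw [← map_mul, hA.2.2.1 a ha, map_one]
    · rw [← Nat.card_congr (A.equivMapOfInjective _ (MulAut.conj h).injective).toEquiv, (D.card_large hA).1]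
  exact fun a ha => e ▸ mem_map_of_mem _ ha

theorem kp_scalar {X : ↥(centralizer ({z} : Set G))} (hX : ∀ x, φ X x = Four.w • x) {f : Equiv.Perm V6}
    (hf : f ∈ KP) : f * φ X = φ X * f := by
  obtain ⟨g, -, rfl⟩ := hf
  exact Equiv.ext fun x => by
    rw [Equiv.Perm.mul_apply, Equiv.Perm.mul_apply, hX, hX, lin_apply, lin_apply, mulVec_smul]

theorem aP_scalar {X : ↥(centralizer ({z} : Set G))} (hX : ∀ x, φ X x = Four.w • x) (m : Fin 16) :
    aP m * φ X = φ X * aP m := D.kp_scalar hX (A16_KP ⟨m, rfl⟩)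

theorem zp_add (a b : ZMod 2) : zp z (a + b) = zp z a * zp z b := by
  rcases (show ∀ c : ZMod 2, c = 0 ∨ c = 1 by decide) a with rfl | rfl <;>
    rcases (show ∀ c : ZMod 2, c = 0 ∨ c = 1 by decide) b with rfl | rfl <;>
    simp [zp, D.zz, show (1 : ZMod 2) + 1 = 0 from rfl]

theorem zp_Q (a : ZMod 2) : zp z a ∈ Q ∧ vec (zp z a) = 0 := by
  rw [zp]
  split
  exacts [⟨one_mem _, D.vec_one⟩, ⟨D.core.mem, D.vec_z⟩]

/-- The large subgroup with a scalar and a section. -/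
theorem exists_section {A : Subgroup ↥(centralizer ({z} : Set G))}
    (hA : (∀ a ∈ A, φ a ∈ A16) ∧ (∀ f ∈ A16, ∃ a ∈ A, φ a = f) ∧ (∀ a ∈ A, a * a = 1) ∧
      (∀ a ∈ A, ∀ b ∈ A, a * b = b * a) ∧
      ∀ q : ↥(centralizer ({z} : Set G)), (q : G) ∈ Q → (q ∈ A ↔ (q : G) ∈ wtSet Q vec)) :
    ∃ (X : ↥(centralizer ({z} : Set G))) (U : V6 → G) (B : Fin 16 → G), Frame16 z Q vec φ A X U B := by
  classical
  obtain ⟨X, hX3, hXw, hXc⟩ := D.exists_X
  have hXz : (X : G) * z = z * X := mem_centralizer_singleton_iff.1 X.2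
  choose sec hsec hvec using D.surj
  let U : V6 → G := fun x => sec (Four.w • x) * ((X : G) * sec (Four.w • x) * (X : G)⁻¹)
  have hcX : ∀ q ∈ Q, (X : G) * q * (X : G)⁻¹ ∈ Q ∧ vec ((X : G) * q * (X : G)⁻¹) = Four.w • vec q :=
    fun q hq => ⟨D.core.norm _ hXz q hq, by rw [D.conj X q hq, hXw]⟩
  have Ueq : ∀ x, ∀ u ∈ Q, vec u = Four.w • x → u * ((X : G) * u * (X : G)⁻¹) = U x := by
    intro x u hu hv
    rcases D.same_class (hsec (Four.w • x)) hu ((hvec _).trans hv.symm) with e | e <;> rw [e]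
    calc sec (Four.w • x) * z * ((X : G) * (sec (Four.w • x) * z) * (X : G)⁻¹)
        = sec (Four.w • x) * z * ((X : G) * sec (Four.w • x) * (z * (X : G)⁻¹)) := by group
      _ = sec (Four.w • x) * z * ((X : G) * sec (Four.w • x) * (X : G)⁻¹ * z) := by
          rw [← (Commute.inv_left (show Commute (X : G) z from hXz)).eq]; group
      _ = sec (Four.w • x) * (z * ((X : G) * sec (Four.w • x) * (X : G)⁻¹)) * z := by group
      _ = sec (Four.w • x) * ((X : G) * sec (Four.w • x) * (X : G)⁻¹ * z) * z := by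
          rw [D.half.cz _ (hcX _ (hsec _)).1]
      _ = U x * (z * z) := by simp only [U, mul_assoc]
      _ = _ := by rw [D.zz, mul_one]
  have hU : ∀ x, InW x → U x ∈ wtSet Q vec ∧ vec (U x) = x := by
    intro x hx
    have hu : sec (Four.w • x) ∈ wtSet Q vec := ⟨hsec _, (hvec _).symm ▸ inW_smul hx⟩
    obtain ⟨h1, h2⟩ := hcX _ (hsec (Four.w • x))
    refine ⟨D.wt_mul hu ⟨h1, ?_⟩, ?_⟩
    · rw [h2, hvec]; exact inW_smul (inW_smul hx)
    · rw [D.add _ (hsec _) _ h1, h2, hvec, smul_smul, ← add_smul]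
      exact (congrArg (· • x) (show Four.w + Four.w * Four.w = 1 from rfl)).trans (one_smul _ _)
  have hUadd : ∀ x y, InW x → InW y → U (x + y) = U x * U y := by
    intro x y hx hy
    have hu : sec (Four.w • x) ∈ wtSet Q vec := ⟨hsec _, (hvec _).symm ▸ inW_smul hx⟩
    have hv : sec (Four.w • y) ∈ wtSet Q vec := ⟨hsec _, (hvec _).symm ▸ inW_smul hy⟩
    have hu' : (X : G) * sec (Four.w • x) * (X : G)⁻¹ ∈ wtSet Q vec :=
      ⟨(hcX _ hu.1).1, by rw [(hcX _ hu.1).2, hvec]; exact inW_smul (inW_smul hx)⟩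
    rw [← Ueq (x + y) _ (Subgroup.mul_mem Q (hsec _) (hsec _))
      (by rw [D.add _ (hsec (Four.w • x)) _ (hsec (Four.w • y)), hvec, hvec, smul_add])]
    simp only [U]
    calc _ = sec (Four.w • x) * (sec (Four.w • y) * ((X : G) * sec (Four.w • x) * (X : G)⁻¹)) *
          ((X : G) * sec (Four.w • y) * (X : G)⁻¹) := by group
      _ = _ := by rw [D.wt_comm hv hu']; group
  have hUX : ∀ x, InW x → (X : G) * U x * (X : G)⁻¹ = U (Four.w • x) := by
    intro x _
    rw [← Ueq (Four.w • x) _ (hcX _ (hsec (Four.w • x))).1 (by rw [(hcX _ (hsec _)).2, hvec])]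
    simp only [U]
    group
  let AG := A.map (centralizer ({z} : Set G)).subtype
  have hsq : ∀ a ∈ AG, a * a = 1 := by
    rintro _ ⟨a, ha, rfl⟩
    exact congrArg Subtype.val (hA.2.2.1 a ha)
  have hcm : ∀ a ∈ AG, ∀ b ∈ AG, a * b = b * a := by
    rintro _ ⟨a, ha, rfl⟩ _ ⟨b, hb, rfl⟩
    exact congrArg Subtype.val (hA.2.2.2.1 a ha b hb)
  have hwt : ∀ q, q ∈ Q → (q ∈ AG ↔ q ∈ wtSet Q vec) := fun q hq => by
    refine ⟨fun ⟨a, ha, e⟩ => ?_, fun h => ⟨⟨q, D.core.le hq⟩, (hA.2.2.2.2 _ hq).2 h, rfl⟩⟩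
    rw [show q = (a : G) from e.symm]
    exact (hA.2.2.2.2 a (by rw [show (a : G) = q from e]; exact hq)).1 ha
  have hnX := D.normalize_large hA X fun m => ⟨m, (D.aP_scalar hXw m).symm⟩
  have hex : ∀ f : Fin 16, ∃ b : ↥(centralizer ({z} : Set G)), b ∈ A ∧ φ b = aP f ∧ (b : G) * X = X * b := by
    intro f
    obtain ⟨a, ha, hfa⟩ := hA.2.1 (aP f) ⟨f, rfl⟩
    have hw : a * (X * a * X⁻¹) ∈ A := mul_mem ha (hnX a ha)
    have hwQ : ((a * (X * a * X⁻¹) : ↥(centralizer ({z} : Set G))) : G) ∈ Q := (D.kerφ _).1 (by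
      rw [map_mul, map_mul, map_mul, map_inv, hfa, ← D.aP_scalar hXw, mul_inv_cancel_right, aP_sq])
    obtain ⟨hwW, hvW⟩ := (hA.2.2.2.2 _ hwQ).1 hw
    set w := ((a * (X * a * X⁻¹) : ↥(centralizer ({z} : Set G))) : G) with hwdef
    set y := Four.w • vec w with hy
    have hyW : InW y := inW_smul hvW
    obtain ⟨hUy, hUv⟩ := hU y hyW
    let u : ↥(centralizer ({z} : Set G)) := ⟨U y, D.core.le hUy.1⟩
    have hu : u ∈ A := (hA.2.2.2.2 u hUy.1).2 hUy
    refine ⟨a * u, mul_mem ha hu, by rw [map_mul, hfa, (D.kerφ u).2 hUy.1, mul_one], ?_⟩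
    have haA : (a : G) ∈ AG := mem_map_of_mem _ ha
    have hr : w * (U (Four.w • y) * U y) ∈ Q ∧ vec (w * (U (Four.w • y) * U y)) = 0 := by
      obtain ⟨h1, h2⟩ := hU _ (inW_smul hyW)
      refine ⟨Subgroup.mul_mem Q hwW (Subgroup.mul_mem Q h1.1 hUy.1), ?_⟩
      rw [D.add _ hwW _ (Subgroup.mul_mem Q h1.1 hUy.1), D.add _ h1.1 _ hUy.1, h2, hUv, hy]
      funext i
      exact (show ∀ c : Four, c + (Four.w * (Four.w * c) + Four.w * c) = 0 by decide) _
    have hXau : (X : G) * ((a : G) * U y) * (X : G)⁻¹ = (a : G) * U y * (w * (U (Four.w • y) * U y)) := by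
      have hwA : w ∈ AG := (hwt w hwW).2 ⟨hwW, hvW⟩
      have hXa : (X : G) * a * (X : G)⁻¹ = (a : G) * w := by
        rw [hwdef, Subgroup.coe_mul, ← mul_assoc, hsq _ haA, one_mul]
        rfl
      have h1 : U y ∈ AG := (hwt _ hUy.1).2 hUy
      have h2 : U (Four.w • y) ∈ AG := (hwt _ (hU _ (inW_smul hyW)).1.1).2 (hU _ (inW_smul hyW)).1
      calc (X : G) * ((a : G) * U y) * (X : G)⁻¹
          = ((X : G) * a * (X : G)⁻¹) * ((X : G) * U y * (X : G)⁻¹) := by group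
        _ = (a : G) * (w * U (Four.w • y)) * (U y * U y) := by rw [hXa, hUX y hyW, hsq _ h1]; group
        _ = (a : G) * (w * U (Four.w • y) * U y) * U y := by group
        _ = (a : G) * (U y * (w * U (Four.w • y) * U y)) := by
            rw [mul_assoc, hcm _ (mul_mem (mul_mem hwA h2) h1) _ h1]
        _ = _ := by group
    set r := w * (U (Four.w • y) * U y)
    show (a : G) * U y * X = X * ((a : G) * U y)
    rcases (D.ker r hr.1).1 hr.2 with e | e
    · rw [e, mul_one, mul_inv_eq_iff_eq_mul] at hXau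
      exact hXau.symm
    · rw [e] at hXau
      exfalso
      set d := (a : G) * U y
      have hzd : z * (X : G)⁻¹ = (X : G)⁻¹ * z := ((Commute.inv_left (show Commute (X : G) z from hXz)).eq).symm
      have h2 : (X : G) * ((X : G) * d * (X : G)⁻¹) * (X : G)⁻¹ = d := by
        rw [hXau]
        calc (X : G) * (d * z) * (X : G)⁻¹ = (X : G) * d * (z * (X : G)⁻¹) := by group
          _ = ((X : G) * d * (X : G)⁻¹) * z := by rw [hzd]; group
          _ = _ := by rw [hXau, mul_assoc, D.zz, mul_one]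
      have h3 : (X : G) * ((X : G) * ((X : G) * d * (X : G)⁻¹) * (X : G)⁻¹) * (X : G)⁻¹ = d := by
        have h := congrArg Subtype.val hX3
        rw [Subgroup.coe_mul, Subgroup.coe_mul, Subgroup.coe_one] at h
        calc _ = ((X : G) * X * X) * d * ((X : G) * X * X)⁻¹ := by group
          _ = d := by rw [h]; group
      rw [h2, hXau] at h3
      exact D.z_ne (mul_left_cancel (h3.trans (mul_one d).symm))
  choose b hb hbφ hbX using hex
  let L : Fin 4 → Bool → ↥A := fun g t => ⟨if t then b (genBit g true) else 1, by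
    split
    exacts [hb _, one_mem _]⟩
  let B : Fin 16 → ↥A := fun m => L 0 (m.1.testBit 0) * L 1 (m.1.testBit 1) *
    (L 2 (m.1.testBit 2) * L 3 (m.1.testBit 3))
  have hcomm : ∀ x y : ↥A, Commute x y := fun x y => Subtype.ext (hA.2.2.2.1 _ x.2 _ y.2)
  have hswap : ∀ a b c d : ↥A, a * b * (c * d) = a * c * (b * d) := fun a b c d => (hcomm b c).mul_mul_mul_comm a d
  have hL : ∀ g s t, L g (s ^^ t) = L g s * L g t := by
    intro g s t
    cases s <;> cases t <;> apply Subtype.ext <;> simp [L, hA.2.2.1 _ (hb _)]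
  have hmul : ∀ m n : Fin 16, B (Fin.ofNat 16 (m.1 ^^^ n.1)) = B m * B n := by
    intro m n
    have hlt : (m.1 ^^^ n.1) < 2 ^ 4 := Nat.xor_lt_two_pow m.2 n.2
    simp only [B, Fin.val_ofNat, Nat.mod_eq_of_lt (show m.1 ^^^ n.1 < 16 from hlt), Nat.testBit_xor, hL]
    rw [hswap (L 0 (m.1.testBit 0)) (L 0 (n.1.testBit 0)), hswap (L 2 (m.1.testBit 2)) (L 2 (n.1.testBit 2)), hswap]
  have hLφ : ∀ g t, φ (L g t : ↥(centralizer ({z} : Set G))) = aP (genBit g t) := by
    intro g t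
    cases t
    · simp [L, genBit, aP_zero]
    · simp [L, hbφ]
  refine ⟨X, U, fun m => ((B m : ↥(centralizer ({z} : Set G))) : G), ⟨hcm, hsq, hwt, hX3, hXw, hXc, ?_, ?_, hU, hUadd,
    hUX, fun m => ⟨B m, (B m).2, rfl, ?_⟩, fun m => ?_, fun m n => ?_⟩⟩
  · rintro _ ⟨a, ha, rfl⟩
    exact ⟨_, hnX a ha, rfl⟩
  · rintro q hq _ ⟨a, ha, rfl⟩
    refine ⟨_, D.normalize_large hA ⟨q, D.core.le hq⟩ (fun m => ⟨m, ?_⟩) a ha, rfl⟩
    rw [(D.kerφ _).2 (show ((⟨q, D.core.le hq⟩ : ↥(centralizer ({z} : Set G))) : G) ∈ Q from hq), one_mul, mul_one]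
  · simp only [B, Subgroup.coe_mul, map_mul, hLφ, aP_mul, gen_comb]
  · have h : ∀ g t, Commute ((L g t : ↥(centralizer ({z} : Set G))) : G) X := fun g t => by
      cases t
      · simp [L]
      · simp only [L, if_true]; exact hbX _
    simp only [B, Subgroup.coe_mul]
    exact (((h 0 _).mul_left (h 1 _)).mul_left ((h 2 _).mul_left (h 3 _))).eq
  · show ((B _ : ↥(centralizer ({z} : Set G))) : G) = _
    rw [hmul]
    rfl

end Data

end CfsgLib.Spor.LargeFischer
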