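import Cfsg.Agent.Lib.Spor.LargeFischer.SylMax
import Cfsg.Agent.Lib.Spor.LargeFischer.StabLines
import Cfsg.Agent.Lib.Spor.LargeExtraBasic
import Cfsg.Prelude.Def_Transfer

/-!
# The Thompson subgroup in the whole group: uniqueness and control of fusion
-/

set_option autoImplicit false
set_option maxRecDepth 100000

namespace CfsgLib.Spor.LargeFischer

open Subgroup CfsgLib.Spor.U43Six CfsgLib.Spor.Fi22.U6

/-- The only elementary abelian subgroup of its order in a 2-group containing it. -/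
def IsUniqueLarge {G : Type*} [Group G] (A : Subgroup G) : Prop :=
  (∀ a ∈ A, a * a = 1) ∧ (∀ a ∈ A, ∀ b ∈ A, a * b = b * a) ∧ Nat.card A = 2 ^ 11 ∧
    ∀ P : Subgroup G, IsPGroup 2 P → A ≤ P → ∀ B : Subgroup G, B ≤ P → (∀ a ∈ B, a * a = 1) →
      (∀ a ∈ B, ∀ b ∈ B, a * b = b * a) → 2 ^ 11 ≤ Nat.card B → B = A

theorem IsUniqueLarge.normalizes {G : Type*} [Group G] {A : Subgroup G} (h : IsUniqueLarge A) {P : Subgroup G}
    (hP : IsPGroup 2 P) (hA : A ≤ P) : P ≤ normalizer (A : Set G) := by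
  intro g hg
  have e : A.map (MulAut.conj g).toMonoidHom = A := by
    refine h.2.2.2 P hP hA _ ?_ ?_ ?_ ?_
    · rintro _ ⟨a, ha, rfl⟩
      exact mul_mem (mul_mem hg (hA ha)) (inv_mem hg)
    · rintro _ ⟨a, ha, rfl⟩
      rw [← map_mul, h.1 a ha, map_one]
    · rintro _ ⟨a, ha, rfl⟩ _ ⟨b, hb, rfl⟩
      rw [← map_mul, ← map_mul, h.2.1 a ha b hb]
    · rw [← Nat.card_congr (A.equivMapOfInjective _ (MulAut.conj g).injective).toEquiv, h.2.2.1]
  refine mem_normalizer_iff.2 fun a => ⟨fun ha => e ▸ mem_map_of_mem _ ha, fun ha => ?_⟩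
  rw [← e] at ha
  obtain ⟨b, hb, hb'⟩ := ha
  have hb'' : g * b * g⁻¹ = g * a * g⁻¹ := hb'
  rwa [mul_left_cancel (mul_right_cancel hb'')] at hb

/-- The normalizer controls fusion. -/
theorem IsUniqueLarge.fusion {G : Type*} [Group G] [Finite G] {A : Subgroup G} (h : IsUniqueLarge A) {a g : G}
    (ha : a ∈ A) (hg : g * a * g⁻¹ ∈ A) : ∃ m ∈ normalizer (A : Set G), m * a * m⁻¹ = g * a * g⁻¹ := by
  haveI : Fact (Nat.Prime 2) := ⟨Nat.prime_two⟩
  let C : Subgroup G := centralizer ({g * a * g⁻¹} : Set G)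
  let A' : Subgroup G := A.map (MulAut.conj g).toMonoidHom
  have hAC : A ≤ C := fun b hb => mem_centralizer_singleton_iff.2 (h.2.1 b hb _ hg)
  have hA'C : A' ≤ C := by
    rintro _ ⟨b, hb, rfl⟩
    refine mem_centralizer_singleton_iff.2 ?_
    show g * b * g⁻¹ * (g * a * g⁻¹) = g * a * g⁻¹ * (g * b * g⁻¹)
    rw [show g * b * g⁻¹ * (g * a * g⁻¹) = g * (b * a) * g⁻¹ by group, h.2.1 b hb a ha]
    group
  have h2 : IsPGroup 2 A := IsPGroup.of_card h.2.2.1
  obtain ⟨P, hP⟩ := (h2.comap_of_injective C.subtype C.subtype_injective).exists_le_sylow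
  obtain ⟨P', hP'⟩ := ((IsPGroup.map h2 (MulAut.conj g).toMonoidHom).comap_of_injective C.subtype
    C.subtype_injective).exists_le_sylow
  obtain ⟨c, hc⟩ := MulAction.exists_smul_eq C P' P
  have hPA : A ≤ (P : Subgroup C).map C.subtype := fun b hb => ⟨⟨b, hAC hb⟩, hP (mem_subgroupOf.2 hb), rfl⟩
  have hmov : ∀ b ∈ A', (c : G) * b * (c : G)⁻¹ ∈ (P : Subgroup C).map C.subtype := by
    intro b hb
    refine ⟨c * ⟨b, hA'C hb⟩ * c⁻¹, ?_, rfl⟩
    rw [← hc, Sylow.smul_def]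
    exact ⟨⟨b, hA'C hb⟩, hP' (mem_subgroupOf.2 hb), rfl⟩
  have e : A.map (MulAut.conj ((c : G) * g)).toMonoidHom = A := by
    refine h.2.2.2 _ (IsPGroup.map P.isPGroup' _) hPA _ ?_ ?_ ?_ ?_
    · rintro _ ⟨b, hb, rfl⟩
      show (c : G) * g * b * ((c : G) * g)⁻¹ ∈ _
      rw [show (c : G) * g * b * ((c : G) * g)⁻¹ = (c : G) * (g * b * g⁻¹) * (c : G)⁻¹ by group]
      exact hmov _ ⟨b, hb, rfl⟩
    · rintro _ ⟨b, hb, rfl⟩
      rw [← map_mul, h.1 b hb, map_one]
    · rintro _ ⟨b, hb, rfl⟩ _ ⟨d, hd, rfl⟩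
      rw [← map_mul, ← map_mul, h.2.1 b hb d hd]
    · rw [← Nat.card_congr (A.equivMapOfInjective _ (MulAut.conj _).injective).toEquiv, h.2.2.1]
  refine ⟨(c : G) * g, mem_normalizer_iff.2 fun b => ⟨fun hb => e ▸ mem_map_of_mem _ hb, fun hb => ?_⟩, ?_⟩
  · rw [← e] at hb
    obtain ⟨d, hd, hd'⟩ := hb
    have hd'' : (c : G) * g * d * ((c : G) * g)⁻¹ = (c : G) * g * b * ((c : G) * g)⁻¹ := hd'
    rwa [mul_left_cancel (mul_right_cancel hd'')] at hd
  · have hcc := mem_centralizer_singleton_iff.1 c.2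
    calc (c : G) * g * a * ((c : G) * g)⁻¹ = (c : G) * (g * a * g⁻¹) * (c : G)⁻¹ := by group
      _ = _ := by rw [hcc]; group

namespace Data

variable {G : Type*} [Group G] [Finite G] {z : G} {Q : Subgroup G} {vec : G → V6}
  {φ : ↥(centralizer ({z} : Set G)) →* Equiv.Perm V6} {o : Outer} (D : Data z Q vec φ o)
include D

/-- The large subgroup, a Sylow subgroup around it, and the Thompson subgroup of each Sylow subgroup. -/
theorem exists_thompson {g : G} (hgQ : g * z * g⁻¹ ∈ Q) (hne : g * z * g⁻¹ ≠ z) :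
    ∃ (A : Subgroup ↥(centralizer ({z} : Set G))) (P : Sylow 2 G),
      ((∀ a ∈ A, φ a ∈ A16) ∧ (∀ f ∈ A16, ∃ a ∈ A, φ a = f) ∧ (∀ a ∈ A, a * a = 1) ∧
        (∀ a ∈ A, ∀ b ∈ A, a * b = b * a) ∧
        ∀ q : ↥(centralizer ({z} : Set G)), (q : G) ∈ Q → (q ∈ A ↔ (q : G) ∈ wtSet Q vec)) ∧
      IsUniqueLarge (A.map (centralizer ({z} : Set G)).subtype) ∧
      A.map (centralizer ({z} : Set G)).subtype ≤ P ∧ (P : Subgroup G) ≤ centralizer ({z} : Set G) ∧
      (∀ x : ↥(centralizer ({z} : Set G)), (x : G) ∈ (P : Subgroup G) → ∃ n < 256, φ x = eP n) ∧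
      Nat.card P = 2 ^ 21 ∧
      ∀ T : Sylow 2 G, ∃ c : G, (T : Subgroup G) = (P : Subgroup G).map (MulAut.conj c).toMonoidHom ∧
        Cfsg.thompsonSubgroupOf 2 (T : Subgroup G) =
          (A.map (centralizer ({z} : Set G)).subtype).map (MulAut.conj c).toMonoidHom := by
  classical
  haveI : Fact (Nat.Prime 2) := ⟨Nat.prime_two⟩
  obtain ⟨T0, hT0, hT0A⟩ := D.exists_model_sylow hgQ hne
  obtain ⟨A, hA⟩ := D.exists_large
  obtain ⟨hcard, -⟩ := D.card_large hA
  set P0 := (T0 : Subgroup (centralizer ({z} : Set G))).map (centralizer ({z} : Set G)).subtype with hP0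
  obtain ⟨P, hP⟩ := (IsPGroup.map T0.isPGroup' (centralizer ({z} : Set G)).subtype).exists_le_sylow
  have hQT : ∀ q ∈ Q, q ∈ P0 := fun q hq =>
    ⟨⟨q, D.core.le hq⟩, hT0A _ (by rw [(D.kerφ _).2 (show ((⟨q, D.core.le hq⟩ : (centralizer ({z} : Set G))) : G) ∈ Q from hq)]; exact one_mem _),
      rfl⟩
  obtain ⟨t, -, ht2, htc⟩ := LargeQ.exists_involution_center P fun e => by
    have := hP (hQT z D.core.mem)
    rw [e, mem_bot] at this
    exact D.z_ne this
  have htz : t = z := (D.half.cent t fun q hq => htc q (hP (hQT q hq))).resolve_left fun e => by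
    rw [e, orderOf_one] at ht2; omega
  rw [htz] at htc
  have hPH : (P : Subgroup G) ≤ (centralizer ({z} : Set G)) := fun x hx => mem_centralizer_singleton_iff.2 (htc x hx)
  have hPT : (P : Subgroup G).subgroupOf (centralizer ({z} : Set G)) = T0 := T0.is_maximal' P.isPGroup'.comap_subtype
    fun x hx => mem_subgroupOf.2 (hP ⟨x, hx, rfl⟩)
  set AG := A.map (centralizer ({z} : Set G)).subtype with hAG
  have hAP : AG ≤ P := by
    rintro _ ⟨a, ha, rfl⟩
    exact hP ⟨a, hT0A a (hA.1 a ha), rfl⟩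
  have huniq : ∀ B : Subgroup G, B ≤ P → (∀ a ∈ B, a * a = 1) → (∀ a ∈ B, ∀ b ∈ B, a * b = b * a) →
      2 ^ 11 ≤ Nat.card B → B = AG := by
    intro B hB hs hc hn
    have e := D.unique_large hA (B.subgroupOf (centralizer ({z} : Set G))) (fun b hb => hT0 b (by
        rw [← hPT]; exact mem_subgroupOf.2 (hB (mem_subgroupOf.1 hb))))
      (fun a ha b hb => Subtype.ext (hc _ (mem_subgroupOf.1 ha) _ (mem_subgroupOf.1 hb)))
      (fun a ha => Subtype.ext (hs _ (mem_subgroupOf.1 ha)))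
      (by rwa [Nat.card_congr (subgroupOfEquivOfLe (hB.trans hPH)).toEquiv])
    rw [hAG, ← e, map_subgroupOf_eq_of_le (hB.trans hPH)]
  have hs : ∀ a ∈ AG, a * a = 1 := by
    rintro _ ⟨a, ha, rfl⟩
    exact congrArg Subtype.val (hA.2.2.1 a ha)
  have hc : ∀ a ∈ AG, ∀ b ∈ AG, a * b = b * a := by
    rintro _ ⟨a, ha, rfl⟩ _ ⟨b, hb, rfl⟩
    exact congrArg Subtype.val (hA.2.2.2.1 a ha b hb)
  have hcA : Nat.card AG = 2 ^ 11 := by
    rw [hAG, ← Nat.card_congr (A.equivMapOfInjective _ (centralizer ({z} : Set G)).subtype_injective).toEquiv, hcard]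
  refine ⟨A, P, hA, ⟨hs, hc, hcA, fun R hR hAR B hBR hBs hBc hBn => ?_⟩, hAP, hPH, fun x hx => hT0 x (by rw [← hPT]; exact mem_subgroupOf.2 hx), ?_, fun T => ?_⟩
  · obtain ⟨P', hP'⟩ := hR.exists_le_sylow
    obtain ⟨d, hd⟩ := MulAction.exists_smul_eq G P' P
    have hmov : ∀ x ∈ R, d * x * d⁻¹ ∈ (P : Subgroup G) := fun x hx => by
      rw [← hd, Sylow.smul_def]; exact ⟨x, hP' hx, rfl⟩
    have key : ∀ C : Subgroup G, C ≤ R → (∀ a ∈ C, a * a = 1) → (∀ a ∈ C, ∀ b ∈ C, a * b = b * a) →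
        2 ^ 11 ≤ Nat.card C → C.map (MulAut.conj d).toMonoidHom = AG := by
      intro C hC h1 h2 h3
      refine huniq _ ?_ ?_ ?_ ?_
      · rintro _ ⟨x, hx, rfl⟩; exact hmov x (hC hx)
      · rintro _ ⟨x, hx, rfl⟩; rw [← map_mul, h1 x hx, map_one]
      · rintro _ ⟨x, hx, rfl⟩ _ ⟨y, hy, rfl⟩; rw [← map_mul, ← map_mul, h2 x hx y hy]
      · rwa [← Nat.card_congr (C.equivMapOfInjective _ (MulAut.conj d).injective).toEquiv]
    exact map_injective (MulAut.conj d).injective ((key B hBR hBs hBc hBn).trans (key AG hAR hs hc hcA.ge).symm)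
  · rw [← Nat.card_congr (subgroupOfEquivOfLe hPH).toEquiv, hPT, T0.card_eq_multiplicity]
    have hker : Nat.card φ.ker = 2 ^ 13 := by
      rw [← D.card]
      exact Nat.card_congr
        { toFun := fun x => ⟨_, (D.kerφ _).1 x.2⟩
          invFun := fun x => ⟨⟨x.1, D.core.le x.2⟩, (D.kerφ _).2 x.2⟩
          left_inv := fun x => rfl
          right_inv := fun x => rfl }
    have h := Subgroup.card_eq_card_quotient_mul_card_subgroup φ.ker
    rw [Nat.card_congr (QuotientGroup.quotientKerEquivRange φ).toEquiv, D.card_range, hker] at h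
    rw [h, show 19595520 * 2 ^ 13 = 2 ^ 21 * 76545 by norm_num, Nat.factorization_mul (by norm_num) (by norm_num),
      Finsupp.add_apply, Nat.Prime.factorization_pow Nat.prime_two, Finsupp.single_eq_same,
      Nat.factorization_eq_zero_of_not_dvd (by norm_num : ¬ 2 ∣ 76545)]
  · obtain ⟨c, hcT⟩ := MulAction.exists_smul_eq G P T
    have hT : (T : Subgroup G) = (P : Subgroup G).map (MulAut.conj c).toMonoidHom := by
      rw [← hcT, Sylow.smul_def]; rfl
    refine ⟨c, hT, ?_⟩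
    set A' := AG.map (MulAut.conj c).toMonoidHom with hA'
    have hA'T : A' ≤ T := hT ▸ map_mono hAP
    have hcA' : Nat.card A' = 2 ^ 11 := by
      rw [hA', ← Nat.card_congr (AG.equivMapOfInjective _ (MulAut.conj c).injective).toEquiv, hcA]
    have hel : Cfsg.IsElementaryAbelian 2 (A'.subgroupOf T) := by
      refine ⟨⟨⟨fun a b => ?_⟩⟩, fun a ha => ?_⟩
      · obtain ⟨x, hx, ex⟩ := mem_map.1 (mem_subgroupOf.1 a.2)
        obtain ⟨y, hy, ey⟩ := mem_map.1 (mem_subgroupOf.1 b.2)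
        refine Subtype.ext (Subtype.ext ?_)
        show ((a : T) : G) * (b : T) = (b : T) * (a : T)
        rw [← ex, ← ey, ← map_mul, ← map_mul, hc x hx y hy]
      · obtain ⟨x, hx, ex⟩ := mem_map.1 (mem_subgroupOf.1 ha)
        refine Subtype.ext ?_
        rw [Subgroup.coe_pow, pow_two, ← ex, ← map_mul, hs x hx, map_one, Subgroup.coe_one]
    have hcA'' : Nat.card (A'.subgroupOf T) = 2 ^ 11 := by
      rw [Nat.card_congr (subgroupOfEquivOfLe hA'T).toEquiv, hcA']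
    have hall : ∀ B : Subgroup (T : Subgroup G), Cfsg.IsElementaryAbelian 2 B → 2 ^ 11 ≤ Nat.card B →
        B = A'.subgroupOf T := by
      intro B hB hn
      have e := huniq ((B.map (T : Subgroup G).subtype).map (MulAut.conj c⁻¹).toMonoidHom) ?_ ?_ ?_ ?_
      · have e2 : B.map (T : Subgroup G).subtype = A' := by
          rw [hA', ← e, Subgroup.map_map]
          convert (Subgroup.map_id _).symm using 2
          ext x
          simp [mul_assoc]
        rw [← e2]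
        exact (Subgroup.comap_map_eq_self_of_injective Subtype.val_injective B).symm
      · rintro _ ⟨_, ⟨b, -, rfl⟩, rfl⟩
        obtain ⟨x, hx, ex⟩ := mem_map.1 (hT ▸ b.2 : (b : G) ∈ (P : Subgroup G).map (MulAut.conj c).toMonoidHom)
        show c⁻¹ * (b : G) * c⁻¹⁻¹ ∈ (P : Subgroup G)
        rw [← show c * x * c⁻¹ = (b : G) from ex, show c⁻¹ * (c * x * c⁻¹) * c⁻¹⁻¹ = x by group]
        exact hx
      · rintro _ ⟨_, ⟨b, hb, rfl⟩, rfl⟩
        rw [← map_mul, ← map_mul, ← pow_two, hB.2 b hb, map_one, map_one]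
      · rintro _ ⟨_, ⟨a, ha, rfl⟩, rfl⟩ _ ⟨_, ⟨b, hb, rfl⟩, rfl⟩
        have := congrArg Subtype.val (hB.1.1.1 ⟨a, ha⟩ ⟨b, hb⟩)
        rw [← map_mul, ← map_mul, ← map_mul, ← map_mul, show a * b = b * a from this]
      · rwa [← Nat.card_congr (Subgroup.equivMapOfInjective _ _ (MulAut.conj c⁻¹).injective).toEquiv,
          ← Nat.card_congr (B.equivMapOfInjective _ (T : Subgroup G).subtype_injective).toEquiv]
    have hmax : Cfsg.maxElementaryAbelianSubgroups 2 ↥(T : Subgroup G) = {A'.subgroupOf T} := by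
      refine Set.eq_singleton_iff_unique_mem.2 ⟨⟨hel, fun B hB => ?_⟩, fun B hB => ?_⟩
      · rcases le_or_gt (2 ^ 11) (Nat.card B) with h | h
        · rw [hall B hB h]
        · omega
      · exact hall B hB.1 (hcA'' ▸ hB.2 _ hel)
    rw [Cfsg.thompsonSubgroupOf, Cfsg.thompsonSubgroup, hmax, sSup_singleton, map_subgroupOf_eq_of_le hA'T]

end Data

end CfsgLib.Spor.LargeFischer
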