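import Cfsg.Agent.Lib.Spor.LargeFischer.ThompsonElt
import Cfsg.Agent.Lib.Spor.LargeFischer.ThompsonSylow
import Cfsg.Agent.Lib.Spor.LargeFischer.StabX

/-!
# The conjugates of `z` in the large elementary abelian subgroup

There are `91` of them in the extraspecial subgroup and an equal multiple of sixteen over each of the fifteen
members of the quotient; only the total `1771` can be the length of an orbit on a space of dimension eleven.
-/

set_option autoImplicit false
set_option maxRecDepth 100000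

namespace CfsgLib.Spor.LargeFischer

open Subgroup Matrix CfsgLib.Spor.U43Six CfsgLib.Spor.Fi22.U6 Th

namespace Th

theorem sum_range_block (f : ℕ → ℕ) (a b : ℕ) :
    ∑ n ∈ Finset.range (a * b), f n = ∑ i ∈ Finset.range a, ∑ j ∈ Finset.range b, f (i * b + j) := by
  induction a with
  | zero => simp
  | succ a ih => rw [Nat.succ_mul, Finset.sum_range_add, ih, Finset.sum_range_succ]

theorem code_parts {m b i : ℕ} (hb : b < 2) (hi : i < 64) :
    wx (128 * m + (b * 64 + i)) = wx i ∧ b2z ((128 * m + (b * 64 + i)).testBit 6) = (b : ZMod 2) ∧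
      (128 * m + (b * 64 + i)) / 128 = m := by
  refine ⟨?_, ?_, by omega⟩
  · rw [← wx_mod (128 * m + _)]
    exact congrArg wx (by omega)
  · have e : (128 * m + (b * 64 + i)).testBit 6 = decide (b = 1) := by
      rw [Nat.testBit_eq_decide_div_mod_eq, decide_eq_decide]
      omega
    rw [e]
    rcases (show b = 0 ∨ b = 1 by omega) with rfl | rfl <;> rfl

/-- Whether a number below `128` gives a conjugate of `z`. -/
def wZ (r : ℕ) : Bool := if r % 64 = 0 then r == 64 else !inAI r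

theorem wZ_count : ((Finset.range 128).filter fun r => wZ r = true).card = 91 := by decide +kernel

theorem bad_primes : ∀ k ≤ 8, k ≠ 7 → ∃ p ∈ ([13, 331, 571, 811, 1051, 1291, 1531, 2011] : List ℕ),
    p ∣ 91 + 15 * (16 * k) := by decide +kernel

theorem prime_list : ∀ p ∈ ([13, 331, 571, 811, 1051, 1291, 1531, 2011] : List ℕ),
    p.Prime ∧ ∀ j ≤ 10, (2 ^ 11 - 2 ^ j) % p ≠ 0 := by
  intro p hp
  fin_cases hp <;> exact ⟨by norm_num, by decide +kernel⟩

theorem aEl_perm : ∀ (j : Fin 6) (m : Fin 16), ∃ n : Fin 16, lin (aEl j) * aP m = aP n * lin (aEl j) := by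
  intro j m
  by_cases hj : j.1 < 4
  · refine ⟨m, ?_⟩
    rw [show j = (⟨j.1, by omega⟩ : Fin 6) from rfl, ← aP_gen ⟨j.1, hj⟩, aP_mul, aP_mul, Nat.xor_comm]
  · rcases (show j.1 = 4 ∨ j.1 = 5 by omega) with h | h
    · refine ⟨sg 0 m, ?_⟩
      rw [show j = nIdx 0 from Fin.ext h]
      exact sg_comm (by norm_num) m
    · refine ⟨sg 1 m, ?_⟩
      rw [show j = nIdx 1 from Fin.ext h]
      exact sg_comm (by norm_num) m

end Th

/-- No element of such a prime order acts on a group of order `2 ^ 11`. -/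
theorem mulAut_prime {A : Type*} [Group A] [Finite A] (hA : Nat.card A = 2 ^ 11) {p : ℕ} [hp : Fact p.Prime]
    (hbad : ∀ j ≤ 10, (2 ^ 11 - 2 ^ j) % p ≠ 0) (σ : MulAut A) : orderOf σ ≠ p := by
  intro hσ
  let F : Subgroup A :=
    { carrier := {a | σ a = a}
      one_mem' := map_one σ
      mul_mem' := fun {a b} ha hb => by
        show σ (a * b) = a * b
        rw [map_mul, show σ a = a from ha, show σ b = b from hb]
      inv_mem' := fun {a} ha => by
        show σ a⁻¹ = a⁻¹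
        rw [map_inv, show σ a = a from ha] }
  have h2 : IsPGroup p (zpowers σ) := IsPGroup.of_card (n := 1) (by rw [Nat.card_zpowers, hσ, pow_one])
  have h := h2.card_modEq_card_fixedPoints A
  have e : Nat.card (MulAction.fixedPoints (zpowers σ) A) = Nat.card F := Nat.card_congr (Equiv.subtypeEquivRight
    fun a => ⟨fun ha => ha ⟨σ, mem_zpowers σ⟩, fun ha g => by
      have hst : zpowers σ ≤ MulAction.stabilizer (MulAut A) a := zpowers_le.2 ha
      exact hst g.2⟩)
  rw [e, hA] at h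
  have hd : Nat.card F ∣ 2 ^ 11 := hA ▸ Subgroup.card_subgroup_dvd_card F
  obtain ⟨j, hj, hjF⟩ := (Nat.dvd_prime_pow Nat.prime_two).1 hd
  rw [hjF] at h
  rcases (show j ≤ 10 ∨ j = 11 by omega) with hj' | rfl
  · exact hbad j hj' (Nat.sub_mod_eq_zero_of_mod_eq h)
  · have hF : F = ⊤ := Subgroup.eq_top_of_card_eq F (by rw [hjF, hA])
    have : σ = 1 := MulEquiv.ext fun a => (hF ▸ Subgroup.mem_top a : a ∈ F)
    rw [this, orderOf_one] at hσ
    exact hp.out.one_lt.ne hσ

variable {G : Type*} [Group G] [Finite G]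

/-- Not a conjugate of `z`, in coordinates. -/
def IsT (z : G) (U : V6 → G) (B : Fin 16 → G) (x : V6) (e : ZMod 2) (m : Fin 16) : Prop :=
  ¬ IsConj z (mkA z U B x e m)

/-- The number of conjugates of `z` over a member. -/
noncomputable def cntZ (z : G) (U : V6 → G) (B : Fin 16 → G) (m : ℕ) : ℕ := by
  classical exact ((Finset.range 128).filter fun r => IsConj z (eN z U B (128 * m + r))).card

/-- The number of conjugates of `z` over a member with one vector. -/
noncomputable def fibZ (z : G) (U : V6 → G) (B : Fin 16 → G) (m : Fin 16) (i : ℕ) : ℕ := by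
  classical exact (if IsConj z (mkA z U B (wx i) 0 m) then 1 else 0) + (if IsConj z (mkA z U B (wx i) 1 m) then 1 else 0)

namespace Data

variable {z : G} {Q : Subgroup G} {vec : G → V6} {φ : ↥(centralizer ({z} : Set G)) →* Equiv.Perm V6} {o : Outer}
  (D : Data z Q vec φ o) {A : Subgroup ↥(centralizer ({z} : Set G))} {X : ↥(centralizer ({z} : Set G))}
  {U : V6 → G} {B : Fin 16 → G} (F : Frame16 z Q vec φ A X U B)
  (hA : (∀ a ∈ A, φ a ∈ A16) ∧ (∀ f ∈ A16, ∃ a ∈ A, φ a = f) ∧ (∀ a ∈ A, a * a = 1) ∧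
    (∀ a ∈ A, ∀ b ∈ A, a * b = b * a) ∧
    ∀ q : ↥(centralizer ({z} : Set G)), (q : G) ∈ Q → (q ∈ A ↔ (q : G) ∈ wtSet Q vec))
  (hUL : IsUniqueLarge (A.map (centralizer ({z} : Set G)).subtype))
  {g : G} (hgQ : g * z * g⁻¹ ∈ Q) (hne : g * z * g⁻¹ ≠ z)

omit [Finite G] in
theorem conj_iff_conj (c x : G) : IsConj z (c * x * c⁻¹) ↔ IsConj z x := by
  have h : IsConj x (c * x * c⁻¹) := isConj_iff.2 ⟨c, rfl⟩
  exact ⟨fun h' => h'.trans h.symm, fun h' => h'.trans h⟩

include D F

theorem B_zero : B 0 = 1 := by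
  have h := F.B_mul 0 0
  rw [show Fin.ofNat 16 ((0 : Fin 16).1 ^^^ (0 : Fin 16).1) = 0 from rfl] at h
  exact mul_left_cancel (h.symm.trans (mul_one _).symm)

theorem mkA_Q {x : V6} (hx : InW x) (e : ZMod 2) :
    mkA z U B x e 0 ∈ Q ∧ vec (mkA z U B x e 0) = x := by
  rw [mkA, D.B_zero F, mul_one]
  obtain ⟨hU, hv⟩ := F.U_wt x hx
  exact ⟨Subgroup.mul_mem Q hU.1 (D.zp_Q e).1, by rw [D.add _ hU.1 _ (D.zp_Q e).1, (D.zp_Q e).2, hv, add_zero]⟩

include hgQ hne in
theorem conj_wPart {x : V6} (hx : InW x) (h0 : x ≠ 0) (e : ZMod 2) :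
    IsConj z (mkA z U B x e 0) ↔ ¬ InA x := by
  obtain ⟨hQ, hv⟩ := D.mkA_Q F hx e
  constructor
  · intro h
    obtain ⟨c, hc⟩ := isConj_iff.1 h
    have hne' : c * z * c⁻¹ ≠ z := fun e' => h0 (by rw [← hv, ← hc, e', D.vec_z])
    exact hv ▸ hc ▸ (D.conj_inB (hc ▸ hQ) hne').2.2
  · intro h
    obtain ⟨c, hc⟩ := D.orbit_B hgQ hQ (D.conj_inB hgQ hne)
      (by rw [hv]; exact ⟨h0, inW_hf hx hx, h⟩)
    exact isConj_iff.2 ⟨(c : G) * g, by rw [← hc]; group⟩

theorem mkA_one_z : mkA z U B 0 0 0 = 1 ∧ mkA z U B 0 1 0 = z := by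
  rw [mkA, mkA, D.B_zero F, D.U_zero F]
  simp [zp]

include hgQ hne in
theorem conj_low {r : ℕ} (hr : r < 128) : IsConj z (eN z U B r) ↔ wZ r = true := by
  have h := code_parts (m := 0) (b := r / 64) (i := r % 64) (by omega) (Nat.mod_lt _ (by norm_num))
  rw [show 128 * 0 + (r / 64 * 64 + r % 64) = r by omega] at h
  rw [eN, h.1, h.2.1, h.2.2, show Fin.ofNat 16 0 = 0 from rfl, wZ]
  by_cases h0 : r % 64 = 0
  · rw [if_pos h0, h0, wx_zero, beq_iff_eq]
    rcases (show r / 64 = 0 ∨ r / 64 = 1 by omega) with e | e <;> rw [e]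
    · rw [Nat.cast_zero, (D.mkA_one_z F).1]
      refine iff_of_false (fun hc => D.z_ne ?_) (by omega)
      obtain ⟨c, hc⟩ := isConj_iff.1 hc
      exact by simpa using mul_left_cancel (mul_right_cancel (hc.trans (show (1 : G) = c * 1 * c⁻¹ by group)))
    · rw [Nat.cast_one, (D.mkA_one_z F).2]
      exact iff_of_true (IsConj.refl z) (by omega)
  · have hx : wx (r % 64) ≠ 0 := fun e => h0 (wx_inj (Nat.mod_lt _ (by norm_num)) (by norm_num)
      (e.trans wx_zero.symm))
    rw [if_neg h0, D.conj_wPart F hgQ hne (inW_wx _) hx, ← inA_wx, Bool.not_eq_true', Bool.not_eq_true,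
      show inAI (r % 64) = inAI r by rw [inAI, inAI, Nat.mod_mod]]

theorem move_iff {q : G} (hq : q ∈ Q) {x : V6} (hx : InW x) (e : ZMod 2) (m : Fin 16) :
    IsConj z (mkA z U B (x + dv m (vec q)) (e + trF (hf (vec q) x) + gOf m (vec q)) m) ↔
      IsConj z (mkA z U B x e m) := by
  rw [← D.conj_mkA F hq hx e m, conj_iff_conj]

include hgQ hne in
theorem cnt_zero : cntZ z U B 0 = 91 := by
  classical
  rw [cntZ, ← wZ_count]
  refine congrArg Finset.card (Finset.filter_congr fun r hr => ?_)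
  rw [Nat.mul_zero, Nat.zero_add]
  exact D.conj_low F hgQ hne (Finset.mem_range.1 hr)

theorem cnt_mul (m : Fin 16) (hm : m ≠ 0) : ∃ k ≤ 8, cntZ z U B m.1 = 16 * k := by
  classical
  have hsum : cntZ z U B m.1 = ∑ i ∈ Finset.range 64, fibZ z U B m i := by
    rw [cntZ, Finset.card_filter, show (128 : ℕ) = 2 * 64 from rfl, sum_range_block,
      Finset.sum_range_succ, Finset.sum_range_succ, Finset.sum_range_zero, zero_add, ← Finset.sum_add_distrib]
    refine Finset.sum_congr rfl fun i hi => ?_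
    have hi' := Finset.mem_range.1 hi
    have e : ∀ b < 2, eN z U B (128 * m.1 + (b * 64 + i)) = mkA z U B (wx i) (b : ZMod 2) m := fun b hb => by
      obtain ⟨h1, h2, h3⟩ := code_parts (m := m.1) hb hi'
      rw [eN, h1, h2, h3, show Fin.ofNat 16 m.1 = m from Fin.ext (Nat.mod_eq_of_lt m.2)]
    rw [fibZ, show 2 * 64 * m.1 = 128 * m.1 by norm_num, e 0 (by norm_num), e 1 (by norm_num)]
    simp only [Nat.cast_zero, Nat.cast_one]
  have hrep : ∀ i < 64, fibZ z U B m i = fibZ z U B m (repOf m.1 (repNum m.1 i)) := by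
    intro i hi
    obtain ⟨v, hv⟩ := rep_move hm hi
    obtain ⟨q, hq, rfl⟩ := D.surj v
    have hr := inW_wx (repOf m.1 (repNum m.1 i))
    have h0 := D.move_iff F hq hr 0 m
    have h1 := D.move_iff F hq hr 1 m
    rw [add_comm (wx _), hv, add_assoc] at h0 h1
    rw [fibZ, fibZ]
    rcases z2_cases (trF (hf (vec q) (wx (repOf m.1 (repNum m.1 i)))) + gOf m (vec q)) with e | e <;>
      rw [e] at h0 h1
    · rw [add_zero] at h0 h1
      simp only [h0, h1]
    · rw [zero_add] at h0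
      rw [show (1 : ZMod 2) + 1 = 0 from rfl] at h1
      simp only [h0, h1]
      exact add_comm _ _
  refine ⟨∑ r ∈ Finset.range 4, fibZ z U B m (repOf m.1 r), ?_, ?_⟩
  · have hb : ∀ r, fibZ z U B m r ≤ 2 := fun r => by rw [fibZ]; split <;> split <;> omega
    exact (Finset.sum_le_card_nsmul _ _ 2 fun r _ => hb _).trans (by simp)
  · rw [hsum, Finset.sum_congr rfl fun i hi => hrep i (Finset.mem_range.1 hi),
      ← Finset.sum_fiberwise_of_maps_to (g := repNum m.1) (t := Finset.range 4) (fun i hi =>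
        Finset.mem_range.2 (rep_raw m.1 m.2 (fun e => hm (Fin.ext e)) i (Finset.mem_range.1 hi)).1),
      Finset.mul_sum]
    refine Finset.sum_congr rfl fun r hr => ?_
    rw [Finset.sum_congr rfl (g := fun _ => fibZ z U B m (repOf m.1 r)) fun i hi => by
        rw [(Finset.mem_filter.1 hi).2],
      Finset.sum_const, rep_fiber m.1 m.2 (fun e => hm (Fin.ext e)) r (Finset.mem_range.1 hr), smul_eq_mul]

include hA in
theorem exists_lift (j : Fin 6) : ∃ c : ↥(centralizer ({z} : Set G)), φ c = lin (aEl j) ∧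
    (c : G) * X = X * c ∧ ∀ a ∈ A, c * a * c⁻¹ ∈ A := by
  obtain ⟨d, hd⟩ := D.K1_le _ (lin_mem_KP.2 (aEl_mem j))
  obtain ⟨c, hc, hcX⟩ := D.fix_X F.cube F.scal F.fixed (c := d)
    (hd ▸ D.kp_scalar F.scal (lin_mem_KP.2 (aEl_mem j)))
  refine ⟨c, hc.trans hd, hcX, D.normalize_large hA c fun m => ?_⟩
  rw [hc, hd]
  exact aEl_perm j m

include hA in
theorem conj_coset {c : ↥(centralizer ({z} : Set G))} (hn : ∀ a ∈ A, c * a * c⁻¹ ∈ A) {m n : Fin 16}
    (hc : φ c * aP m = aP n * φ c) {r : ℕ} (hr : r < 128) :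
    ∃ r' < 128, (c : G) * eN z U B (128 * m.1 + r) * (c : G)⁻¹ = eN z U B (128 * n.1 + r') := by
  obtain ⟨h1, h2, h3⟩ := code_parts (m := m.1) (b := r / 64) (i := r % 64) (by omega) (Nat.mod_lt _ (by norm_num))
  rw [show 128 * m.1 + (r / 64 * 64 + r % 64) = 128 * m.1 + r by omega] at h1 h2 h3
  obtain ⟨a, ha, ea, hφa⟩ := D.mkA_phi F (inW_wx (128 * m.1 + r)) (b2z ((128 * m.1 + r).testBit 6))
    (Fin.ofNat 16 ((128 * m.1 + r) / 128))
  rw [h3, show Fin.ofNat 16 m.1 = m from Fin.ext (Nat.mod_eq_of_lt m.2)] at hφa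
  have ha' := hn a ha
  obtain ⟨k, hk, ek⟩ := D.eN_surj F (mem_map_of_mem (centralizer ({z} : Set G)).subtype ha') hA.1
  obtain ⟨b, -, eb, hφb⟩ := D.mkA_phi F (inW_wx k) (b2z (k.testBit 6)) (Fin.ofNat 16 (k / 128))
  have hkn : Fin.ofNat 16 (k / 128) = n := by
    refine aP_injective (hφb.symm.trans ?_)
    rw [show b = c * a * c⁻¹ from Subtype.ext (eb.trans ek)]
    rw [map_mul, map_mul, map_inv, hφa, hc, mul_inv_cancel_right]
  have hkd : k / 128 = n.1 := by
    have := congrArg Fin.val hkn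
    simp only [Fin.val_ofNat] at this
    omega
  refine ⟨k % 128, Nat.mod_lt _ (by norm_num), ?_⟩
  rw [show 128 * n.1 + k % 128 = k by omega, ek]
  show _ = (c : G) * (a : G) * (c : G)⁻¹
  rw [ea]
  rfl

include hA in
theorem cnt_le {c : ↥(centralizer ({z} : Set G))} (hn : ∀ a ∈ A, c * a * c⁻¹ ∈ A) {m n : Fin 16}
    (hc : φ c * aP m = aP n * φ c) : cntZ z U B m.1 ≤ cntZ z U B n.1 := by
  classical
  choose f hf1 hf2 using fun (r : ℕ) (hr : r < 128) => D.conj_coset F hA hn hc hr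
  rw [cntZ, cntZ]
  refine Finset.card_le_card_of_injOn (fun r => if hr : r < 128 then f r hr else 0) (fun r hr => ?_)
    fun r hr r' hr' e => ?_
  · rw [Finset.mem_coe, Finset.mem_filter, Finset.mem_range] at hr ⊢
    beta_reduce
    rw [dif_pos hr.1]
    refine ⟨hf1 r hr.1, ?_⟩
    rw [← hf2 r hr.1, conj_iff_conj]
    exact hr.2
  · rw [Finset.mem_coe, Finset.mem_filter, Finset.mem_range] at hr hr'
    simp only [dif_pos hr.1, dif_pos hr'.1] at e
    have := (hf2 r hr.1).trans ((congrArg (fun k => eN z U B (128 * n.1 + k)) e).trans (hf2 r' hr'.1).symm)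
    have h := D.eN_inj F (by have := m.2; omega) (by have := m.2; omega) (mul_left_cancel (mul_right_cancel this))
    omega

include hA in
theorem cnt_const {m n : Fin 16} (hm : m ≠ 0) (hn : n ≠ 0) : cntZ z U B m.1 = cntZ z U B n.1 := by
  refine (a_constant (fun k => cntZ z U B k.1 = cntZ z U B m.1) (fun j a b e => ?_) m n hm hn rfl).symm
  obtain ⟨c, hc, -, hnorm⟩ := D.exists_lift F hA j
  have h1 := D.cnt_le F hA hnorm (m := a) (n := b) (by rw [hc]; exact e)
  have hc' : φ c⁻¹ * aP b = aP a * φ c⁻¹ := by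
    rw [map_inv, hc, inv_mul_eq_iff_eq_mul, ← mul_assoc, e, mul_inv_cancel_right]
  have hnorm' : ∀ x ∈ A, c⁻¹ * x * c⁻¹⁻¹ ∈ A := D.normalize_large hA c⁻¹ fun x => by
    have hinj : Function.Injective fun x => (aEl_perm j x).choose := fun x y h => by
      have hx := (aEl_perm j x).choose_spec
      have hy := (aEl_perm j y).choose_spec
      rw [show (aEl_perm j x).choose = (aEl_perm j y).choose from h, ← hy] at hx
      exact aP_injective (mul_left_cancel hx)
    obtain ⟨y, hy⟩ := (Finite.injective_iff_surjective.1 hinj) x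
    refine ⟨y, ?_⟩
    have hy' := (aEl_perm j y).choose_spec
    rw [show (aEl_perm j y).choose = x from hy] at hy'
    rw [map_inv, hc, inv_mul_eq_iff_eq_mul, ← mul_assoc, hy', mul_inv_cancel_right]
  have h2 := D.cnt_le F hA hnorm' hc'
  rw [le_antisymm h1 h2]

include hA in
theorem ncard_Z : Set.ncard {a | a ∈ A.map (centralizer ({z} : Set G)).subtype ∧ IsConj z a} =
    ∑ m ∈ Finset.range 16, cntZ z U B m := by
  classical
  have hsum : (∑ m ∈ Finset.range 16, cntZ z U B m) =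
      ((Finset.range 2048).filter fun n => IsConj z (eN z U B n)).card := by
    simp only [cntZ, Finset.card_filter]
    rw [show (2048 : ℕ) = 16 * 128 from rfl, sum_range_block]
    exact Finset.sum_congr rfl fun m _ => Finset.sum_congr rfl fun r _ => by rw [Nat.mul_comm 128 m]
  rw [hsum, ← Set.ncard_coe_finset]
  refine (Set.ncard_congr (fun n _ => eN z U B n) ?_ ?_ ?_).symm
  · intro n hn
    exact ⟨D.eN_mem F n, (Finset.mem_filter.1 hn).2⟩
  · intro a b ha hb e
    exact D.eN_inj F (Finset.mem_range.1 (Finset.mem_filter.1 ha).1) (Finset.mem_range.1 (Finset.mem_filter.1 hb).1) e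
  · rintro a ⟨ha, haz⟩
    obtain ⟨n, hn, rfl⟩ := D.eN_surj F ha hA.1
    exact ⟨n, Finset.mem_filter.2 ⟨Finset.mem_range.2 hn, haz⟩, rfl⟩

include hUL hA hgQ hne in
/-- The main count. -/
theorem cnt_eq {m : Fin 16} (hm : m ≠ 0) : cntZ z U B m.1 = 112 := by
  classical
  obtain ⟨k, hk, hek⟩ := D.cnt_mul F m hm
  by_contra hne112
  have hk7 : k ≠ 7 := fun e => hne112 (by rw [hek, e])
  obtain ⟨p, hp, hpd⟩ := bad_primes k hk hk7
  obtain ⟨hpp, hbad⟩ := prime_list p hp
  haveI : Fact p.Prime := ⟨hpp⟩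
  set AG := A.map (centralizer ({z} : Set G)).subtype with hAG
  have htot : Set.ncard {a | a ∈ AG ∧ IsConj z a} = 91 + 15 * (16 * k) := by
    rw [D.ncard_Z F hA, Finset.sum_range_succ', D.cnt_zero F hgQ hne,
      Finset.sum_congr rfl (g := fun _ => 16 * k) fun i hi => ?_, Finset.sum_const, Finset.card_range,
      smul_eq_mul, Nat.add_comm]
    rw [← hek]
    exact D.cnt_const F hA (m := (⟨i + 1, by have := Finset.mem_range.1 hi; omega⟩ : Fin 16))
      (fun e => Nat.succ_ne_zero i (congrArg Fin.val e)) hm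
  let R := (AG.normalizerMonoidHom).range
  have horb : MulAction.orbit R (⟨z, D.z_mem F⟩ : AG) = {a : AG | IsConj z (a : G)} := by
    ext a
    constructor
    · rintro ⟨⟨_, n, rfl⟩, rfl⟩
      exact isConj_iff.2 ⟨n, rfl⟩
    · intro ha
      obtain ⟨c, hc⟩ := isConj_iff.1 (show IsConj z (a : G) from ha)
      obtain ⟨n, hn, hn'⟩ := hUL.fusion (D.z_mem F) (g := c) (hc ▸ a.2)
      exact ⟨⟨_, ⟨n, hn⟩, rfl⟩, Subtype.ext (hn'.trans hc)⟩
  have hd : p ∣ Nat.card R := by
    refine hpd.trans ?_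
    rw [← htot, ← (MulAction.orbitEquivQuotientStabilizer R (⟨z, D.z_mem F⟩ : AG)).trans (Equiv.refl _) |> fun e =>
      show Nat.card (MulAction.orbit R (⟨z, D.z_mem F⟩ : AG)) = Set.ncard {a | a ∈ AG ∧ IsConj z a} from ?_,
      Nat.card_congr (MulAction.orbitEquivQuotientStabilizer R (⟨z, D.z_mem F⟩ : AG))]
    · exact Subgroup.index_dvd_card _
    · rw [horb, ← Nat.card_coe_set_eq]
      exact Nat.card_congr
        { toFun := fun a => ⟨(a : AG), a.1.2, a.2⟩
          invFun := fun a => ⟨⟨a.1, a.2.1⟩, a.2.2⟩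
          left_inv := fun a => rfl
          right_inv := fun a => rfl }
  obtain ⟨σ, hσ⟩ := exists_prime_orderOf_dvd_card' p hd
  exact mulAut_prime hUL.2.2.1 hbad σ.1 (by rw [Subgroup.orderOf_coe, hσ])

end Data

end CfsgLib.Spor.LargeFischer
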