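import Cfsg.Agent.Lib.Spor.LargeFischer.ThompsonCoord

/-!
# Conjugation on the large elementary abelian subgroup in coordinates
-/

set_option autoImplicit false
set_option maxRecDepth 100000

namespace CfsgLib.Spor.LargeFischer

open Subgroup Matrix CfsgLib.Spor.U43Six CfsgLib.Spor.Fi22.U6

variable {G : Type*} [Group G] [Finite G]

/-- The element of a number. -/
def eN (z : G) (U : V6 → G) (B : Fin 16 → G) (n : ℕ) : G :=
  mkA z U B (Th.wx n) (Th.b2z (n.testBit 6)) (Fin.ofNat 16 (n / 128))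

namespace Th

theorem unit_trace : ∀ a b r : Four, trF (Four.w * (a + r + (r ^ 2 + b))) =
    trF (Four.w * a) + trF (Four.w * b) + trF r := by decide

theorem trF_add : ∀ a b : Four, trF (a + b) = trF a + trF b := by decide

theorem trF_sq : ∀ a : Four, trF (a ^ 2) = trF a := by decide

theorem dv_add (m : Fin 16) (x y : V6) : dv m (x + y) = dv m x + dv m y := by
  simp only [dv, (eP_good (Syl.aIds.getD m.1 0)).add, aP]
  abel

theorem dv_smul (m : Fin 16) (c : Four) (x : V6) : dv m (c • x) = c • dv m x := by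
  obtain ⟨g, -, hg⟩ := A16_KP (show aP m ∈ A16 from ⟨m, rfl⟩)
  rw [dv, dv, ← hg, lin_apply, lin_apply, mulVec_smul, smul_add]

theorem dv_inW (m : Fin 16) (v : V6) : InW (dv m v) := by
  refine inW_iff.2 fun f hf => ?_
  obtain ⟨n, rfl⟩ := hf
  have h1 : ∀ m < 16, ∀ n < 16, ∀ t, gC (Syl.aIds.getD n 0) (gC (Syl.aIds.getD m 0) (bcode t) ^^^ bcode t) =
      gC (Syl.aIds.getD m 0) (bcode t) ^^^ bcode t := by decide +kernel
  have hA : ∀ x y, aP n (x + y) = aP n x + aP n y := (eP_good _).add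
  refine add_ext (f := fun v => aP n (dv m v)) (g := fun v => dv m v) (fun x y => ?_) (fun x y => dv_add m x y)
    (fun t => ?_) v
  · show aP n (dv m (x + y)) = _
    rw [dv_add, hA]
  · show aP n (dv m (bas t)) = dv m (bas t)
    have hb : bcode t < 4096 := bcode_lt t
    have hlt : gC (Syl.aIds.getD m.1 0) (bcode t) ^^^ bcode t < 4096 :=
      Nat.xor_lt_two_pow (n := 12) (gC_bound (aIds_lt m) _) hb
    rw [← (enc_bas t).2, dv_dec m hb, aP_apply, gA, gFn, enc_dec _ hlt, h1 _ m.2 _ n.2 t]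

theorem sym_hf (m : Fin 16) (x y : V6) : hf y (dv m x) = hf x (dv m y) ^ 2 := by
  obtain ⟨g, -, hg⟩ := A16_KP (show aP m ∈ A16 from ⟨m, rfl⟩)
  have h : hf y (aP m x) = hf (aP m y) x := by
    conv_rhs => rw [← Equiv.Perm.one_apply x, ← aP_sq m, Equiv.Perm.mul_apply]
    rw [← hg, hf_lin]
  rw [dv, hf_add_right, h, dv, hf_add_right, ← hf_swap (aP m y) x, ← hf_swap y x]
  exact (show ∀ a b : Four, a + b = (a ^ 2 + b ^ 2) ^ 2 by decide) _ _

theorem gOf_add (m : Fin 16) (x y : V6) : gOf m (x + y) = gOf m x + gOf m y + trF (hf x (dv m y)) := by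
  rw [gOf, gOf, gOf, dv_add, hf_add_left, hf_add_right, hf_add_right, sym_hf m x y]
  exact unit_trace _ _ _

theorem gOf_smul (m : Fin 16) (x : V6) : gOf m (Four.w • x) = gOf m x := by
  rw [gOf, gOf, dv_smul, hf_smul_left, hf_smul_right, ← mul_assoc Four.w (Four.w ^ 2),
    show Four.w * Four.w ^ 2 = 1 from rfl, one_mul]

theorem b2z_xor : ∀ a b : Bool, b2z (a ^^ b) = b2z a + b2z b := by decide

theorem z2_cases : ∀ a : ZMod 2, a = 0 ∨ a = 1 := by decide

end Th

open Th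

namespace Data

variable {z : G} {Q : Subgroup G} {vec : G → V6} {φ : ↥(centralizer ({z} : Set G)) →* Equiv.Perm V6} {o : Outer}
  (D : Data z Q vec φ o) {A : Subgroup ↥(centralizer ({z} : Set G))} {X : ↥(centralizer ({z} : Set G))}
  {U : V6 → G} {B : Fin 16 → G} (F : Frame16 z Q vec φ A X U B)
include D F

theorem U_mem {x : V6} (hx : InW x) : U x ∈ (A.map (centralizer ({z} : Set G)).subtype) := (F.wt _ (F.U_wt x hx).1.1).2 (F.U_wt x hx).1

theorem z_mem : z ∈ (A.map (centralizer ({z} : Set G)).subtype) := (F.wt _ D.core.mem).2 D.wt_z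

theorem zp_mem (e : ZMod 2) : zp z e ∈ (A.map (centralizer ({z} : Set G)).subtype) := by
  rw [zp]
  split
  exacts [one_mem _, D.z_mem F]

theorem B_mem (m : Fin 16) : B m ∈ (A.map (centralizer ({z} : Set G)).subtype) := by
  obtain ⟨c, hc, e, -⟩ := F.B_lift m
  exact e ▸ mem_map_of_mem _ hc

theorem mkA_mem {x : V6} (hx : InW x) (e : ZMod 2) (m : Fin 16) : mkA z U B x e m ∈ (A.map (centralizer ({z} : Set G)).subtype) :=
  mul_mem (mul_mem (D.U_mem F hx) (D.zp_mem F e)) (D.B_mem F m)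

theorem mkA_phi {x : V6} (hx : InW x) (e : ZMod 2) (m : Fin 16) :
    ∃ c : ↥(centralizer ({z} : Set G)), c ∈ A ∧ (c : G) = mkA z U B x e m ∧ φ c = aP m := by
  obtain ⟨c, hc, ec, hφ⟩ := F.B_lift m
  obtain ⟨d, hd, ed⟩ := mem_map.1 (mul_mem (D.U_mem F hx) (D.zp_mem F e))
  refine ⟨d * c, mul_mem hd hc, ?_, ?_⟩
  · rw [Subgroup.coe_mul, ec]
    exact congrArg (· * B m) ed
  · rw [map_mul, (D.kerφ d).2 (by
      rw [show (d : G) = U x * zp z e from ed]
      exact Subgroup.mul_mem Q (F.U_wt x hx).1.1 (D.zp_Q e).1), one_mul, hφ]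

theorem mkA_inj {x y : V6} (hx : InW x) (hy : InW y) {e e' : ZMod 2} {m n : Fin 16}
    (h : mkA z U B x e m = mkA z U B y e' n) : x = y ∧ e = e' ∧ m = n := by
  obtain ⟨c, -, ec, hc⟩ := D.mkA_phi F hx e m
  obtain ⟨d, -, ed, hd⟩ := D.mkA_phi F hy e' n
  have hmn : m = n := aP_injective (hc.symm.trans ((congrArg φ (Subtype.ext (ec.trans (h.trans ed.symm)))).trans hd))
  subst hmn
  have h1 : U x * zp z e = U y * zp z e' := mul_right_cancel h
  have h2 := congrArg vec h1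
  rw [D.add _ (F.U_wt x hx).1.1 _ (D.zp_Q e).1, D.add _ (F.U_wt y hy).1.1 _ (D.zp_Q e').1, (D.zp_Q e).2,
    (D.zp_Q e').2, add_zero, add_zero, (F.U_wt x hx).2, (F.U_wt y hy).2] at h2
  subst h2
  refine ⟨rfl, ?_, rfl⟩
  have h3 := mul_left_cancel h1
  rcases z2_cases e with rfl | rfl <;> rcases z2_cases e' with rfl | rfl
  · rfl
  · exact absurd h3.symm (by simpa [zp] using D.z_ne)
  · exact absurd h3 (by simpa [zp] using D.z_ne)
  · rfl

theorem mkA_surj {a : G} (ha : a ∈ (A.map (centralizer ({z} : Set G)).subtype)) (hA : ∀ a ∈ A, φ a ∈ A16) :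
    ∃ x e m, InW x ∧ a = mkA z U B x e m := by
  obtain ⟨c, hc, rfl⟩ := ha
  obtain ⟨m, hm⟩ := hA c hc
  obtain ⟨d, hd, ed, hφ⟩ := F.B_lift m
  have hq : ((c * d : ↥(centralizer ({z} : Set G))) : G) ∈ Q :=
    (D.kerφ _).1 (by rw [map_mul, hφ, ← hm, aP_sq])
  have hw := (F.wt _ hq).1 (mem_map_of_mem _ (mul_mem hc hd))
  have hd2 : (d : G) * (d : G) = 1 := F.sq _ (mem_map_of_mem _ hd)
  have hback : (c : G) = ((c * d : ↥(centralizer ({z} : Set G))) : G) * B m := by
    rw [Subgroup.coe_mul, ← ed, mul_assoc, hd2, mul_one]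
  generalize hg : ((c * d : ↥(centralizer ({z} : Set G))) : G) = g at hq hw hback
  obtain ⟨hU, hv⟩ := F.U_wt _ hw.2
  show ∃ x e m, InW x ∧ (c : G) = mkA z U B x e m
  rcases D.same_class hU.1 hq hv with e | e
  · exact ⟨_, 0, m, hw.2, by rw [hback, mkA, zp, if_pos rfl, mul_one]; exact congrArg (· * B m) e⟩
  · exact ⟨_, 1, m, hw.2, by rw [hback, mkA, zp, if_neg (show (1 : ZMod 2) ≠ 0 by decide)]; exact congrArg (· * B m) e⟩

theorem mkA_mul {x y : V6} (hx : InW x) (hy : InW y) (e e' : ZMod 2) (m n : Fin 16) :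
    mkA z U B x e m * mkA z U B y e' n = mkA z U B (x + y) (e + e') (Fin.ofNat 16 (m.1 ^^^ n.1)) := by
  have h : ∀ {a b : G}, a ∈ (A.map (centralizer ({z} : Set G)).subtype) → b ∈ (A.map (centralizer ({z} : Set G)).subtype) → Commute a b := fun ha hb => F.comm _ ha _ hb
  rw [mkA, mkA, mkA, F.U_add x y hx hy, D.zp_add, F.B_mul]
  calc U x * zp z e * B m * (U y * zp z e' * B n) = U x * zp z e * (B m * (U y * zp z e')) * B n := by group
    _ = U x * zp z e * ((U y * zp z e') * B m) * B n := by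
        rw [(h (D.B_mem F m) (mul_mem (D.U_mem F hy) (D.zp_mem F e'))).eq]
    _ = U x * (zp z e * U y) * zp z e' * B m * B n := by group
    _ = U x * (U y * zp z e) * zp z e' * B m * B n := by rw [(h (D.zp_mem F e) (D.U_mem F hy)).eq]
    _ = _ := by group

theorem eN_xor (a b : ℕ) : eN z U B (a ^^^ b) = eN z U B a * eN z U B b := by
  rw [eN, eN, eN, D.mkA_mul F (inW_wx a) (inW_wx b), wx_xor, Nat.testBit_xor, b2z_xor]
  congr 1
  apply Fin.ext
  simp only [Fin.val_ofNat]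
  rw [show (128 : ℕ) = 2 ^ 7 from rfl, ← Nat.shiftRight_eq_div_pow, ← Nat.shiftRight_eq_div_pow,
    ← Nat.shiftRight_eq_div_pow, Nat.shiftRight_xor_distrib, show (16 : ℕ) = 2 ^ 4 from rfl, Nat.xor_mod_two_pow,
    ← Nat.xor_mod_two_pow, Nat.mod_mod]

theorem eN_mem (a : ℕ) : eN z U B a ∈ (A.map (centralizer ({z} : Set G)).subtype) := D.mkA_mem F (inW_wx a) _ _

theorem eN_inj {a b : ℕ} (ha : a < 2048) (hb : b < 2048) (h : eN z U B a = eN z U B b) : a = b := by
  obtain ⟨h1, h2, h3⟩ := D.mkA_inj F (inW_wx a) (inW_wx b) h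
  have h1' : a % 64 = b % 64 :=
    wx_inj (Nat.mod_lt _ (by norm_num)) (Nat.mod_lt _ (by norm_num)) (by rw [wx_mod, wx_mod]; exact h1)
  have h3' : a / 128 = b / 128 := by
    have := congrArg Fin.val h3
    simp only [Fin.val_ofNat] at this
    omega
  have h2' : a / 64 % 2 = b / 64 % 2 := by
    have e : ∀ p q : Bool, b2z p = b2z q → p = q := by decide
    have := e _ _ h2
    simp only [Nat.testBit_eq_decide_div_mod_eq, decide_eq_decide] at this
    omega
  omega

theorem eN_surj {a : G} (ha : a ∈ (A.map (centralizer ({z} : Set G)).subtype)) (hA : ∀ a ∈ A, φ a ∈ A16) : ∃ n < 2048, eN z U B n = a := by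
  obtain ⟨x, e, m, hx, rfl⟩ := D.mkA_surj F ha hA
  obtain ⟨i, hi, rfl⟩ := exists_wx hx
  refine ⟨i + (if e = 0 then 0 else 64) + 128 * m.1, by have := m.2; split <;> omega, ?_⟩
  rw [eN]
  congr 1
  · rw [← wx_mod (i + _ + _)]
    exact congrArg wx (by split <;> omega)
  · have : (i + (if e = 0 then 0 else 64) + 128 * m.1).testBit 6 = decide (e ≠ 0) := by
      rw [Nat.testBit_eq_decide_div_mod_eq, decide_eq_decide]
      split <;> simp_all <;> omega
    rw [this]
    exact (show ∀ e : ZMod 2, b2z (decide (e ≠ 0)) = e by decide) e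
  · apply Fin.ext
    simp only [Fin.val_ofNat]
    have := m.2
    split <;> omega

theorem U_zero : U 0 = 1 := by
  have h := F.U_add 0 0 (by rw [← wx_zero]; exact inW_wx 0) (by rw [← wx_zero]; exact inW_wx 0)
  rw [add_zero] at h
  exact mul_left_cancel (h.symm.trans (mul_one _).symm)

theorem eN_zero : eN z U B 0 = 1 := by
  have h := D.eN_xor F 0 0
  rw [Nat.xor_self] at h
  exact mul_left_cancel (h.symm.trans (mul_one _).symm)

omit F in
theorem vec_inv_mem {a : G} (ha : a ∈ Q) : vec a⁻¹ = vec a := by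
  have h := D.add _ (Subgroup.inv_mem Q ha) a ha
  rw [inv_mul_cancel, D.vec_one] at h
  funext i
  exact (show ∀ p q : Four, 0 = p + q → p = q by decide) _ _ (congrFun h i)

theorem conj_U {q : G} (hq : q ∈ Q) {x : V6} (hx : InW x) :
    q * U x * q⁻¹ = U x * zp z (trF (hf (vec q) x)) := by
  obtain ⟨hU, hv⟩ := F.U_wt x hx
  have hc := D.comm q hq _ hU.1
  rw [hv] at hc
  rcases z2_cases (trF (hf (vec q) x)) with e | e
  · rw [e, zp, if_pos rfl, mul_one, mul_inv_eq_iff_eq_mul]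
    exact hc.1 e
  · rw [e, zp, if_neg (show (1 : ZMod 2) ≠ 0 by decide)]
    have hmem : q * U x * q⁻¹ ∈ Q := Subgroup.mul_mem Q (Subgroup.mul_mem Q hq hU.1) (Subgroup.inv_mem Q hq)
    rcases D.same_class hU.1 hmem (by
      rw [D.add _ (Subgroup.mul_mem Q hq hU.1) _ (Subgroup.inv_mem Q hq), D.add _ hq _ hU.1, D.vec_inv_mem hq, hv]
      funext i
      exact (show ∀ a b : Four, b = a + b + a by decide) _ _) with h | h
    · rw [mul_inv_eq_iff_eq_mul] at h
      rw [hc.2 h] at e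
      exact absurd e (by decide)
    · exact h

theorem conj_X_mkA {x : V6} (hx : InW x) (e : ZMod 2) (m : Fin 16) :
    (X : G) * mkA z U B x e m * (X : G)⁻¹ = mkA z U B (Four.w • x) e m := by
  have hz : (X : G) * zp z e * (X : G)⁻¹ = zp z e := by
    rw [mul_inv_eq_iff_eq_mul, zp]
    split
    · simp
    · exact mem_centralizer_singleton_iff.1 X.2
  have hB : (X : G) * B m * (X : G)⁻¹ = B m := by rw [mul_inv_eq_iff_eq_mul, F.B_X]
  rw [mkA, mkA]
  calc (X : G) * (U x * zp z e * B m) * (X : G)⁻¹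
      = ((X : G) * U x * (X : G)⁻¹) * ((X : G) * zp z e * (X : G)⁻¹) * ((X : G) * B m * (X : G)⁻¹) := by group
    _ = _ := by rw [F.U_X x hx, hz, hB]

/-- The translations on the lifts. -/
theorem conj_B {q : G} (hq : q ∈ Q) (m : Fin 16) :
    q * B m * q⁻¹ = mkA z U B (dv m (vec q)) (gOf m (vec q)) m := by
  classical
  obtain ⟨c, hc, ec, hφ⟩ := F.B_lift m
  have hBA := D.B_mem F m
  let h : G → G := fun q => B m * (q * B m * q⁻¹)
  have hmem : ∀ q ∈ Q, h q ∈ wtSet Q vec ∧ vec (h q) = dv m (vec q) := by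
    intro q hq
    have h1 : B m * q * (B m)⁻¹ ∈ Q := by
      rw [← ec]; exact D.core.norm _ (mem_centralizer_singleton_iff.1 c.2) q hq
    have heq : h q = B m * q * (B m)⁻¹ * q⁻¹ := by
      simp only [h]; rw [inv_eq_of_mul_eq_one_right (F.sq _ hBA)]; group
    have hQ : h q ∈ Q := heq ▸ Subgroup.mul_mem Q h1 (Subgroup.inv_mem Q hq)
    refine ⟨(F.wt _ hQ).1 (mul_mem hBA (F.normQ q hq _ hBA)), ?_⟩
    rw [heq, D.add _ h1 _ (Subgroup.inv_mem Q hq), D.vec_inv_mem hq, ← ec, D.conj c q hq, hφ]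
    rfl
  have hγ : ∀ v : V6, ∃ e : ZMod 2, ∀ q ∈ Q, vec q = v → h q = U (dv m v) * zp z e := by
    intro v
    obtain ⟨q0, hq0, hv0⟩ := D.surj v
    obtain ⟨hU, hUv⟩ := F.U_wt _ (dv_inW m v)
    obtain ⟨hh, hhv⟩ := hmem q0 hq0
    have huniq : ∀ q ∈ Q, vec q = v → h q = h q0 := by
      intro q hq hv
      rcases D.same_class hq0 hq (hv0.trans hv.symm) with e | e
      · rw [e]
      · have hz : z * B m = B m * z := F.comm _ (D.z_mem F) _ hBA
        simp only [h, e, _root_.mul_inv_rev]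
        calc B m * (q0 * z * B m * (z⁻¹ * q0⁻¹)) = B m * (q0 * (z * B m) * z⁻¹ * q0⁻¹) := by group
          _ = _ := by rw [hz]; group
    rcases D.same_class hU.1 hh.1 (by rw [hUv, hhv, hv0]) with e | e
    · exact ⟨0, fun q hq hv => by rw [huniq q hq hv, e, zp, if_pos rfl, mul_one]⟩
    · exact ⟨1, fun q hq hv => by rw [huniq q hq hv, e, zp, if_neg (show (1 : ZMod 2) ≠ 0 by decide)]⟩
  choose γ hγ using hγ
  have hlift : ∀ v, ∃ q ∈ Q, vec q = v := D.surj
  have key : ∀ u v, mkA z U B (dv m (u + v)) (γ (u + v)) 0 =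
      mkA z U B (dv m u + dv m v) (γ u + γ v + trF (hf u (dv m v))) 0 := by
    intro u v
    obtain ⟨a, ha, rfl⟩ := hlift u
    obtain ⟨b, hb, rfl⟩ := hlift v
    have hab : h (a * b) = h a * (a * h b * a⁻¹) := by
      simp only [h, _root_.mul_inv_rev]
      calc B m * (a * b * B m * (b⁻¹ * a⁻¹)) = B m * (a * ((B m * B m) * (b * B m * b⁻¹)) * a⁻¹) := by
            rw [F.sq _ hBA]; group
        _ = _ := by group
    have hcz : a * zp z (γ (vec b)) * a⁻¹ = zp z (γ (vec b)) := by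
      rw [mul_inv_eq_iff_eq_mul, zp]
      split
      · simp
      · exact D.half.cz a ha
    have e1 := hγ _ (a * b) (Subgroup.mul_mem Q ha hb) (D.add a ha b hb)
    rw [hab, hγ _ a ha rfl, hγ _ b hb rfl,
      show a * (U (dv m (vec b)) * zp z (γ (vec b))) * a⁻¹ =
        (a * U (dv m (vec b)) * a⁻¹) * (a * zp z (γ (vec b)) * a⁻¹) by group,
      D.conj_U F ha (dv_inW m (vec b)), hcz] at e1
    rw [mkA, mkA, ← e1, F.U_add _ _ (dv_inW m _) (dv_inW m _), D.zp_add, D.zp_add]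
    have h2 : Commute (zp z (γ (vec a))) (U (dv m (vec b))) :=
      F.comm _ (D.zp_mem F _) _ (D.U_mem F (dv_inW m _))
    have h3 : Commute (zp z (γ (vec b))) (zp z (trF (hf (vec a) (dv m (vec b))))) :=
      F.comm _ (D.zp_mem F _) _ (D.zp_mem F _)
    congr 1
    calc _ = U (dv m (vec a)) * (zp z (γ (vec a)) * U (dv m (vec b))) *
          (zp z (trF (hf (vec a) (dv m (vec b)))) * zp z (γ (vec b))) := by group
      _ = _ := by rw [h2.eq, ← h3.eq]; group
  have hadd : ∀ u v, γ (u + v) = γ u + γ v + trF (hf u (dv m v)) := fun u v =>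
    (D.mkA_inj F (dv_inW m _) (D.inW_add (dv_inW m u) (dv_inW m v)) (key u v)).2.1
  have hsm : ∀ v, γ (Four.w • v) = γ v := by
    intro v
    obtain ⟨a, ha, rfl⟩ := hlift v
    have hXa : (X : G) * a * (X : G)⁻¹ ∈ Q := D.core.norm _ (mem_centralizer_singleton_iff.1 X.2) a ha
    have e1 := hγ _ _ hXa (by rw [D.conj X a ha, F.scal])
    have e2 : h ((X : G) * a * (X : G)⁻¹) = (X : G) * h a * (X : G)⁻¹ := by
      have hB : (X : G)⁻¹ * B m * X = B m := by rw [mul_assoc, F.B_X, ← mul_assoc, inv_mul_cancel, one_mul]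
      simp only [h]
      calc B m * ((X : G) * a * (X : G)⁻¹ * B m * ((X : G) * a * (X : G)⁻¹)⁻¹)
          = B m * (X : G) * a * ((X : G)⁻¹ * B m * X) * a⁻¹ * (X : G)⁻¹ := by group
        _ = _ := by rw [hB, F.B_X]; group
    have hz : (X : G) * zp z (γ (vec a)) * (X : G)⁻¹ = zp z (γ (vec a)) := by
      rw [mul_inv_eq_iff_eq_mul, zp]
      split
      · simp
      · exact mem_centralizer_singleton_iff.1 X.2
    rw [e2, hγ _ a ha rfl, show (X : G) * (U (dv m (vec a)) * zp z (γ (vec a))) * (X : G)⁻¹ =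
      ((X : G) * U (dv m (vec a)) * (X : G)⁻¹) * ((X : G) * zp z (γ (vec a)) * (X : G)⁻¹) by group,
      F.U_X _ (dv_inW m _), hz, dv_smul] at e1
    exact (D.mkA_inj F (inW_smul (dv_inW m _)) (inW_smul (dv_inW m _))
      (show mkA z U B _ _ 0 = mkA z U B _ _ 0 by rw [mkA, mkA, e1])).2.1.symm
  have hd : ∀ v, γ v + gOf m v = 0 := by
    intro v
    have e : Four.w • (Four.w • v) = Four.w • v + v := by
      funext i
      exact (show ∀ c : Four, Four.w * (Four.w * c) = Four.w * c + c by decide) _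
    have h2 : γ (Four.w • v + v) + gOf m (Four.w • v + v) = γ v + gOf m v := by rw [← e, hsm, hsm, gOf_smul, gOf_smul]
    rw [hadd, gOf_add, hsm, gOf_smul] at h2
    revert h2
    exact (show ∀ a b t : ZMod 2, a + a + t + (b + b + t) = a + b → a + b = 0 by decide) _ _ _
  have hb : γ (vec q) = gOf m (vec q) := (show ∀ a b : ZMod 2, a + b = 0 → a = b by decide) _ _ (hd _)
  have e := hγ _ q hq rfl
  rw [mkA, ← hb, ← e]
  simp only [h]
  rw [F.comm _ (mul_mem hBA (F.normQ q hq _ hBA)) _ hBA, ← mul_assoc, F.sq _ hBA, one_mul]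

theorem conj_mkA {q : G} (hq : q ∈ Q) {x : V6} (hx : InW x) (e : ZMod 2) (m : Fin 16) :
    q * mkA z U B x e m * q⁻¹ =
      mkA z U B (x + dv m (vec q)) (e + trF (hf (vec q) x) + gOf m (vec q)) m := by
  have hz : q * zp z e * q⁻¹ = zp z e := by
    rw [mul_inv_eq_iff_eq_mul, zp]
    split
    · simp
    · exact D.half.cz q hq
  rw [mkA, show q * (U x * zp z e * B m) * q⁻¹ = (q * U x * q⁻¹) * (q * zp z e * q⁻¹) * (q * B m * q⁻¹) by group,
    D.conj_U F hq hx, hz, D.conj_B F hq m, mkA, mkA, F.U_add _ _ hx (dv_inW m _), D.zp_add, D.zp_add]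
  have hc : Commute (zp z (trF (hf (vec q) x)) * zp z e) (U (dv m (vec q))) :=
    F.comm _ (mul_mem (D.zp_mem F _) (D.zp_mem F _)) _ (D.U_mem F (dv_inW m _))
  have hc' : Commute (zp z e) (zp z (trF (hf (vec q) x))) := F.comm _ (D.zp_mem F _) _ (D.zp_mem F _)
  calc _ = U x * ((zp z (trF (hf (vec q) x)) * zp z e) * U (dv m (vec q))) * zp z (gOf m (vec q)) * B m := by group
    _ = _ := by rw [hc.eq, hc'.eq]; group

end Data

end CfsgLib.Spor.LargeFischer
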