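import Cfsg.Agent.Lib.Spor.LargeFischer.ThompsonMathieu

/-!
# The normalizer of the Thompson subgroup: orbits, order and quotient
-/

set_option autoImplicit false
set_option maxRecDepth 100000

namespace CfsgLib.Spor.LargeFischer

open Subgroup CfsgLib.Spor CfsgLib.Spor.U43Six CfsgLib.Spor.Fi22.U6 Th
open scoped Pointwise

variable {G : Type*} [Group G] [Finite G]

/-- Everything used about the normalizer of the Thompson subgroup. -/
structure NormData (z : G) (A : Subgroup G) (el : Cfsg.GolayPt → G) : Prop where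
  chart : Chart24 z A el
  z_mem : z ∈ A
  order : 2 ^ 21 * 45 * 1771 ∣ Nat.card ↥(normalizer (A : Set G))
  t_trans : ∀ a ∈ A, ∀ b ∈ A, a ≠ 1 → b ≠ 1 → ¬ IsConj z a → ¬ IsConj z b →
    ∃ m ∈ normalizer (A : Set G), m * a * m⁻¹ = b

omit [Finite G] in
theorem mem_conj_map {A : Subgroup G} {c x : G} :
    x ∈ A.map (MulAut.conj c).toMonoidHom ↔ c⁻¹ * x * c ∈ A := by
  constructor
  · rintro ⟨a, ha, rfl⟩
    show c⁻¹ * (c * a * c⁻¹) * c ∈ A
    rwa [show c⁻¹ * (c * a * c⁻¹) * c = a by group]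
  · intro h
    exact ⟨_, h, show c * (c⁻¹ * x * c) * c⁻¹ = x by group⟩

omit [Finite G] in
theorem normalizer_conj_map {A : Subgroup G} {c m : G} :
    m ∈ normalizer ((A.map (MulAut.conj c).toMonoidHom : Subgroup G) : Set G) ↔
      c⁻¹ * m * c ∈ normalizer (A : Set G) := by
  have key : ∀ x, c⁻¹ * (m * x * m⁻¹) * c = (c⁻¹ * m * c) * (c⁻¹ * x * c) * (c⁻¹ * m * c)⁻¹ := fun x => by group
  constructor
  · intro h
    refine mem_normalizer_iff.2 fun a => ?_
    have h' := mem_normalizer_iff.1 h (c * a * c⁻¹)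
    rw [mem_conj_map, mem_conj_map, key, show c⁻¹ * (c * a * c⁻¹) * c = a by group] at h'
    exact h'
  · intro h
    refine mem_normalizer_iff.2 fun x => ?_
    rw [mem_conj_map, mem_conj_map, key]
    exact mem_normalizer_iff.1 h _

theorem NormData.conj {z : G} {A : Subgroup G} {el : Cfsg.GolayPt → G} (N : NormData z A el) (c : G)
    (hz : z ∈ A.map (MulAut.conj c).toMonoidHom) :
    NormData z (A.map (MulAut.conj c).toMonoidHom) fun p => c * el p * c⁻¹ := by
  obtain ⟨C, hzA, hord, htr⟩ := N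
  set A' := A.map (MulAut.conj c).toMonoidHom with hA'
  have hm : ∀ {x}, x ∈ A' → c⁻¹ * x * c ∈ A := fun h => mem_conj_map.1 h
  have hback : ∀ x : G, c * (c⁻¹ * x * c) * c⁻¹ = x := fun x => by group
  have hfor : ∀ {a}, a ∈ A → c * a * c⁻¹ ∈ A' := fun ha => ⟨_, ha, rfl⟩
  have hpq : ∀ p q, c * el p * c⁻¹ * (c * el q * c⁻¹) = c * (el p * el q) * c⁻¹ := fun p q => by group
  have hinv : ∀ {x}, c⁻¹ * x * c ≠ 1 → x ≠ 1 := fun h e => h (by rw [e]; group)
  have hne : ∀ {x}, x ≠ 1 → c⁻¹ * x * c ≠ 1 := fun {x} h e => h (by rw [← hback x, e]; group)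
  have hnc : ∀ {x}, IsConj z (c⁻¹ * x * c) ↔ IsConj z x := fun {x} => by
    have := Data.conj_iff_conj (z := z) c (c⁻¹ * x * c)
    rw [hback] at this
    exact this.symm
  refine ⟨⟨⟨?_, ?_, ?_, ?_⟩, ?_, fun p => hfor (C.mem p), ?_, ?_, ?_, ?_, ?_⟩, hz, ?_, ?_⟩
  · rintro _ ⟨a, ha, rfl⟩
    rw [← map_mul, C.uniq.1 a ha, map_one]
  · rintro _ ⟨a, ha, rfl⟩ _ ⟨b, hb, rfl⟩
    rw [← map_mul, ← map_mul, C.uniq.2.1 a ha b hb]
  · rw [hA', ← Nat.card_congr (A.equivMapOfInjective _ (MulAut.conj c).injective).toEquiv, C.uniq.2.2.1]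
  · intro P hP hAP B hBP hs hc hn
    have e := C.uniq.2.2.2 (P.map (MulAut.conj c⁻¹).toMonoidHom) (IsPGroup.map hP _) ?_
      (B.map (MulAut.conj c⁻¹).toMonoidHom) (map_mono hBP) ?_ ?_ ?_
    · rw [hA', ← e, Subgroup.map_map]
      convert (Subgroup.map_id B).symm using 2
      ext x
      simp [mul_assoc]
    · intro a ha
      exact ⟨_, hAP (hfor ha), show c⁻¹ * (c * a * c⁻¹) * c⁻¹⁻¹ = a by group⟩
    · rintro _ ⟨a, ha, rfl⟩
      rw [← map_mul, hs a ha, map_one]
    · rintro _ ⟨a, ha, rfl⟩ _ ⟨b, hb, rfl⟩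
      rw [← map_mul, ← map_mul, hc a ha b hb]
    · rwa [← Nat.card_congr (B.equivMapOfInjective _ (MulAut.conj c⁻¹).injective).toEquiv]
  · intro x hx
    rw [hA', mem_conj_map]
    refine C.cent (mem_centralizer_iff.2 fun a ha => ?_)
    have := mem_centralizer_iff.1 hx _ (hfor ha)
    calc a * (c⁻¹ * x * c) = c⁻¹ * ((c * a * c⁻¹) * x) * c := by group
      _ = c⁻¹ * (x * (c * a * c⁻¹)) * c := by rw [this]
      _ = _ := by group
  · intro p q h
    obtain ⟨h1, h2⟩ := C.pair p q h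
    rw [hpq]
    refine ⟨hinv (by rwa [show c⁻¹ * (c * (el p * el q) * c⁻¹) * c = el p * el q by group]), ?_⟩
    rwa [Data.conj_iff_conj]
  · intro a ha h1 h2
    obtain ⟨p, q, hne', e⟩ := C.exists_pair _ (hm ha) (hne h1) (fun h => h2 (hnc.1 h))
    exact ⟨p, q, hne', by rw [hpq, ← e, hback]⟩
  · intro a ha
    have h := C.span _ (hm ha)
    have hle : closure {b | ∃ p q, b = el p * el q} ≤ (closure {b | ∃ p q,
        b = c * el p * c⁻¹ * (c * el q * c⁻¹)}).comap (MulAut.conj c).toMonoidHom := by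
      refine (closure_le _).2 ?_
      rintro _ ⟨p, q, rfl⟩
      exact subset_closure ⟨p, q, (hpq p q).symm⟩
    have := hle h
    rw [mem_comap] at this
    simpa [mul_assoc] using this
  · intro r hr
    obtain ⟨k, Λ, hΛ, hrow⟩ := C.row r hr
    refine ⟨k, fun x => Λ (c⁻¹ * x * c), fun a ha b hb => ?_, fun p => ?_⟩
    · show Λ _ = Λ _ + Λ _
      rw [show c⁻¹ * (a * b) * c = (c⁻¹ * a * c) * (c⁻¹ * b * c) by group, hΛ _ (hm ha) _ (hm hb)]
    · show word r p = k + Λ _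
      rw [hrow, show c⁻¹ * (c * el p * c⁻¹) * c = el p by group]
  · intro Λ hΛ r hr
    refine C.rel (fun x => Λ (c * x * c⁻¹)) (fun a ha b hb => ?_) r hr
    show Λ _ = Λ _ + Λ _
    rw [show c * (a * b) * c⁻¹ = (c * a * c⁻¹) * (c * b * c⁻¹) by group, hΛ _ (hfor ha) _ (hfor hb)]
  · refine hord.trans (dvd_of_eq (Nat.card_congr
      { toFun := fun m => ⟨c * (m : G) * c⁻¹, normalizer_conj_map.2 (by
          rw [show c⁻¹ * (c * (m : G) * c⁻¹) * c = (m : G) by group]; exact m.2)⟩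
        invFun := fun m => ⟨c⁻¹ * (m : G) * c, normalizer_conj_map.1 m.2⟩
        left_inv := fun m => Subtype.ext (show c⁻¹ * (c * (m : G) * c⁻¹) * c = m by group)
        right_inv := fun m => Subtype.ext (hback _) }))
  · intro a ha b hb ha1 hb1 hat hbt
    obtain ⟨m, hm', e⟩ := htr _ (hm ha) _ (hm hb) (hne ha1) (hne hb1) (fun h => hat (hnc.1 h))
      fun h => hbt (hnc.1 h)
    refine ⟨c * m * c⁻¹, normalizer_conj_map.2 (by rwa [show c⁻¹ * (c * m * c⁻¹) * c = m by group]), ?_⟩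
    rw [← hback b, ← e]
    group

namespace Data

variable {z : G} {Q : Subgroup G} {vec : G → V6} {φ : ↥(centralizer ({z} : Set G)) →* Equiv.Perm V6} {o : Outer}
  (D : Data z Q vec φ o) {A : Subgroup ↥(centralizer ({z} : Set G))}
  (hA : (∀ a ∈ A, φ a ∈ A16) ∧ (∀ f ∈ A16, ∃ a ∈ A, φ a = f) ∧ (∀ a ∈ A, a * a = 1) ∧
    (∀ a ∈ A, ∀ b ∈ A, a * b = b * a) ∧
    ∀ q : ↥(centralizer ({z} : Set G)), (q : G) ∈ Q → (q ∈ A ↔ (q : G) ∈ wtSet Q vec))
  (hUL : IsUniqueLarge (A.map (centralizer ({z} : Set G)).subtype))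
  {g : G} (hgQ : g * z * g⁻¹ ∈ Q) (hne : g * z * g⁻¹ ≠ z)
include D hA hUL hgQ hne

omit hUL hgQ hne in
theorem fortyFive_dvd : 45 ∣ Nat.card ↥(normalizer ((A.map (centralizer ({z} : Set G)).subtype : Subgroup G) : Set G)) := by
  classical
  haveI : Fact (Nat.Prime 3) := ⟨Nat.prime_three⟩
  obtain ⟨X, U, B, F⟩ := D.exists_section hA
  set N := (normalizer ((A.map (centralizer ({z} : Set G)).subtype : Subgroup G) : Set G)).comap
    (centralizer ({z} : Set G)).subtype with hN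
  set I := N.map φ with hI
  have hdvd : Nat.card I ∣ Nat.card ↥(normalizer ((A.map (centralizer ({z} : Set G)).subtype : Subgroup G) : Set G)) :=
    (Subgroup.card_map_dvd N φ).trans (Subgroup.card_comap_dvd_of_injective _ _ Subtype.val_injective)
  refine dvd_trans ?_ hdvd
  have hlift : ∀ j : Fin 6, ∃ f ∈ I, f = lin (aEl j) := by
    intro j
    obtain ⟨c, hc, -, hn⟩ := D.exists_lift F hA j
    exact ⟨_, mem_map_of_mem _ (show c ∈ N from D.lift_mem_normalizer F hA hn), hc⟩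
  let ρ : ↥I →* MulAut (Equiv.Perm V6) := MulAut.conj.comp I.subtype
  letI : MulAction ↥I (Equiv.Perm V6) := MulAction.compHom _ ρ
  have hsm : ∀ (i : ↥I) (x : Equiv.Perm V6), i • x = (i : Equiv.Perm V6) * x * (i : Equiv.Perm V6)⁻¹ := fun i x => rfl
  have horb : MulAction.orbit ↥I (aP 1) = (fun m => aP m) '' {m | m ≠ 0} := by
    ext x
    constructor
    · rintro ⟨i, rfl⟩
      obtain ⟨c, hc, hci⟩ := mem_map.1 i.2
      obtain ⟨b, hb, hbφ⟩ := hA.2.1 (aP 1) ⟨1, rfl⟩
      have h := (mem_normalizer_iff.1 (mem_comap.1 hc) (b : G)).1 (mem_map_of_mem _ hb)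
      obtain ⟨d, hd, ed⟩ := mem_map.1 h
      obtain ⟨m, hm⟩ := hA.1 d hd
      refine ⟨m, fun e => ?_, ?_⟩
      · subst e
        have h1 : φ d = φ c * aP 1 * (φ c)⁻¹ := by
          rw [show d = c * b * c⁻¹ from Subtype.ext ed, map_mul, map_mul, map_inv, hbφ]
        rw [← hm, aP_zero] at h1
        have h2 : aP 1 = aP 0 := by
          rw [aP_zero]
          calc aP 1 = (φ c)⁻¹ * (φ c * aP 1 * (φ c)⁻¹) * φ c := by group
            _ = 1 := by rw [← h1]; group
        exact absurd (aP_injective h2) (by decide)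
      · show aP m = _
        rw [hm, show d = c * b * c⁻¹ from Subtype.ext ed, map_mul, map_mul, map_inv, hbφ, hci]
        rfl
    · rintro ⟨m, hm, rfl⟩
      refine a_constant (fun k => aP k ∈ MulAction.orbit ↥I (aP 1)) (fun j p q e => ?_) 1 m (by decide) hm
        (MulAction.mem_orbit_self _)
      obtain ⟨f, hf, rfl⟩ := hlift j
      have hq : (⟨_, hf⟩ : ↥I) • aP p = aP q := by
        rw [hsm]
        show lin (aEl j) * aP p * (lin (aEl j))⁻¹ = aP q
        rw [e, mul_inv_cancel_right]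
      rw [← hq]
      constructor
      · intro h; exact MulAction.mem_orbit_of_mem_orbit _ h
      · intro h
        have := MulAction.mem_orbit_of_mem_orbit (⟨_, hf⟩ : ↥I)⁻¹ h
        rwa [inv_smul_smul] at this
  have hcard : Nat.card (MulAction.orbit ↥I (aP 1)) = 15 := by
    rw [horb, Nat.card_image_of_injective (fun a b e => aP_injective e), Nat.card_coe_set_eq,
      Set.ncard_eq_toFinset_card']
    decide
  rw [Nat.card_congr (MulAction.orbitEquivQuotientStabilizer ↥I (aP 1))] at hcard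
  have h3 : 3 ∣ Nat.card (MulAction.stabilizer ↥I (aP 1)) := by
    have hXN : X ∈ N := D.lift_mem_normalizer F hA fun a ha => by
      obtain ⟨b, hb, eb⟩ := F.normX _ (mem_map_of_mem _ ha)
      rwa [show X * a * X⁻¹ = b from Subtype.ext eb.symm]
    let x : ↥I := ⟨φ X, mem_map_of_mem _ hXN⟩
    have hx : x ∈ MulAction.stabilizer ↥I (aP 1) := by
      rw [MulAction.mem_stabilizer_iff, hsm]
      show φ X * aP 1 * (φ X)⁻¹ = aP 1
      rw [← D.aP_scalar F.scal, mul_inv_cancel_right]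
    have h1 : orderOf (⟨x, hx⟩ : MulAction.stabilizer ↥I (aP 1)) = 3 := by
      refine orderOf_eq_prime (Subtype.ext (Subtype.ext ?_)) fun e => ?_
      · show φ X ^ 3 = 1
        rw [← map_pow, pow_three', F.cube, map_one]
      · have h1 : φ X = 1 := congrArg (fun u : MulAction.stabilizer ↥I (aP 1) => ((u : ↥I) : Equiv.Perm V6)) e
        have h := F.scal vB
        rw [h1, Equiv.Perm.one_apply] at h
        exact absurd h (by decide +kernel)
    exact h1 ▸ orderOf_dvd_natCard _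
  rw [show 45 = 15 * 3 from rfl, Subgroup.card_eq_card_quotient_mul_card_subgroup (MulAction.stabilizer ↥I (aP 1)),
    hcard]
  exact Nat.mul_dvd_mul_left 15 h3

theorem exists_normData {P : Sylow 2 G} (hAP : A.map (centralizer ({z} : Set G)).subtype ≤ P)
    (hP : ∀ x : ↥(centralizer ({z} : Set G)), (x : G) ∈ (P : Subgroup G) → ∃ n < 256, φ x = eP n)
    (hcP : Nat.card P = 2 ^ 21) :
    ∃ el, NormData z (A.map (centralizer ({z} : Set G)).subtype) el := by
  classical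
  obtain ⟨el, C⟩ := D.exists_chart hA hUL hgQ hne hAP hP
  obtain ⟨X, U, B, F⟩ := D.exists_section hA
  set AG := A.map (centralizer ({z} : Set G)).subtype with hAG
  refine ⟨el, C, D.z_mem F, ?_, fun a ha b hb ha1 hb1 hat hbt =>
    D.t_orbit F hA hUL hgQ hne ⟨ha, ha1, hat⟩ ⟨hb, hb1, hbt⟩⟩
  have h21 : 2 ^ 21 ∣ Nat.card ↥(normalizer (AG : Set G)) :=
    hcP ▸ Subgroup.card_dvd_of_le (hUL.normalizes P.isPGroup' hAP)
  have h45 := D.fortyFive_dvd hA
  have h1771 : 1771 ∣ Nat.card ↥(normalizer (AG : Set G)) := by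
    let N := normalizer (AG : Set G)
    letI : MulAction ↥N G := MulAction.compHom G ((MulAut.conj : G →* MulAut G).comp N.subtype)
    have horb : MulAction.orbit ↥N z = {a | a ∈ AG ∧ IsConj z a} := by
      ext a
      constructor
      · rintro ⟨n, rfl⟩
        exact ⟨(mem_normalizer_iff.1 n.2 z).1 (D.z_mem F), isConj_iff.2 ⟨n, rfl⟩⟩
      · rintro ⟨ha, hz⟩
        obtain ⟨c, hc⟩ := isConj_iff.1 hz
        obtain ⟨n, hn, e⟩ := hUL.fusion (D.z_mem F) (g := c) (hc ▸ ha)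
        exact ⟨⟨n, hn⟩, e.trans hc⟩
    have h := Nat.card_congr (MulAction.orbitEquivQuotientStabilizer ↥N z)
    rw [Nat.card_coe_set_eq, horb, D.ncard_Z F hA, Finset.sum_range_succ', D.cnt_zero F hgQ hne,
      Finset.sum_congr rfl (g := fun _ => 112) fun i hi => ?_, Finset.sum_const, Finset.card_range,
      smul_eq_mul] at h
    · have h2 : (MulAction.stabilizer ↥N z).index ∣ Nat.card ↥N := Subgroup.index_dvd_card _
      rw [Subgroup.index, ← h] at h2
      exact h2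
    · exact D.cnt_eq F hA hUL hgQ hne (m := (⟨i + 1, by have := Finset.mem_range.1 hi; omega⟩ : Fin 16))
        fun e => Nat.succ_ne_zero i (congrArg Fin.val e)
  refine Nat.Coprime.mul_dvd_of_dvd_of_dvd (by norm_num) (Nat.Coprime.mul_dvd_of_dvd_of_dvd (by norm_num) h21 h45) h1771

end Data

theorem exists_normData_of_type {z : G} {Q : Subgroup (centralizer ({z} : Set G))} [Q.Normal]
    (hF : Cfsg.IsOfLargeFischerTypeAt z Q) (T : Sylow 2 G) :
    ∃ (c : G) (el : Cfsg.GolayPt → G) (A : Subgroup G), z ∈ A ∧ NormData z A el ∧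
      Cfsg.thompsonSubgroupOf 2 (T : Subgroup G) = A.map (MulAut.conj c).toMonoidHom := by
  obtain ⟨vec, φ, o, D, -, g, hgQ, hne⟩ := exists_data hF
  obtain ⟨A, P, hA, hUL, hAP, -, hP, hcP, hT⟩ := D.exists_thompson hgQ hne
  obtain ⟨el, N⟩ := D.exists_normData hA hUL hgQ hne hAP hP hcP
  obtain ⟨c, -, hc⟩ := hT T
  exact ⟨c, el, _, N.z_mem, N, hc⟩

namespace Th

/-- A subgroup of small index is everything. -/
theorem small_index {H : Subgroup ↥Cfsg.M24} (h : H.index ≤ 3) : H = ⊤ := by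
  haveI := Cfsg.Agent.S0365.result
  rcases (Subgroup.normalCore_normal H).eq_bot_or_eq_top with e | e
  · exfalso
    let f := MulAction.toPermHom ↥Cfsg.M24 (↥Cfsg.M24 ⧸ H)
    have hf : Function.Injective f := by
      rw [← MonoidHom.ker_eq_bot_iff, ← Subgroup.normalCore_eq_ker, e]
    have h1 := Nat.card_le_card_of_injective f hf
    rw [CfsgLib.Spor.card_M24, Nat.card_perm] at h1
    have h2 := Nat.factorial_le h
    rw [Subgroup.index] at h2
    have h3 : (Nat.factorial 3) = 6 := rfl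
    omega
  · exact top_le_iff.1 (e.symm.le.trans (Subgroup.normalCore_le H))

end Th

/-- The quotient of the normalizer. -/
theorem NormData.exists_iso {z : G} {A : Subgroup G} {el : Cfsg.GolayPt → G} (N : NormData z A el) :
    ∃ ψ : ↥(normalizer (A : Set G)) →* ↥Cfsg.M24, Function.Surjective ψ ∧
      ψ.ker = A.subgroupOf (normalizer (A : Set G)) ∧
      ∀ (m : ↥(normalizer (A : Set G))) p q, p ≠ q → (m : G) * (el p * el q) * (m : G)⁻¹ =
        el ((ψ m : Equiv.Perm Cfsg.GolayPt) p) * el ((ψ m : Equiv.Perm Cfsg.GolayPt) q) := by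
  obtain ⟨ψ, hψ, hk⟩ := N.chart.exists_action
  refine ⟨ψ, ?_, hk, hψ⟩
  rw [← MonoidHom.range_eq_top]
  refine Th.small_index ?_
  have hAN : A ≤ normalizer (A : Set G) := Subgroup.le_normalizer
  have h := Subgroup.card_eq_card_quotient_mul_card_subgroup ψ.ker
  rw [Nat.card_congr (QuotientGroup.quotientKerEquivRange ψ).toEquiv, hk,
    Nat.card_congr (subgroupOfEquivOfLe hAN).toEquiv, N.chart.uniq.2.2.1] at h
  have h2 := Subgroup.card_mul_index ψ.range
  rw [CfsgLib.Spor.card_M24] at h2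
  obtain ⟨k, hk'⟩ := N.order
  have h3 : Nat.card ψ.range = 81607680 * k := by
    rw [hk'] at h
    refine Nat.eq_of_mul_eq_mul_right (show 0 < 2 ^ 11 by norm_num) (h.symm.trans ?_)
    rw [show 2 ^ 21 * 45 * 1771 = 2 ^ 11 * 81607680 by norm_num]
    ring
  have hk0 : 0 < k := by
    rcases Nat.eq_zero_or_pos k with e | e
    · exfalso
      rw [h3, e] at h2
      norm_num at h2
    · exact e
  rw [h3] at h2
  have : 81607680 * ψ.range.index ≤ 81607680 * k * ψ.range.index :=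
    Nat.mul_le_mul_right _ (Nat.le_mul_of_pos_right _ hk0)
  omega

/-- The stabilizer of a noncentral involution is that of two points. -/
theorem stab_pair {z : G} {A : Subgroup G} {el : Cfsg.GolayPt → G} (N : NormData z A el) (c : G) {t : G}
    (htA : t ∈ A.map (MulAut.conj c).toMonoidHom) (ht1 : t ≠ 1) (ht : ¬ IsConj z t) :
    ∃ _ : ((A.map (MulAut.conj c).toMonoidHom).subgroupOf
        (normalizer ((A.map (MulAut.conj c).toMonoidHom : Subgroup G) : Set G) ⊓ centralizer ({t} : Set G))).Normal,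
      Nonempty (↥(normalizer ((A.map (MulAut.conj c).toMonoidHom : Subgroup G) : Set G) ⊓ centralizer ({t} : Set G)) ⧸
        (A.map (MulAut.conj c).toMonoidHom).subgroupOf
          (normalizer ((A.map (MulAut.conj c).toMonoidHom : Subgroup G) : Set G) ⊓ centralizer ({t} : Set G)) ≃*
        ↥(Cfsg.M24 ⊓ MulAction.stabilizer (Equiv.Perm Cfsg.GolayPt) ({none, some 0} : Set Cfsg.GolayPt))) := by
  classical
  set A' := A.map (MulAut.conj c).toMonoidHom with hA'
  set C := normalizer (A' : Set G) ⊓ centralizer ({t} : Set G) with hC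
  obtain ⟨ψ, hs, hk, hψ⟩ := N.exists_iso
  set t0 := c⁻¹ * t * c with ht0
  have ht0A : t0 ∈ A := mem_conj_map.1 htA
  have hback : c * t0 * c⁻¹ = t := by rw [ht0]; group
  obtain ⟨p, q, hpq, hpqe⟩ := N.chart.exists_pair t0 ht0A (fun e => ht1 (by rw [← hback, e]; group))
    (fun h => ht (hback ▸ (Data.conj_iff_conj c t0).2 h))
  obtain ⟨k, hk24, hkb⟩ := CfsgLib.Spor.exists_mem_M24_bpt 2 (by norm_num) (fun i => if i = 0 then p else q)
    fun i hi j hj h => by
      rcases (show i = 0 ∨ i = 1 by omega) with rfl | rfl <;> rcases (show j = 0 ∨ j = 1 by omega) with rfl | rfl <;>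
        simp at h ⊢
      · exact hpq h
      · exact hpq h.symm
  have hk0 : k none = p := by
    have := hkb 0 (by norm_num)
    rwa [show bpt 0 = none by decide +kernel, if_pos rfl] at this
  have hk1 : k (some 0) = q := by
    have := hkb 1 (by norm_num)
    rwa [show bpt 1 = some 0 by decide +kernel, if_neg (by norm_num)] at this
  let down : ↥C →* ↥(normalizer (A : Set G)) :=
    { toFun := fun m => ⟨c⁻¹ * (m : G) * c, normalizer_conj_map.1 m.2.1⟩
      map_one' := Subtype.ext (show c⁻¹ * 1 * c = 1 by group)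
      map_mul' := fun m n => Subtype.ext (show c⁻¹ * ((m : G) * n) * c =
        (c⁻¹ * (m : G) * c) * (c⁻¹ * (n : G) * c) by group) }
  let kM : ↥Cfsg.M24 := ⟨k, hk24⟩
  let χ0 : ↥C →* ↥Cfsg.M24 := ((MulAut.conj kM⁻¹).toMonoidHom.comp ψ).comp down
  have hcomm : ∀ a b, el a * el b = el b * el a := fun a b => N.chart.uniq.2.1 _ (N.chart.mem a) _ (N.chart.mem b)
  have hpair : ∀ (σ : Equiv.Perm Cfsg.GolayPt), el (σ p) * el (σ q) = el p * el q ↔
      (σ p = p ∧ σ q = q) ∨ (σ p = q ∧ σ q = p) := by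
    intro σ
    constructor
    · exact fun h => Th.finset_pair_cases (N.chart.pair_eq (fun e => hpq (σ.injective e)) hpq h)
    · rintro (⟨e1, e2⟩ | ⟨e1, e2⟩) <;> rw [e1, e2]
      exact hcomm q p
  have hval : ∀ m, ((χ0 m : ↥Cfsg.M24) : Equiv.Perm Cfsg.GolayPt) =
      k⁻¹ * (ψ (down m) : Equiv.Perm Cfsg.GolayPt) * k := fun m => by
    show k⁻¹ * (ψ (down m) : Equiv.Perm Cfsg.GolayPt) * k⁻¹⁻¹ = _
    rw [inv_inv]
  have hstab : ∀ σ : Equiv.Perm Cfsg.GolayPt,
      k⁻¹ * σ * k ∈ MulAction.stabilizer (Equiv.Perm Cfsg.GolayPt) ({none, some 0} : Set Cfsg.GolayPt) ↔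
        (σ p = p ∧ σ q = q) ∨ (σ p = q ∧ σ q = p) := by
    intro σ
    have e1 : ∀ x y, (k⁻¹ * σ * k) x = y ↔ σ (k x) = k y := fun x y => by
      rw [Equiv.Perm.mul_apply, Equiv.Perm.mul_apply, Equiv.Perm.inv_def, Equiv.symm_apply_eq]
    rw [MulAction.mem_stabilizer_iff, Set.smul_set_insert, Set.smul_set_singleton, Equiv.Perm.smul_def,
      Equiv.Perm.smul_def, Set.pair_eq_pair_iff, e1, e1, e1, e1, hk0, hk1]
  have hmem : ∀ m : ↥C, ((χ0 m : ↥Cfsg.M24) : Equiv.Perm Cfsg.GolayPt) ∈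
      Cfsg.M24 ⊓ MulAction.stabilizer (Equiv.Perm Cfsg.GolayPt) ({none, some 0} : Set Cfsg.GolayPt) := by
    intro m
    refine ⟨(χ0 m).2, ?_⟩
    show ((χ0 m : ↥Cfsg.M24) : Equiv.Perm Cfsg.GolayPt) ∈
      MulAction.stabilizer (Equiv.Perm Cfsg.GolayPt) ({none, some 0} : Set Cfsg.GolayPt)
    rw [hval, hstab, ← hpair, ← hψ (down m) p q hpq, ← hpqe]
    show c⁻¹ * (m : G) * c * t0 * (c⁻¹ * (m : G) * c)⁻¹ = t0
    have hm : (m : G) * t = t * m := mem_centralizer_singleton_iff.1 m.2.2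
    calc c⁻¹ * (m : G) * c * t0 * (c⁻¹ * (m : G) * c)⁻¹ = c⁻¹ * ((m : G) * (c * t0 * c⁻¹) * (m : G)⁻¹) * c := by group
      _ = t0 := by rw [hback, hm, mul_inv_cancel_right]
  let χ : ↥C →* ↥(Cfsg.M24 ⊓ MulAction.stabilizer (Equiv.Perm Cfsg.GolayPt) ({none, some 0} : Set Cfsg.GolayPt)) :=
    { toFun := fun m => ⟨_, hmem m⟩
      map_one' := Subtype.ext (show ((χ0 1 : ↥Cfsg.M24) : Equiv.Perm Cfsg.GolayPt) = 1 by rw [map_one]; rfl)
      map_mul' := fun m n => Subtype.ext (show ((χ0 (m * n) : ↥Cfsg.M24) : Equiv.Perm Cfsg.GolayPt) =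
        (χ0 m : Equiv.Perm Cfsg.GolayPt) * (χ0 n : Equiv.Perm Cfsg.GolayPt) by rw [map_mul]; rfl) }
  have hsurj : Function.Surjective χ := by
    rintro ⟨τ, hτ, hτs⟩
    obtain ⟨m, hm⟩ := hs ⟨k * τ * k⁻¹, mul_mem (mul_mem hk24 hτ) (inv_mem hk24)⟩
    have hσ : ((ψ m : ↥Cfsg.M24) : Equiv.Perm Cfsg.GolayPt) = k * τ * k⁻¹ := congrArg Subtype.val hm
    have hfix : (m : G) * t0 * (m : G)⁻¹ = t0 := by
      rw [hpqe, hψ m p q hpq, hpair, ← hstab, hσ, show k⁻¹ * (k * τ * k⁻¹) * k = τ by group]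
      exact hτs
    have hmN : c * (m : G) * c⁻¹ ∈ C := by
      refine ⟨normalizer_conj_map.2 (by rw [show c⁻¹ * (c * (m : G) * c⁻¹) * c = (m : G) by group]; exact m.2),
        mem_centralizer_singleton_iff.2 ?_⟩
      rw [← hback]
      calc c * (m : G) * c⁻¹ * (c * t0 * c⁻¹) = c * ((m : G) * t0 * (m : G)⁻¹) * ((m : G) * c⁻¹) := by group
        _ = _ := by rw [hfix]; group
    refine ⟨⟨_, hmN⟩, Subtype.ext ?_⟩
    show ((χ0 _ : ↥Cfsg.M24) : Equiv.Perm Cfsg.GolayPt) = τ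
    rw [hval, show down ⟨_, hmN⟩ = m from Subtype.ext (show c⁻¹ * (c * (m : G) * c⁻¹) * c = m by group), hσ]
    group
  have hker : χ.ker = A'.subgroupOf C := by
    ext m
    have h1 : m ∈ χ.ker ↔ down m ∈ ψ.ker := by
      rw [MonoidHom.mem_ker, MonoidHom.mem_ker]
      constructor
      · intro h
        have h' : ((χ0 m : ↥Cfsg.M24) : Equiv.Perm Cfsg.GolayPt) = 1 := congrArg Subtype.val h
        rw [hval] at h'
        refine Subtype.ext ?_
        calc ((ψ (down m) : ↥Cfsg.M24) : Equiv.Perm Cfsg.GolayPt)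
            = k * (k⁻¹ * (ψ (down m) : Equiv.Perm Cfsg.GolayPt) * k) * k⁻¹ := by group
          _ = 1 := by rw [h']; group
      · intro h
        refine Subtype.ext ?_
        show ((χ0 m : ↥Cfsg.M24) : Equiv.Perm Cfsg.GolayPt) = 1
        rw [hval, h]
        simp
    rw [h1, hk, mem_subgroupOf, mem_subgroupOf, hA', mem_conj_map]
    rfl
  haveI : (A'.subgroupOf C).Normal := hker ▸ χ.normal_ker
  exact ⟨inferInstance, ⟨(QuotientGroup.quotientMulEquivOfEq hker.symm).trans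
    (QuotientGroup.quotientKerEquivOfSurjective χ hsurj)⟩⟩

end CfsgLib.Spor.LargeFischer
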