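import Cfsg.Agent.Lib.Spor.LargeFischer.ThompsonChart
import Cfsg.Agent.Lib.Spor.GolayWeights
import Cfsg.Agent.S0365

/-!
# The normalizer modulo the large subgroup is the automorphism group of the code
-/

set_option autoImplicit false
set_option maxRecDepth 100000

namespace CfsgLib.Spor.LargeFischer

open Subgroup CfsgLib.Spor
open scoped Pointwise

namespace Th

/-- The word of a pair of points. -/
def pw (p q : Cfsg.GolayPt) : Cfsg.GolayPt → ZMod 2 := Pi.single p 1 + Pi.single q 1

theorem dot_pw (r : ℕ) (p q : Cfsg.GolayPt) : dotWord r (pw p q) = word r p + word r q := by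
  rw [dotWord_apply]
  simp [pw, mul_add, Finset.sum_add_distrib, Pi.single_apply]

theorem pw_zero {a b c d e f : Cfsg.GolayPt} (h : ∀ r ∈ rows, dotWord r (pw a b + pw c d + pw e f) = 0) :
    pw a b + pw c d + pw e f = 0 := by
  classical
  have hw := mem_golayCode_iff.2 h
  set w := pw a b + pw c d + pw e f
  have hle : (Cfsg.support₂ w).card ≤ 6 := by
    refine (Finset.card_le_card (t := {a, b, c, d, e, f}) fun r hr => ?_).trans ?_
    · by_contra hh
      simp only [Finset.mem_insert, Finset.mem_singleton, not_or] at hh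
      have h0 : w r = 0 := by simp [w, pw, hh.1, hh.2.1, hh.2.2.1, hh.2.2.2.1, hh.2.2.2.2.1, hh.2.2.2.2.2]
      simp [Cfsg.support₂, h0] at hr
    · refine (Finset.card_insert_le _ _).trans (Nat.succ_le_succ ?_)
      refine (Finset.card_insert_le _ _).trans (Nat.succ_le_succ ?_)
      refine (Finset.card_insert_le _ _).trans (Nat.succ_le_succ ?_)
      refine (Finset.card_insert_le _ _).trans (Nat.succ_le_succ ?_)
      exact Finset.card_le_two
  have hd := card_of_mem_supports (s := Cfsg.support₂ w) ⟨w, hw, rfl⟩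
  have h0 : (Cfsg.support₂ w).card = 0 := by omega
  refine support₂_injective ?_
  rw [Finset.card_eq_zero.1 h0]
  simp [Cfsg.support₂]

theorem even_rows : ∀ r ∈ rows, ∑ p, word r p = 0 := by decide +kernel

theorem perm_of_pairs {σ τ : Equiv.Perm Cfsg.GolayPt}
    (h : ∀ p q, p ≠ q → ({σ p, σ q} : Finset Cfsg.GolayPt) = {τ p, τ q}) : σ = τ := by
  refine Equiv.ext fun p => ?_
  obtain ⟨q, r, hpq, hpr, hqr⟩ : ∃ q r, p ≠ q ∧ p ≠ r ∧ q ≠ r := by
    have : ∀ p : Cfsg.GolayPt, ∃ q r, p ≠ q ∧ p ≠ r ∧ q ≠ r := by decide +kernel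
    exact this p
  have h1 : σ p ∈ ({τ p, τ q} : Finset Cfsg.GolayPt) := h p q hpq ▸ Finset.mem_insert_self _ _
  have h2 : σ p ∈ ({τ p, τ r} : Finset Cfsg.GolayPt) := h p r hpr ▸ Finset.mem_insert_self _ _
  rw [Finset.mem_insert, Finset.mem_singleton] at h1 h2
  rcases h1 with h1 | h1
  · exact h1
  · exact h2.resolve_right fun h2 => hqr (τ.injective (h1.symm.trans h2))

theorem finset_pair_cases {α : Type*} [DecidableEq α] {a b c d : α} (h : ({a, b} : Finset α) = {c, d}) :
    (a = c ∧ b = d) ∨ (a = d ∧ b = c) := by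
  have ha : a ∈ ({c, d} : Finset α) := h ▸ Finset.mem_insert_self _ _
  have hb : b ∈ ({c, d} : Finset α) := h ▸ Finset.mem_insert_of_mem (Finset.mem_singleton_self _)
  have hc : c ∈ ({a, b} : Finset α) := h.symm ▸ Finset.mem_insert_self _ _
  have hd : d ∈ ({a, b} : Finset α) := h.symm ▸ Finset.mem_insert_of_mem (Finset.mem_singleton_self _)
  simp only [Finset.mem_insert, Finset.mem_singleton] at ha hb hc hd
  grind

end Th

open Th

variable {G : Type*} [Group G] [Finite G] {z : G} {A : Subgroup G} {el : Cfsg.GolayPt → G}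

namespace Chart24

variable (C : Chart24 z A el)
include C

theorem dot_eq_zero {a b c d e f : Cfsg.GolayPt} (h : el a * el b * (el c * el d) * (el e * el f) = 1) :
    pw a b + pw c d + pw e f = 0 := by
  refine pw_zero fun r hr => ?_
  obtain ⟨k, Λ, hΛ, hrow⟩ := C.row r hr
  have h1 : Λ 1 = 0 := by
    have := hΛ 1 (one_mem _) 1 (one_mem _)
    rw [one_mul] at this
    exact (show ∀ a : ZMod 2, a = a + a → a = 0 by decide) _ this
  have m : ∀ p q, el p * el q ∈ A := fun p q => mul_mem (C.mem p) (C.mem q)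
  have h2 := congrArg Λ h
  rw [hΛ _ (mul_mem (m a b) (m c d)) _ (m e f), hΛ _ (m a b) _ (m c d), hΛ _ (C.mem a) _ (C.mem b),
    hΛ _ (C.mem c) _ (C.mem d), hΛ _ (C.mem e) _ (C.mem f), h1] at h2
  rw [map_add, map_add, dot_pw, dot_pw, dot_pw, hrow, hrow, hrow, hrow, hrow, hrow, ← h2]
  exact (show ∀ k x y u v p q : ZMod 2, k + x + (k + y) + (k + u + (k + v)) + (k + p + (k + q)) =
    x + y + (u + v) + (p + q) by decide) _ _ _ _ _ _ _

theorem pair_eq {a b c d : Cfsg.GolayPt} (hab : a ≠ b) (hcd : c ≠ d) (h : el a * el b = el c * el d) :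
    ({a, b} : Finset Cfsg.GolayPt) = {c, d} := by
  have hw := C.dot_eq_zero (a := a) (b := b) (c := c) (d := d) (e := a) (f := a)
    (by rw [h, C.uniq.1 _ (mul_mem (C.mem c) (C.mem d)), C.uniq.1 _ (C.mem a), one_mul])
  have key : ∀ t, (t = a ∨ t = b) ↔ (t = c ∨ t = d) := fun t => by
    have e := congrFun hw t
    have hs : ∀ u v, (Pi.single u 1 : Cfsg.GolayPt → ZMod 2) v = b2z (decide (v = u)) := fun u v => by
      by_cases h : v = u <;> simp [h, b2z]
    simp only [pw, Pi.add_apply, Pi.zero_apply, hs] at e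
    have h1 : (decide (t = a) && decide (t = b)) = false := by
      simp only [Bool.and_eq_false_iff, decide_eq_false_iff_not]
      exact not_and_or.1 fun h => hab (h.1.symm.trans h.2)
    have h2 : (decide (t = c) && decide (t = d)) = false := by
      simp only [Bool.and_eq_false_iff, decide_eq_false_iff_not]
      exact not_and_or.1 fun h => hcd (h.1.symm.trans h.2)
    have key := (show ∀ A B C D : Bool, (A && B) = false → (C && D) = false →
      b2z A + b2z B + (b2z C + b2z D) + (b2z A + b2z A) = 0 → (A || B) = (C || D) by decide) _ _ _ _ h1 h2 e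
    have := congrArg (fun x => x = true) key
    simpa using this
  ext t
  simpa using key t

theorem moves {m : G} (hm : m ∈ normalizer (A : Set G)) {p q : Cfsg.GolayPt} (hpq : p ≠ q) :
    ∃ u v, u ≠ v ∧ m * (el p * el q) * m⁻¹ = el u * el v := by
  obtain ⟨h1, h2⟩ := C.pair p q hpq
  refine C.exists_pair _ ((mem_normalizer_iff.1 hm _).1 (mul_mem (C.mem p) (C.mem q))) (fun h => h1 ?_)
    fun h => h2 ?_
  · calc el p * el q = m⁻¹ * (m * (el p * el q) * m⁻¹) * m := by group
      _ = 1 := by rw [h]; group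
  · exact (Data.conj_iff_conj m _).1 h

theorem exists_perm_of {m : G} (hm : m ∈ normalizer (A : Set G)) :
    ∃ σ ∈ Cfsg.M24, ∀ p q, p ≠ q → m * (el p * el q) * m⁻¹ = el (σ p) * el (σ q) := by
  classical
  choose I J hIJ hf using fun (q : {q : Cfsg.GolayPt // q ≠ none}) => C.moves hm (Ne.symm q.2)
  let s : {q : Cfsg.GolayPt // q ≠ none} → Finset Cfsg.GolayPt := fun q => {I q, J q}
  have hcm : ∀ a b, el a * el b = el b * el a := fun a b => C.uniq.2.1 _ (C.mem a) _ (C.mem b)
  have hmul : ∀ a b c : Cfsg.GolayPt, el a * el b * (el a * el c) = el b * el c := fun a b c => by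
    rw [hcm a b, mul_assoc, ← mul_assoc (el a), C.uniq.1 _ (C.mem a), one_mul]
  have hinj : Function.Injective s := by
    intro q r h
    by_contra hqr
    have hqr' : (q : Cfsg.GolayPt) ≠ r := fun e => hqr (Subtype.ext e)
    have e : el (I q) * el (J q) = el (I r) * el (J r) := by
      rcases finset_pair_cases h with ⟨e1, e2⟩ | ⟨e1, e2⟩
      · rw [e1, e2]
      · rw [e1, e2, hcm]
    rw [← hf q, ← hf r] at e
    have e' := mul_left_cancel (mul_right_cancel e)
    exact (C.pair _ _ hqr').1 (by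
      rw [mul_left_cancel e']
      exact C.uniq.1 _ (C.mem _))
  have hmeet : ∀ q r, q ≠ r → (s q ∩ s r).Nonempty := by
    intro q r hqr
    obtain ⟨e, f, hef, hsum⟩ := C.moves hm (show (q : Cfsg.GolayPt) ≠ r from fun e => hqr (Subtype.ext e))
    have hprod : el (I q) * el (J q) * (el (I r) * el (J r)) * (el e * el f) = 1 := by
      rw [← hf q, ← hf r, ← hsum]
      calc _ = m * ((el none * el q * (el none * el r)) * (el q * el r)) * m⁻¹ := by group
        _ = 1 := by
          rw [hmul, C.uniq.1 _ (mul_mem (C.mem _) (C.mem _)), mul_one, mul_inv_cancel]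
    have hw := C.dot_eq_zero hprod
    by_contra hempty
    have hmem : ∀ t ∈ s q, t ∉ s r := fun t ht ht' => hempty ⟨t, Finset.mem_inter.2 ⟨ht, ht'⟩⟩
    have hm1 := hmem (I q) (by simp [s])
    have hm2 := hmem (J q) (by simp [s])
    simp only [s, Finset.mem_insert, Finset.mem_singleton, not_or] at hm1 hm2
    have ev1 := congrFun hw (I q)
    have ev2 := congrFun hw (J q)
    have ev3 := congrFun hw (I r)
    simp only [Pi.add_apply, Pi.zero_apply, pw, Pi.single_apply, hm1.1, hm1.2, Ne.symm hm1.1, Ne.symm hm1.2,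
      hm2.1, hm2.2, Ne.symm hm2.1, Ne.symm hm2.2, hIJ q, (hIJ q).symm, hIJ r, (hIJ r).symm, if_true, if_false,
      add_zero, zero_add] at ev1 ev2 ev3
    have g1 : I q = e ∨ I q = f := by by_contra hh; rw [not_or] at hh; simp [hh.1, hh.2] at ev1
    have g2 : J q = e ∨ J q = f := by by_contra hh; rw [not_or] at hh; simp [hh.1, hh.2] at ev2
    have g3 : I r = e ∨ I r = f := by by_contra hh; rw [not_or] at hh; simp [hh.1, hh.2] at ev3
    rcases g1 with g1 | g1 <;> rcases g2 with g2 | g2 <;> rcases g3 with g3 | g3 <;>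
      first
      | exact hIJ q (g1.trans g2.symm)
      | exact hm1.1 (g1.trans g3.symm)
      | exact hm2.1 (g2.trans g3.symm)
  obtain ⟨a, ha⟩ := Cfsg.Agent.Lib.Spor.GolayWeights.common_point s (fun q => Finset.card_pair (hIJ q)) hinj hmeet
    (by decide)
  let π : Cfsg.GolayPt → Cfsg.GolayPt := fun t =>
    if h : t = none then a else if I ⟨t, h⟩ = a then J ⟨t, h⟩ else I ⟨t, h⟩
  have hπ0 : π none = a := dif_pos rfl
  have hπ : ∀ q : {q : Cfsg.GolayPt // q ≠ none}, m * (el none * el q) * m⁻¹ = el a * el (π q) ∧ π q ≠ a := by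
    intro q
    have ha' := ha q
    simp only [s, Finset.mem_insert, Finset.mem_singleton] at ha'
    simp only [π, dif_neg q.2, Subtype.coe_eta]
    by_cases hI : I q = a
    · rw [if_pos hI, hf q, hI]
      exact ⟨rfl, fun e => hIJ q (hI.trans e.symm)⟩
    · rw [if_neg hI]
      refine ⟨?_, hI⟩
      rw [hf q, ha'.resolve_left (Ne.symm hI)]
      exact hcm _ _
  have hform : ∀ p q, m * (el p * el q) * m⁻¹ = el (π p) * el (π q) := by
    have h0 : ∀ t, m * (el none * el t) * m⁻¹ = el a * el (π t) := by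
      intro t
      by_cases ht : t = none
      · subst ht
        rw [hπ0, C.uniq.1 _ (C.mem none), C.uniq.1 _ (C.mem a), mul_one, mul_inv_cancel]
      · exact (hπ ⟨t, ht⟩).1
    intro p q
    rw [← hmul none p q, show m * (el none * el p * (el none * el q)) * m⁻¹ =
      (m * (el none * el p) * m⁻¹) * (m * (el none * el q) * m⁻¹) by group, h0, h0, hmul]
  have hπinj : Function.Injective π := by
    intro p q h
    by_contra hpq
    have e := hform p q
    rw [h, C.uniq.1 _ (C.mem _)] at e
    exact (C.pair p q hpq).1 (by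
      calc el p * el q = m⁻¹ * (m * (el p * el q) * m⁻¹) * m := by group
        _ = 1 := by rw [e]; group)
  let σ : Equiv.Perm Cfsg.GolayPt := Equiv.ofBijective π (Finite.injective_iff_bijective.1 hπinj)
  refine ⟨σ, mem_M24_of_rows _ fun r hr => ⟨permWord σ (word r), mem_golayCode_iff.2 fun r' hr' => ?_, by
    rw [support₂_permWord, support₂_word]⟩, fun p q _ => hform p q⟩
  obtain ⟨k, Λ, hΛ, hrow⟩ := C.row r' hr'
  have hA' : ∀ x y, el x * el y ∈ A := fun x y => mul_mem (C.mem x) (C.mem y)
  let L : G → ZMod 2 := fun x => Λ (m * x * m⁻¹)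
  have hL : ∀ x ∈ A, ∀ y ∈ A, L (x * y) = L x + L y := by
    intro x hx y hy
    show Λ _ = Λ _ + Λ _
    rw [show m * (x * y) * m⁻¹ = (m * x * m⁻¹) * (m * y * m⁻¹) by group]
    exact hΛ _ ((mem_normalizer_iff.1 hm x).1 hx) _ ((mem_normalizer_iff.1 hm y).1 hy)
  have hval : ∀ t, word r' (π t) = (k + Λ (el a) + L (el none)) + L (el t) := by
    intro t
    have h0 := congrArg Λ (hform none t)
    rw [hπ0, hΛ _ (C.mem a) _ (C.mem (π t))] at h0
    have h1 : L (el none * el t) = L (el none) + L (el t) := hL _ (C.mem _) _ (C.mem _)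
    rw [show L (el none * el t) = Λ (el a) + Λ (el (π t)) from h0] at h1
    rw [hrow]
    revert h1
    exact (show ∀ k A P N T : ZMod 2, A + P = N + T → k + P = k + A + N + T by decide) _ _ _ _ _
  rw [dotWord_apply]
  calc ∑ t, word r' t * permWord σ (word r) t = ∑ t, word r' (π t) * word r t := by
        rw [← Equiv.sum_comp σ]
        exact Finset.sum_congr rfl fun t _ => by simp [permWord, σ]
    _ = (k + Λ (el a) + L (el none)) * ∑ t, word r t + ∑ t, word r t * L (el t) := by
        rw [Finset.mul_sum, ← Finset.sum_add_distrib]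
        exact Finset.sum_congr rfl fun t _ => by rw [hval]; ring
    _ = 0 := by rw [even_rows r hr, C.rel L hL r hr, mul_zero, add_zero]

/-- The action on the twenty four points. -/
theorem exists_action : ∃ ψ : ↥(normalizer (A : Set G)) →* ↥Cfsg.M24,
    (∀ (m : ↥(normalizer (A : Set G))) p q, p ≠ q → (m : G) * (el p * el q) * (m : G)⁻¹ =
      el ((ψ m : Equiv.Perm Cfsg.GolayPt) p) * el ((ψ m : Equiv.Perm Cfsg.GolayPt) q)) ∧
    ψ.ker = A.subgroupOf (normalizer (A : Set G)) := by
  classical
  choose σ hσM hσ using fun m : ↥(normalizer (A : Set G)) => C.exists_perm_of m.2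
  have huniq : ∀ (m : ↥(normalizer (A : Set G))) (τ : Equiv.Perm Cfsg.GolayPt),
      (∀ p q, p ≠ q → (m : G) * (el p * el q) * (m : G)⁻¹ = el (τ p) * el (τ q)) → σ m = τ := fun m τ h =>
    perm_of_pairs fun p q hpq => C.pair_eq (fun e => hpq ((σ m).injective e)) (fun e => hpq (τ.injective e))
      ((hσ m p q hpq).symm.trans (h p q hpq))
  let ψ : ↥(normalizer (A : Set G)) →* ↥Cfsg.M24 :=
    { toFun := fun m => ⟨σ m, hσM m⟩
      map_one' := Subtype.ext (huniq 1 1 fun p q _ => by simp)
      map_mul' := fun m n => Subtype.ext (huniq (m * n) (σ m * σ n) fun p q hpq => by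
        rw [Subgroup.coe_mul, show (m : G) * n * (el p * el q) * ((m : G) * n)⁻¹ =
          (m : G) * ((n : G) * (el p * el q) * (n : G)⁻¹) * (m : G)⁻¹ by group, hσ n p q hpq,
          hσ m _ _ fun e => hpq ((σ n).injective e)]
        rfl) }
  refine ⟨ψ, fun m p q hpq => hσ m p q hpq, ?_⟩
  ext m
  rw [MonoidHom.mem_ker, mem_subgroupOf]
  constructor
  · intro h
    have h1 : σ m = 1 := congrArg Subtype.val h
    refine C.cent (mem_centralizer_iff.2 fun a ha => ?_)
    have hcl : closure {b | ∃ p q, b = el p * el q} ≤ centralizer ({(m : G)} : Set G) := by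
      refine (closure_le _).2 ?_
      rintro _ ⟨p, q, rfl⟩
      by_cases hpq : p = q
      · subst hpq
        rw [C.uniq.1 _ (C.mem p)]
        exact one_mem _
      · refine mem_centralizer_singleton_iff.2 ?_
        have := hσ m p q hpq
        rw [h1, Equiv.Perm.one_apply, Equiv.Perm.one_apply, mul_inv_eq_iff_eq_mul] at this
        exact this.symm
    exact mem_centralizer_singleton_iff.1 (hcl (C.span a ha))
  · intro h
    refine Subtype.ext (huniq m 1 fun p q _ => ?_)
    rw [Equiv.Perm.one_apply, Equiv.Perm.one_apply, mul_inv_eq_iff_eq_mul]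
    exact C.uniq.2.1 _ h _ (mul_mem (C.mem p) (C.mem q))

end Chart24

end CfsgLib.Spor.LargeFischer
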