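import Cfsg.Agent.Lib.Spor.LargeFischer.ThompsonCount

/-!
# The orbit of length 276

Over each nontrivial member of the quotient the elements not conjugate to `z` form one orbit of the translations.
The central correction of the lifts is determined by invariance and by the count of triangles.
-/

set_option autoImplicit false
set_option maxRecDepth 100000

namespace CfsgLib.Spor.LargeFischer

open Subgroup Matrix CfsgLib.Spor.U43Six CfsgLib.Spor.Fi22.U6 Th

namespace Th

/-- The positions of the free bits of a correction. -/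
def freeBits : List ℕ := [3, 5, 6, 7, 9, 10, 11, 12, 13, 14, 15]

/-- A correction from its free bits. -/
def ecode (b : Fin 11 → Bool) : ℕ :=
  ((List.finRange 11).map fun k => if b k then 2 ^ freeBits.getD k.1 0 else 0).sum

/-- The invariance of a correction. -/
def invOK (e : ℕ) : Bool := (List.range 2).all fun j => (List.range 16).all fun f => (List.range 16).all fun g =>
  f == 0 || g == 0 || f == g ||
    ((e.testBit f ^^ e.testBit g ^^ e.testBit (f ^^^ g)) ==
      (e.testBit (sg j (Fin.ofNat 16 f)).1 ^^ e.testBit (sg j (Fin.ofNat 16 g)).1 ^^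
        e.testBit (sg j (Fin.ofNat 16 (f ^^^ g))).1))

theorem ecode_bits : ∀ b : Fin 11 → Bool, (∀ k : Fin 11, (ecode b).testBit (freeBits.getD k.1 0) = b k) ∧
    (ecode b).testBit 0 = false ∧ ∀ j < 4, (ecode b).testBit (2 ^ j) = false := by decide +kernel

theorem ecode_cases : ∀ b : Fin 11 → Bool, invOK (ecode b) = true → ecode b ∈ survivors := by decide +kernel

theorem bit_positions : ∀ m : Fin 16, m = 0 ∨ (∃ j : Fin 4, m.1 = 2 ^ j.1) ∨ ∃ k : Fin 11, m.1 = freeBits.getD k.1 0 := by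
  decide +kernel

/-- Not conjugate to `z`, on numbers. -/
def isT (e n : ℕ) : Bool :=
  if n / 128 = 0 then n % 64 != 0 && inAI n
  else inImg (n / 128) (n % 64) && (n.testBit 6 == (gBit (n / 128) (n % 64) ^^ e.testBit (n / 128)))

/-- The ordered triangles at a point. -/
def tri (e a : ℕ) : ℕ :=
  let L := (Finset.range 2048).filter fun u => isT e u && isT e (u ^^^ a)
  ((L ×ˢ L).filter fun p => isT e (p.1 ^^^ p.2) = true).card

theorem tri_bad : ∀ e ∈ survivors, e = epsGood ∨ (isT e 1 = true ∧ isT e 128 = true ∧ tri e 1 ≠ tri e 128) := by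
  decide +kernel

theorem b2z_inj : ∀ p q : Bool, b2z p = b2z q → p = q := by decide

/-- The bit of a residue. -/
def z2b (a : ZMod 2) : Bool := decide (a ≠ 0)

theorem b2z_z2b : ∀ a : ZMod 2, b2z (z2b a) = a := by decide

/-- The linear correction given by values on the four generators. -/
def linPart (c : Fin 4 → ZMod 2) (m : Fin 16) : ZMod 2 :=
  b2z (m.1.testBit 0) * c 0 + b2z (m.1.testBit 1) * c 1 + b2z (m.1.testBit 2) * c 2 + b2z (m.1.testBit 3) * c 3

theorem linPart_xor (c : Fin 4 → ZMod 2) (m n : Fin 16) :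
    linPart c (Fin.ofNat 16 (m.1 ^^^ n.1)) = linPart c m + linPart c n := by
  have hlt : (m.1 ^^^ n.1) < 16 := Nat.xor_lt_two_pow (n := 4) m.2 n.2
  simp only [linPart, Fin.val_ofNat, Nat.mod_eq_of_lt hlt, Nat.testBit_xor, b2z_xor]
  ring

theorem linPart_gen (c : Fin 4 → ZMod 2) : ∀ j : Fin 4,
    linPart c ⟨2 ^ j.1, Nat.pow_lt_pow_right (by norm_num) j.2⟩ = c j := by
  intro j
  fin_cases j <;> simp [linPart, b2z, Nat.testBit_eq_decide_div_mod_eq]

/-- The index of a vector of the fixed space. -/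
def wIdx (x : ℕ) : ℕ := (List.range 64).findIdx fun i => Syl.wCodes.getD i 0 == x

theorem img_low : ∀ m < 16, m ≠ 0 → ∀ c < 64,
    inImg m (wIdx (gC (Syl.aIds.getD m 0) (64 * c) ^^^ 64 * c)) = true ∧
    inImg m (wIdx (gC (Syl.aIds.getD m 0) c ^^^ c)) = true := by decide +kernel

theorem img_closed : ∀ m < 16, m ≠ 0 → ∀ i < 64, ∀ j < 64,
    (!inImg m i || !inImg m j || inImg m (i ^^^ j)) = true := by decide +kernel

theorem split_xor : ∀ a < 64, ∀ b < 64, 64 * a + b = (64 * a) ^^^ b := by decide +kernel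

theorem img_surj {m : Fin 16} (hm : m ≠ 0) {i : ℕ} (h : ∃ v, wx (i % 64) = dv m v) : inImg m.1 (i % 64) = true := by
  obtain ⟨v, hv⟩ := h
  obtain ⟨c, hc, rfl⟩ : ∃ c < 4096, dec c = v := ⟨enc v, enc_lt v, dec_enc v⟩
  have hm' : m.1 ≠ 0 := fun e => hm (Fin.ext e)
  have hlo : c % 64 < 64 := Nat.mod_lt _ (by norm_num)
  have hhi : c / 64 < 64 := by omega
  have hsplit : c = (64 * (c / 64)) ^^^ (c % 64) := by
    conv_lhs => rw [← Nat.div_add_mod c 64]
    exact split_xor _ hhi _ hlo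
  have key : ∀ d, d < 4096 → inImg m.1 (wIdx (gC (Syl.aIds.getD m.1 0) d ^^^ d)) = true →
      ∃ k < 64, inImg m.1 k = true ∧ wx k = dv m (dec d) := by
    intro d hd hin
    have hmem : gC (Syl.aIds.getD m.1 0) d ^^^ d ∈ Syl.wCodes := by
      have hW := dv_inW m (dec d)
      rw [dv_dec m hd, InW, enc_dec _ (Nat.xor_lt_two_pow (n := 12) (gC_bound (aIds_lt m) _) hd)] at hW
      exact hW
    obtain ⟨k, hk, ek⟩ := List.mem_map.1 (w_index.2.1 _ hmem)
    have hlt : (List.range 64).findIdx (fun i => Syl.wCodes.getD i 0 == (gC (Syl.aIds.getD m.1 0) d ^^^ d)) <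
        (List.range 64).length := List.findIdx_lt_length_of_exists ⟨k, hk, beq_iff_eq.2 ek⟩
    have hget := List.findIdx_getElem (w := hlt)
    rw [List.getElem_range, beq_iff_eq] at hget
    rw [List.length_range] at hlt
    exact ⟨_, hlt, hin, by rw [wx, Nat.mod_eq_of_lt hlt, hget, dv_dec m hd]⟩
  obtain ⟨a, ha, ha1, ha2⟩ := key _ (by omega) (img_low m.1 m.2 hm' _ hhi).1
  obtain ⟨b, hb, hb1, hb2⟩ := key _ (by omega) (img_low m.1 m.2 hm' _ hlo).2
  have e : wx (a ^^^ b) = wx (i % 64) := by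
    rw [wx_xor, ha2, hb2, ← dv_add, ← dec_xor, ← hsplit, hv]
  rw [← wx_inj (Nat.xor_lt_two_pow (n := 6) ha hb) (Nat.mod_lt i (by norm_num)) e]
  have h := img_closed m.1 m.2 hm' a ha b hb
  rw [ha1, hb1, Bool.not_true, Bool.false_or, Bool.false_or] at h
  exact h

theorem dv_zero (m : Fin 16) : dv m 0 = 0 := by
  rw [← zero_smul Four (0 : V6), dv_smul]
  simp

theorem linPart_zero (c : Fin 4 → ZMod 2) : linPart c 0 = 0 := by simp [linPart, b2z]

end Th

variable {G : Type*} [Group G] [Finite G]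

/-- The central correction describing the orbit of length 276. -/
def IsCorr (z : G) (U : V6 → G) (B : Fin 16 → G) (ε : Fin 16 → ZMod 2) : Prop :=
  ∀ m : Fin 16, m ≠ 0 → ∀ x, InW x → ∀ e, IsT z U B x e m ↔ ∃ v, x = dv m v ∧ e = ε m + gOf m v

namespace Data

variable {z : G} {Q : Subgroup G} {vec : G → V6} {φ : ↥(centralizer ({z} : Set G)) →* Equiv.Perm V6} {o : Outer}
  (D : Data z Q vec φ o) {A : Subgroup ↥(centralizer ({z} : Set G))} {X : ↥(centralizer ({z} : Set G))}
  {U : V6 → G} {B : Fin 16 → G} (F : Frame16 z Q vec φ A X U B)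
  (hA : (∀ a ∈ A, φ a ∈ A16) ∧ (∀ f ∈ A16, ∃ a ∈ A, φ a = f) ∧ (∀ a ∈ A, a * a = 1) ∧
    (∀ a ∈ A, ∀ b ∈ A, a * b = b * a) ∧
    ∀ q : ↥(centralizer ({z} : Set G)), (q : G) ∈ Q → (q ∈ A ↔ (q : G) ∈ wtSet Q vec))
  (hUL : IsUniqueLarge (A.map (centralizer ({z} : Set G)).subtype))
  {g : G} (hgQ : g * z * g⁻¹ ∈ Q) (hne : g * z * g⁻¹ ≠ z)
include D F

omit F in
theorem gOf_zero {m : Fin 16} {v : V6} (h : dv m v = 0) : gOf m v = 0 := by
  rw [gOf, h, show (0 : V6) = (0 : Four) • (0 : V6) from (zero_smul _ _).symm, hf_smul_right]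
  simp [trF]

omit F in
theorem inW_zero : InW (0 : V6) := by rw [← wx_zero]; exact inW_wx 0

include hA hUL hgQ hne in
theorem exists_corr : ∃ ε : Fin 16 → ZMod 2, IsCorr z U B ε := by
  classical
  refine ⟨fun m => if IsT z U B 0 0 m then 0 else 1, fun m hm x hx e => ?_⟩
  set T := (Finset.range 128).filter fun r => ¬ IsConj z (eN z U B (128 * m.1 + r)) with hT
  have hTc : T.card = 16 := by
    have h := Finset.card_filter_add_card_filter_not (s := Finset.range 128)
      (p := fun r => IsConj z (eN z U B (128 * m.1 + r)))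
    rw [Finset.card_range] at h
    have h2 : cntZ z U B m.1 = 112 := D.cnt_eq F hA hUL hgQ hne hm
    rw [cntZ] at h2
    rw [hT]
    omega
  obtain ⟨hli, hnd, hlen⟩ := img_list m.1 m.2 fun e => hm (Fin.ext e)
  have hcode : ∀ b < 2, ∀ i < 64, eN z U B (128 * m.1 + (b * 64 + i)) = mkA z U B (wx i) (b : ZMod 2) m :=
    fun b hb i hi => by
      obtain ⟨h1, h2, h3⟩ := code_parts (m := m.1) hb hi
      rw [eN, h1, h2, h3, show Fin.ofNat 16 m.1 = m from Fin.ext (Nat.mod_eq_of_lt m.2)]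
  have hmk : ∀ y, InW y → ∀ c : ZMod 2, ∃ r < 128, eN z U B (128 * m.1 + r) = mkA z U B y c m := by
    intro y hy c
    obtain ⟨i, hi, rfl⟩ := exists_wx hy
    refine ⟨c.val * 64 + i, by have := ZMod.val_lt c; omega, ?_⟩
    rw [hcode _ (ZMod.val_lt c) i hi, ZMod.natCast_val, ZMod.cast_id]
  -- the translates of an element not conjugate to `z` are all of them
  have hall : ∀ y, InW y → ∀ c, IsT z U B y c m → ∀ y', InW y' → ∀ c', IsT z U B y' c' m →
      ∃ v, y' = y + dv m v ∧ c' = c + trF (hf v y) + gOf m v := by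
    intro y hy c hc y' hy' c' hc'
    have hp : ∀ p ∈ imgWit.getD m.1 [], ∃ r ∈ T, eN z U B (128 * m.1 + r) =
        mkA z U B (y + dv m (dec p.2)) (c + trF (hf (dec p.2) y) + gOf m (dec p.2)) m := by
      intro p hp
      obtain ⟨r, hr, e⟩ := hmk _ (D.inW_add hy (dv_inW m (dec p.2))) (c + trF (hf (dec p.2) y) + gOf m (dec p.2))
      refine ⟨r, Finset.mem_filter.2 ⟨Finset.mem_range.2 hr, ?_⟩, e⟩
      obtain ⟨q, hq, hqv⟩ := D.surj (dec p.2)
      rw [e, ← hqv, D.move_iff F hq hy]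
      exact hc
    choose f hf1 hf2 using hp
    let L := (imgWit.getD m.1 []).attach.map fun p => f p.1 p.2
    have hLn : L.Nodup := by
      refine (List.nodup_attach.2 (List.Nodup.of_map _ hnd)).map_on fun a _ b _ h => ?_
      have e := (hf2 a.1 a.2).symm.trans ((congrArg (fun r => eN z U B (128 * m.1 + r)) h).trans (hf2 b.1 b.2))
      have h1 := add_left_cancel (D.mkA_inj F (D.inW_add hy (dv_inW m _)) (D.inW_add hy (dv_inW m _)) e).1
      rw [(dv_img hm a.2).1, (dv_img hm b.2).1] at h1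
      exact Subtype.ext (List.inj_on_of_nodup_map hnd a.2 b.2
        (wx_inj (img_raw m.1 m.2 (fun e => hm (Fin.ext e)) _ a.2).1
          (img_raw m.1 m.2 (fun e => hm (Fin.ext e)) _ b.2).1 h1))
    have hLT : L.toFinset = T := by
      refine Finset.eq_of_subset_of_card_le (fun r hr => ?_) ?_
      · obtain ⟨p, -, rfl⟩ := List.mem_map.1 (List.mem_toFinset.1 hr)
        exact hf1 _ _
      · rw [List.toFinset_card_of_nodup hLn, hTc, List.length_map, List.length_attach, hlen]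
    obtain ⟨r, hr, e⟩ := hmk y' hy' c'
    have hrT : r ∈ T := Finset.mem_filter.2 ⟨Finset.mem_range.2 hr, by rw [e]; exact hc'⟩
    rw [← hLT, List.mem_toFinset] at hrT
    obtain ⟨p, -, rfl⟩ := List.mem_map.1 hrT
    obtain ⟨h1, h2, -⟩ := D.mkA_inj F hy' (D.inW_add hy (dv_inW m _)) (e.symm.trans (hf2 p.1 p.2))
    exact ⟨_, h1, h2⟩
  have hmove : ∀ y, InW y → ∀ c, IsT z U B y c m → ∀ v, IsT z U B (y + dv m v) (c + trF (hf v y) + gOf m v) m := by
    intro y hy c hc v
    obtain ⟨q, hq, rfl⟩ := D.surj v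
    rw [IsT, D.move_iff F hq hy]
    exact hc
  -- one of them commutes with the scalar
  obtain ⟨r0, hr0⟩ : T.Nonempty := Finset.card_pos.1 (by omega)
  obtain ⟨hr0', hr0T⟩ := Finset.mem_filter.1 hr0
  obtain ⟨y, hy, c, hc⟩ : ∃ y, InW y ∧ ∃ c, IsT z U B y c m := by
    refine ⟨_, inW_wx (r0 % 64), ((r0 / 64 : ℕ) : ZMod 2), ?_⟩
    rw [IsT, ← hcode _ (by have := Finset.mem_range.1 hr0'; omega) _ (Nat.mod_lt _ (by norm_num)),
      show r0 / 64 * 64 + r0 % 64 = r0 by omega]
    exact hr0T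
  have hcX : IsT z U B (Four.w • y) c m := by
    rw [IsT, ← D.conj_X_mkA F hy, conj_iff_conj]
    exact hc
  obtain ⟨v, hv, -⟩ := hall y hy c hc _ (inW_smul hy) c hcX
  have hy0 : y + dv m (Four.w • v) = 0 := by
    rw [dv_smul]
    funext i
    exact (show ∀ a b : Four, Four.w * a = a + b → a + Four.w * b = 0 by decide) _ _ (congrFun hv i)
  have h0 := hmove y hy c hc (Four.w • v)
  rw [hy0] at h0
  set c0 := c + trF (hf (Four.w • v) y) + gOf m (Four.w • v)
  have hzero : ∀ e', IsT z U B 0 e' m → e' = c0 := by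
    intro e' he'
    obtain ⟨w, hw, he⟩ := hall 0 D.inW_zero c0 h0 0 D.inW_zero e' he'
    rw [zero_add] at hw
    rw [he, D.gOf_zero hw.symm, show (0 : V6) = (0 : Four) • (0 : V6) from (zero_smul _ _).symm, hf_smul_right]
    simp [trF]
  have hε : (if IsT z U B 0 0 m then (0 : ZMod 2) else 1) = c0 := by
    split
    · exact hzero 0 ‹_›
    · rcases z2_cases c0 with h | h
      · exact absurd (h ▸ h0) ‹_›
      · exact h.symm
  show IsT z U B x e m ↔ ∃ v, x = dv m v ∧ e = (if IsT z U B 0 0 m then 0 else 1) + gOf m v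
  rw [hε]
  have htr : ∀ w : V6, trF (hf w 0) = 0 := fun w => by
    rw [show (0 : V6) = (0 : Four) • (0 : V6) from (zero_smul _ _).symm, hf_smul_right]
    simp [trF]
  constructor
  · intro h
    obtain ⟨w, hw, he⟩ := hall 0 D.inW_zero c0 h0 x hx e h
    exact ⟨w, hw.trans (zero_add _), by rw [he, htr, add_zero]⟩
  · rintro ⟨w, rfl, rfl⟩
    have h := hmove 0 D.inW_zero c0 h0 w
    rwa [zero_add, htr, add_zero] at h

/-- The lifts corrected by a linear function. -/
theorem frame_shift (c : Fin 4 → ZMod 2) : Frame16 z Q vec φ A X U (fun m => B m * zp z (linPart c m)) := by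
  refine { F with B_lift := fun m => ?_, B_X := fun m => ?_, B_mul := fun m n => ?_ }
  · obtain ⟨b, hb, eb, hφ⟩ := F.B_lift m
    obtain ⟨d, hd, ed⟩ := mem_map.1 (D.zp_mem F (linPart c m))
    refine ⟨b * d, mul_mem hb hd, ?_, ?_⟩
    · rw [Subgroup.coe_mul, eb]
      exact congrArg (B m * ·) ed
    · rw [map_mul, (D.kerφ d).2 (show (d : G) ∈ Q from (show (d : G) = _ from ed) ▸ (D.zp_Q _).1), mul_one, hφ]
  · have hz : Commute (zp z (linPart c m)) (X : G) := by
      rw [zp]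
      split
      · exact Commute.one_left _
      · exact (mem_centralizer_singleton_iff.1 X.2).symm
    exact ((show Commute (B m) (X : G) from F.B_X m).mul_left hz).eq
  · rw [F.B_mul, linPart_xor, D.zp_add]
    have h : Commute (B n) (zp z (linPart c m)) := F.comm _ (D.B_mem F n) _ (D.zp_mem F _)
    calc B m * B n * (zp z (linPart c m) * zp z (linPart c n))
        = B m * (B n * zp z (linPart c m)) * zp z (linPart c n) := by group
      _ = _ := by rw [h.eq]; group

theorem mkA_shift (c : Fin 4 → ZMod 2) {x : V6} (e : ZMod 2) (m : Fin 16) :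
    mkA z U (fun m => B m * zp z (linPart c m)) x e m = mkA z U B x (e + linPart c m) m := by
  have h : Commute (B m) (zp z (linPart c m)) := F.comm _ (D.B_mem F m) _ (D.zp_mem F _)
  rw [mkA, mkA, D.zp_add, h.eq]
  group

/-- The set of the orbit of length 276. -/
def tSet (z : G) (A : Subgroup ↥(centralizer ({z} : Set G))) : Set G :=
  {a | a ∈ A.map (centralizer ({z} : Set G)).subtype ∧ a ≠ 1 ∧ ¬ IsConj z a}

include hA hUL hgQ hne in
theorem t_move {a : G} (ha : a ∈ tSet z A) : ∃ n ∈ normalizer ((A.map (centralizer ({z} : Set G)).subtype : Subgroup G) : Set G),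
    ∃ x e, ∃ m : Fin 16, InW x ∧ m ≠ 0 ∧ n * a * n⁻¹ = mkA z U B x e m := by
  obtain ⟨haA, ha1, haT⟩ := ha
  by_contra hno
  simp only [not_exists, not_and] at hno
  set AG := A.map (centralizer ({z} : Set G)).subtype with hAG
  have hQ : ∀ n ∈ normalizer (AG : Set G), n * a * n⁻¹ ∈ Q := by
    intro n hn
    obtain ⟨x, e, m, hx, he⟩ := D.mkA_surj F ((mem_normalizer_iff.1 hn a).1 haA) hA.1
    by_cases hm : m = 0
    · rw [he, hm]; exact (D.mkA_Q F hx e).1
    · exact absurd he (hno n hn x e m hx hm)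
  have haQ : a ∈ Q := by
    have := hQ 1 (one_mem _)
    rwa [one_mul, inv_one, mul_one] at this
  obtain ⟨y, hy, hmove⟩ := D.move haQ ha1 fun e => haT (e ▸ IsConj.refl z)
  have hyN : y ∈ normalizer (AG : Set G) := mem_normalizer_iff.2 fun b => ⟨fun hb => F.normQ y hy b hb, fun hb => by
    have := F.normQ y⁻¹ (Subgroup.inv_mem Q hy) _ hb
    rwa [show y⁻¹ * (y * b * y⁻¹) * y⁻¹⁻¹ = b by group] at this⟩
  have hz : ∀ n ∈ normalizer (AG : Set G), n * z * n⁻¹ ∈ Q := by
    intro n hn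
    have h1 := hQ n hn
    have h2 := hQ (n * y) (mul_mem hn hyN)
    rw [show n * y * a * (n * y)⁻¹ = n * (y * a * y⁻¹) * n⁻¹ by group, hmove] at h2
    have e : n * z * n⁻¹ = (n * a * n⁻¹)⁻¹ * (n * (a * z) * n⁻¹) := by group
    rw [e]
    exact Subgroup.mul_mem Q (Subgroup.inv_mem Q h1) h2
  obtain ⟨r, hr⟩ : ∃ r, r < 128 ∧ IsConj z (eN z U B (128 * (1 : Fin 16).1 + r)) := by
    classical
    have h : cntZ z U B (1 : Fin 16).1 = 112 := D.cnt_eq F hA hUL hgQ hne (by decide)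
    rw [cntZ] at h
    obtain ⟨r, hr⟩ := Finset.card_pos.1 (lt_of_lt_of_eq (show 0 < 112 by norm_num) h.symm)
    exact ⟨r, Finset.mem_range.1 (Finset.mem_filter.1 hr).1, (Finset.mem_filter.1 hr).2⟩
  obtain ⟨c, hc⟩ := isConj_iff.1 hr.2
  obtain ⟨n, hn, hn'⟩ := hUL.fusion (D.z_mem F) (g := c) (hc ▸ D.eN_mem F _)
  have hq := hz n hn
  rw [hn', hc] at hq
  obtain ⟨d, -, ed, hφ⟩ := D.mkA_phi F (inW_wx (128 * (1 : Fin 16).1 + r)) (b2z ((128 * (1 : Fin 16).1 + r).testBit 6))
    (Fin.ofNat 16 ((128 * (1 : Fin 16).1 + r) / 128))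
  rw [(D.kerφ d).2 (ed.symm ▸ hq : (d : G) ∈ Q), ← aP_zero] at hφ
  have h0 := congrArg Fin.val (aP_injective hφ)
  simp only [Fin.val_ofNat, Fin.val_zero] at h0
  have := hr.1
  norm_num at h0
  omega

include hA in
theorem lift_mem_normalizer {c : ↥(centralizer ({z} : Set G))} (hn : ∀ a ∈ A, c * a * c⁻¹ ∈ A) :
    (c : G) ∈ normalizer ((A.map (centralizer ({z} : Set G)).subtype : Subgroup G) : Set G) := by
  have e : A.map (MulAut.conj c).toMonoidHom = A := by
    refine Subgroup.eq_of_le_of_card_ge (fun x ⟨a, ha, hx⟩ => hx ▸ hn a ha) ?_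
    rw [← Nat.card_congr (A.equivMapOfInjective _ (MulAut.conj c).injective).toEquiv]
  refine mem_normalizer_iff.2 fun b => ⟨?_, fun hb => ?_⟩
  · rintro ⟨a, ha, rfl⟩
    exact ⟨_, hn a ha, rfl⟩
  · obtain ⟨d, hd, hd'⟩ := hb
    obtain ⟨a, ha, ha'⟩ := (e.symm ▸ hd : d ∈ A.map (MulAut.conj c).toMonoidHom)
    have h : (c : G) * a * (c : G)⁻¹ = (c : G) * b * (c : G)⁻¹ := by
      rw [← hd', ← ha']
      rfl
    exact ⟨a, ha, mul_left_cancel (mul_right_cancel h)⟩

include hA in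
theorem conj_lift {c : ↥(centralizer ({z} : Set G))} (hcX : (c : G) * X = X * c) (hn : ∀ a ∈ A, c * a * c⁻¹ ∈ A)
    {ε : Fin 16 → ZMod 2} (hε : IsCorr z U B ε) {m n : Fin 16} (hm : m ≠ 0) (hn0 : n ≠ 0)
    (hc : φ c * aP m = aP n * φ c) : (c : G) * mkA z U B 0 (ε m) m * (c : G)⁻¹ = mkA z U B 0 (ε n) n := by
  obtain ⟨a, ha, ea, hφa⟩ := D.mkA_phi F D.inW_zero (ε m) m
  obtain ⟨x, e, k, hx, he⟩ := D.mkA_surj F (mem_map_of_mem (centralizer ({z} : Set G)).subtype (hn a ha)) hA.1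
  have he' : (c : G) * mkA z U B 0 (ε m) m * (c : G)⁻¹ = mkA z U B x e k := by
    rw [← ea, ← he]; rfl
  obtain ⟨b, -, eb, hφb⟩ := D.mkA_phi F hx e k
  have hk : k = n := aP_injective (by
    rw [← hφb, show b = c * a * c⁻¹ from Subtype.ext (eb.trans he.symm), map_mul, map_mul, map_inv, hφa, hc,
      mul_inv_cancel_right])
  subst hk
  have hX : (X : G) * mkA z U B x e k * (X : G)⁻¹ = mkA z U B x e k := by
    have h0 : (X : G) * mkA z U B 0 (ε m) m * (X : G)⁻¹ = mkA z U B 0 (ε m) m := by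
      rw [D.conj_X_mkA F D.inW_zero, smul_zero]
    rw [← he']
    calc (X : G) * ((c : G) * mkA z U B 0 (ε m) m * (c : G)⁻¹) * (X : G)⁻¹
        = ((X : G) * c) * mkA z U B 0 (ε m) m * ((X : G) * c)⁻¹ := by group
      _ = (c : G) * ((X : G) * mkA z U B 0 (ε m) m * (X : G)⁻¹) * (c : G)⁻¹ := by rw [← hcX]; group
      _ = _ := by rw [h0]
  rw [D.conj_X_mkA F hx] at hX
  have hx0 : x = 0 := funext fun i => (show ∀ a : Four, Four.w * a = a → a = 0 by decide) _
    (congrFun (D.mkA_inj F (inW_smul hx) hx hX).1 i)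
  subst hx0
  have hT : IsT z U B 0 e k := by
    rw [IsT, ← he', conj_iff_conj]
    exact (hε m hm 0 D.inW_zero (ε m)).2 ⟨0, (dv_zero m).symm, by
      rw [D.gOf_zero ((dv_zero m)), add_zero]⟩
  obtain ⟨v, hv, hev⟩ := (hε k hn0 0 D.inW_zero e).1 hT
  rw [he', hev, D.gOf_zero hv.symm, add_zero]

include hA hUL hgQ hne in
/-- The elements not conjugate to `z` form one orbit. -/
theorem t_orbit {a b : G} (ha : a ∈ tSet z A) (hb : b ∈ tSet z A) :
    ∃ n ∈ normalizer ((A.map (centralizer ({z} : Set G)).subtype : Subgroup G) : Set G), n * a * n⁻¹ = b := by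
  obtain ⟨ε, hε⟩ := D.exists_corr F hA hUL hgQ hne
  set AG := A.map (centralizer ({z} : Set G)).subtype with hAG
  let R : G → G → Prop := fun a b => ∃ n ∈ normalizer (AG : Set G), n * a * n⁻¹ = b
  have hsymm : ∀ {a b}, R a b → R b a := fun ⟨n, hn, e⟩ => ⟨n⁻¹, inv_mem hn, by rw [← e]; group⟩
  have htrans : ∀ {a b c}, R a b → R b c → R a c := fun ⟨n, hn, e⟩ ⟨k, hk, e'⟩ =>
    ⟨k * n, mul_mem hk hn, by rw [← e', ← e]; group⟩
  have hbase : ∀ m : Fin 16, m ≠ 0 → R (mkA z U B 0 (ε m) m) (mkA z U B 0 (ε 1) 1) := by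
    intro m hm
    refine a_constant (fun k => k ≠ 0 → R (mkA z U B 0 (ε k) k) (mkA z U B 0 (ε 1) 1)) (fun j p q e => ?_)
      1 m (by decide) hm (fun _ => ⟨1, one_mem _, by group⟩) hm
    obtain ⟨c, hc, hcX, hn⟩ := D.exists_lift F hA j
    have hp : p = 0 ↔ q = 0 := by
      constructor <;> intro h <;> subst h <;> rw [aP_zero] at e
      · rw [mul_one] at e
        exact aP_injective ((mul_right_cancel (e.symm.trans (one_mul _).symm)).trans aP_zero.symm)
      · rw [one_mul] at e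
        exact aP_injective ((mul_left_cancel (e.trans (mul_one _).symm)).trans aP_zero.symm)
    by_cases hp0 : p = 0
    · exact iff_of_true (fun h => absurd hp0 h) (fun h => absurd (hp.1 hp0) h)
    have hq0 : q ≠ 0 := fun h => hp0 (hp.2 h)
    have hR : R (mkA z U B 0 (ε p) p) (mkA z U B 0 (ε q) q) :=
      ⟨c, D.lift_mem_normalizer F hA hn, D.conj_lift F hA hcX hn hε hp0 hq0 (by rw [hc]; exact e)⟩
    exact ⟨fun h _ => htrans (hsymm hR) (h hp0), fun h _ => htrans hR (h hq0)⟩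
  have key : ∀ a ∈ tSet z A, R a (mkA z U B 0 (ε 1) 1) := by
    intro a ha
    obtain ⟨n, hn, x, e, m, hx, hm, hna⟩ := D.t_move F hA hUL hgQ hne ha
    refine htrans ⟨n, hn, hna⟩ (htrans ?_ (hbase m hm))
    have hT : IsT z U B x e m := by rw [IsT, ← hna, conj_iff_conj]; exact ha.2.2
    obtain ⟨v, rfl, rfl⟩ := (hε m hm x hx e).1 hT
    obtain ⟨q, hq, rfl⟩ := D.surj v
    have hqN : q ∈ normalizer (AG : Set G) := mem_normalizer_iff.2 fun b => ⟨fun hb => F.normQ q hq b hb, fun hb => by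
      have := F.normQ q⁻¹ (Subgroup.inv_mem Q hq) _ hb
      rwa [show q⁻¹ * (q * b * q⁻¹) * q⁻¹⁻¹ = b by group] at this⟩
    refine hsymm ⟨q, hqN, ?_⟩
    rw [D.conj_mkA F hq D.inW_zero, zero_add, show (0 : V6) = (0 : Four) • (0 : V6) from (zero_smul _ _).symm,
      hf_smul_right]
    simp [trF]
  exact htrans (key a ha) (hsymm (key b hb))

include hgQ hne in
theorem conj_code {ec : ℕ} {ε : Fin 16 → ZMod 2} (hε : IsCorr z U B ε)
    (hbit : ∀ m : Fin 16, m ≠ 0 → ε m = b2z (ec.testBit m.1)) {n : ℕ} (hn : n < 2048) :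
    (eN z U B n ≠ 1 ∧ ¬ IsConj z (eN z U B n)) ↔ isT ec n = true := by
  by_cases h0 : n / 128 = 0
  · have hn' : n < 128 := by omega
    rw [isT, if_pos h0, D.conj_low F hgQ hne hn', wZ]
    by_cases h64 : n % 64 = 0
    · rw [if_pos h64, h64]
      simp only [bne_self_eq_false, Bool.false_and, Bool.false_eq_true, iff_false, not_and, not_not, beq_iff_eq]
      intro h1
      rcases (show n = 0 ∨ n = 64 by omega) with rfl | rfl
      · exact absurd (D.eN_zero F) h1
      · rfl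
    · rw [if_neg h64]
      have h1 : eN z U B n ≠ 1 := fun h => h64 (by
        rw [D.eN_inj F hn (by norm_num) (h.trans (D.eN_zero F).symm)])
      simp [h1, h64]
  · rw [isT, if_neg h0, Bool.and_eq_true, beq_iff_eq, eN]
    set m : Fin 16 := Fin.ofNat 16 (n / 128)
    have hmv : m.1 = n / 128 := Nat.mod_eq_of_lt (by omega)
    have hm : m ≠ 0 := fun e => h0 (by rw [← hmv, e]; rfl)
    rw [← hmv]
    have h1 : mkA z U B (wx n) (b2z (n.testBit 6)) m ≠ 1 := fun h => hm
      ((D.mkA_inj F (inW_wx n) D.inW_zero (h.trans (D.mkA_one_z F).1.symm)).2.2)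
    obtain ⟨hli, hnd, hlen⟩ := img_list m.1 m.2 fun e => hm (Fin.ext e)
    refine ((and_iff_right h1).trans (hε m hm _ (inW_wx n) _)).trans ?_
    constructor
    · rintro ⟨v, hv, he⟩
      -- every image is listed
      have hin : inImg m.1 (n % 64) = true := img_surj hm ⟨v, by rw [wx_mod, hv]⟩
      refine ⟨hin, ?_⟩
      obtain ⟨p, hp, hp'⟩ := List.mem_map.1 ((hli _ (Nat.mod_lt _ (by norm_num))).1 hin)
      obtain ⟨h2, h3⟩ := dv_img hm hp
      have hd : dv m (v + dec p.2) = 0 := by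
        rw [dv_add, ← hv, h2, hp', wx_mod]
        exact funext fun i => CfsgLib.Spor.Fi22.U6.add_self _
      have hg := gOf_add m v (dec p.2)
      rw [D.gOf_zero hd, h3, show dv m (dec p.2) = dv m v from (h2.trans (by rw [hp', wx_mod])).trans hv] at hg
      have hr : trF (hf v (dv m v)) = 0 := by
        have hs := sym_hf m v v
        revert hs
        generalize hf v (dv m v) = r
        revert r
        decide
      rw [hr, add_zero] at hg
      refine b2z_inj _ _ ?_
      rw [b2z_xor, ← hbit m hm, he, ← hp', show gOf m v = b2z (gBit m.1 p.1) from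
        (show ∀ a b : ZMod 2, 0 = a + b → a = b by decide) _ _ hg]
      exact add_comm _ _
    · rintro ⟨hin, he⟩
      obtain ⟨p, hp, hp'⟩ := List.mem_map.1 ((hli _ (Nat.mod_lt _ (by norm_num))).1 hin)
      obtain ⟨h2, h3⟩ := dv_img hm hp
      refine ⟨dec p.2, by rw [h2, hp', wx_mod], ?_⟩
      rw [he, b2z_xor, h3, hbit m hm, hp']
      exact add_comm _ _

end Data

end CfsgLib.Spor.LargeFischer
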